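import Cfsg.Agent.H912.Core6
import Cfsg.Agent.H924.POne

/-!
# The linear (form-free) Aschbacher theorem: top split (helper917)

`lin_split`: `H ≤ GL ι F`, `F` finite: `H` is reducible, or imprimitive, or normalises an extension field, or
preserves a tensor decomposition, or every normal subgroup of `H` is scalar or absolutely irreducible.
-/

set_option autoImplicit false
set_option linter.unusedSectionVars false
set_option linter.unusedVariables false

namespace Cfsg.Agent.H917

open Cfsg Cfsg.Geo Matrix Cfsg.Agent.H912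
open scoped Kronecker

variable {ι : Type} [Fintype ι] [DecidableEq ι] {F : Type*} [Field F]

/-- A reducible group stabilises a proper non-zero subspace. -/
theorem exists_subspace_of_not_irr {H : Subgroup (GL ι F)} (hirr : ¬ ActsIrreducibly (matrixSet H)) :
    ∃ W : Submodule F (ι → F), W ≠ ⊥ ∧ W ≠ ⊤ ∧ H ≤ subspaceStabilizer W := by
  unfold ActsIrreducibly at hirr
  push Not at hirr
  obtain ⟨W, hW, h0, h1⟩ := hirr
  refine ⟨W, h0, h1, fun h hh v => ?_⟩
  have key : ∀ g ∈ H, ∀ w ∈ W, (g : Matrix ι ι F) *ᵥ w ∈ W := by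
    intro g hg w hw
    exact hW _ ⟨g, hg, rfl⟩ ⟨w, hw, rfl⟩
  constructor
  · intro hv
    exact key h hh v hv
  · intro hv
    have h2 := key h⁻¹ (H.inv_mem hh) _ hv
    change ((h⁻¹ : GL ι F) : Matrix ι ι F) *ᵥ ((h : Matrix ι ι F) *ᵥ v) ∈ W at h2
    rwa [Matrix.mulVec_mulVec, ← Units.val_mul, inv_mul_cancel, Units.val_one, Matrix.one_mulVec] at h2

/-- If the enveloping algebra consists of scalars, the group is scalar. -/
theorem le_scalars_of_env [Nonempty ι] {N : Subgroup (GL ι F)}
    (h : ∀ x ∈ env N, ∃ c : F, x = c • (1 : Matrix ι ι F)) : N ≤ scalars ι F := by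
  intro g hg
  obtain ⟨c, hc⟩ := h _ (mem_env hg)
  have hc0 : c ≠ 0 := by
    rintro rfl
    rw [zero_smul] at hc
    exact g.ne_zero hc
  rw [mem_scalars_iff]
  exact ⟨Units.mk0 c hc0, hc⟩

/-- If the enveloping algebra is everything, the group is absolutely irreducible. -/
theorem absIrr_of_env [Nonempty ι] {N : Subgroup (GL ι F)} (h : env N = ⊤) :
    ActsAbsolutelyIrreducibly (matrixSet N) := by
  constructor
  · intro W hW
    -- W is invariant under all matrices
    have hall : ∀ x : Matrix ι ι F, ∀ w ∈ W, x *ᵥ w ∈ W := by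
      intro x
      have hx : x ∈ env N := by rw [h]; trivial
      unfold env at hx
      induction hx using Algebra.adjoin_induction with
      | mem x hx =>
        intro w hw
        exact hW x hx ⟨w, hw, rfl⟩
      | algebraMap c =>
        intro w hw
        rw [Algebra.algebraMap_eq_smul_one, Matrix.smul_mulVec, Matrix.one_mulVec]
        exact W.smul_mem _ hw
      | add x y _ _ hx hy =>
        intro w hw
        rw [Matrix.add_mulVec]
        exact W.add_mem (hx w hw) (hy w hw)
      | mul x y _ _ hx hy =>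
        intro w hw
        rw [← Matrix.mulVec_mulVec]
        exact hx _ (hy w hw)
    by_cases h0 : W = ⊥
    · exact Or.inl h0
    · right
      obtain ⟨w, hw, hw0⟩ := Submodule.exists_mem_ne_zero_of_ne_bot h0
      obtain ⟨i, hi⟩ := Function.ne_iff.1 hw0
      rw [eq_top_iff]
      intro v _
      have : v = (Matrix.of fun a b => if b = i then v a * (w i)⁻¹ else 0) *ᵥ w := by
        funext a
        simp only [Matrix.mulVec, dotProduct, Matrix.of_apply, ite_mul, zero_mul, Finset.sum_ite_eq',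
          Finset.mem_univ, if_true]
        have hi' : w i ≠ 0 := hi
        field_simp
      rw [this]
      exact hall _ w hw
  · intro M hM
    have hall : ∀ x : Matrix ι ι F, M * x = x * M := by
      intro x
      have hx : x ∈ env N := by rw [h]; trivial
      unfold env at hx
      induction hx using Algebra.adjoin_induction with
      | mem x hx => exact hM x hx
      | algebraMap c => exact (Algebra.commutes c M).symm
      | add x y _ _ hx hy => rw [mul_add, add_mul, hx, hy]
      | mul x y _ _ hx hy => rw [← mul_assoc, hx, mul_assoc, hy, mul_assoc]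
    obtain ⟨i⟩ := ‹Nonempty ι›
    have hM2 : M ∈ Set.range (Matrix.scalar ι) := by
      rw [Matrix.mem_range_scalar_iff_commute_single']
      intro a b
      exact (hall _).symm
    obtain ⟨c, hc⟩ := hM2
    exact ⟨c, by rw [← hc, Matrix.smul_one_eq_diagonal]; rfl⟩

/-- Top split of the linear Aschbacher theorem. -/
theorem lin_split [Finite F] (hcard : 2 ≤ Fintype.card ι) (H : Subgroup (GL ι F)) :
    (∃ W : Submodule F (ι → F), W ≠ ⊥ ∧ W ≠ ⊤ ∧ H ≤ subspaceStabilizer W) ∨
    (∃ (t m : ℕ) (D : Fin t → Submodule F (ι → F)), IsMDecomposition m D ∧ H ≤ decompositionStabilizer D) ∨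
    (∃ (r : ℕ) (K : Subalgebra F (Matrix ι ι F)), r.Prime ∧ IsFieldSubalgebra r K ∧
      H ≤ subalgebraNormalizer K) ∨
    (∃ (n₁ n₂ : ℕ) (e : ι ≃ Fin n₁ × Fin n₂) (P : GL ι F), 2 ≤ n₁ ∧ 2 ≤ n₂ ∧
      H ≤ tensorProductSubgroup n₁ n₂ e P) ∨
    (ActsIrreducibly (matrixSet H) ∧
      ∀ N : Subgroup (GL ι F), N ≤ H → (∀ h ∈ H, ∀ x ∈ N, h * x * h⁻¹ ∈ N) →
        N ≤ scalars ι F ∨ ActsAbsolutelyIrreducibly (matrixSet N)) := by
  have hne : Nonempty ι := Fintype.card_pos_iff.1 (by omega)
  by_cases hirr : ActsIrreducibly (matrixSet H)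
  swap
  · exact Or.inl (exists_subspace_of_not_irr hirr)
  right
  by_cases hspan : ∀ N : Subgroup (GL ι F), N ≤ H → (∀ h ∈ H, ∀ x ∈ N, h * x * h⁻¹ ∈ N) →
        N ≤ scalars ι F ∨ ActsAbsolutelyIrreducibly (matrixSet N)
  · exact Or.inr (Or.inr (Or.inr ⟨hirr, hspan⟩))
  push Not at hspan
  obtain ⟨N, hNH, hN, hns, hnab⟩ := hspan
  have hA : NormAlg H (env N) := NormGrp.normAlg hN
  by_cases hiso : IsIsotypic (env N) (ι → F)
  swap
  · obtain ⟨t, m, D, -, -, h3, h4⟩ := clifford_decomposition hirr hA hiso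
    exact Or.inl ⟨t, m, _, h3, h4⟩
  have hss := semisimple_of_norm hirr hA
  have hsimple : IsSimpleRing (env N) := isSimpleRing_of_isotypic hss hiso
  have hcN : H ≤ subalgebraNormalizer (cen (env N)) := hA.cen.le_normalizer
  have hccomm : ∀ x ∈ cen (env N), ∀ y ∈ cen (env N), x * y = y * x := (cen_field hsimple).comm
  rcases Cfsg.Agent.H924.comm_cases hirr hcN hccomm with ⟨t, m, D, h1, h2, -⟩ | ⟨r, K, h1, -, h3, h4⟩ | hcen
  · exact Or.inl ⟨t, m, D, h1, h2⟩
  · exact Or.inr (Or.inl ⟨r, K, h1, h3, h4⟩)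
  right; right; left
  obtain ⟨n₁, n₂, e, P, hn1, hn2, hn, hmem⟩ := exists_tens hsimple hcen
  refine ⟨n₁, n₂, e, P, ?_, ?_, le_tensorProductSubgroup hn1 hn2 hmem hA⟩
  · -- n₁ = 1: the enveloping algebra is scalar
    by_contra hlt
    have h1 : n₁ = 1 := by omega
    subst h1
    apply hns
    apply le_scalars_of_env
    intro x hx
    obtain ⟨a, rfl⟩ := (hmem x).1 hx
    refine ⟨a 0 0, ?_⟩
    have ha : a = a 0 0 • (1 : Matrix (Fin 1) (Fin 1) F) := by
      ext i j
      fin_cases i; fin_cases j; simp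
    rw [ha]
    have h2 := tens_one e P
    unfold tens at h2 ⊢
    rw [Matrix.smul_kronecker, map_smul, Matrix.mul_smul, Matrix.smul_mul, h2]
    simp
  · by_contra hlt
    have h1 : n₂ = 1 := by omega
    subst h1
    apply hnab
    apply absIrr_of_env
    rw [eq_top_iff]
    rintro x -
    rw [hmem]
    -- every matrix is `tens e P a 1`
    let y : Matrix (Fin n₁ × Fin 1) (Fin n₁ × Fin 1) F :=
      Matrix.reindexAlgEquiv F F e (((P⁻¹ : GL ι F) : Matrix ι ι F) * x * (P : Matrix ι ι F))
    refine ⟨Matrix.of fun i j => y (i, 0) (j, 0), ?_⟩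
    have hy : ((Matrix.of fun i j => y (i, 0) (j, 0) : Matrix (Fin n₁) (Fin n₁) F) ⊗ₖ
        (1 : Matrix (Fin 1) (Fin 1) F)) = y := by
      ext ⟨i, i'⟩ ⟨j, j'⟩
      rw [Matrix.kroneckerMap_apply, Matrix.of_apply]
      have hi' : i' = 0 := Subsingleton.elim _ _
      have hj' : j' = 0 := Subsingleton.elim _ _
      subst hi' hj'
      simp
    unfold tens
    rw [hy]
    have h2 : Matrix.reindexAlgEquiv F F e.symm y = ((P⁻¹ : GL ι F) : Matrix ι ι F) * x * (P : Matrix ι ι F) := by
      ext i j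
      simp [y, Matrix.reindex_apply]
    rw [h2]
    calc x = ((P : Matrix ι ι F) * ((P⁻¹ : GL ι F) : Matrix ι ι F)) * x *
          ((P : Matrix ι ι F) * ((P⁻¹ : GL ι F) : Matrix ι ι F)) := by
            rw [← Units.val_mul, mul_inv_cancel, Units.val_one, one_mul, mul_one]
      _ = _ := by simp only [mul_assoc]

end Cfsg.Agent.H917
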