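import Cfsg.Agent.H917.OmCore
import Cfsg.Agent.H905.MdN
import Cfsg.Agent.H905.Sp4Final
import Cfsg.Agent.H911.AdForm
import Cfsg.Agent.H887.DS.Low
import Cfsg.Agent.H879.Nine.RowPSL
import Cfsg.Agent.H879.Nine.RowPSU
import Cfsg.Agent.H879.Nine.Ctx
import Cfsg.Agent.H929.UThreePlus
import Cfsg.Agent.H861.SzN.Main
import Cfsg.Agent.H708.ReeTw
import Cfsg.Agent.H392.TD.Main
import Cfsg.Agent.H927.LDTwF4
import Cfsg.Agent.H925.NatRank
import Cfsg.Agent.H924.D5L
import Cfsg.Agent.H876.D3.Main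
import Cfsg.Agent.H927.G2Main
import Cfsg.Agent.H875.TwoPlus

/-!
# `Ω₈⁻(q)`: the residual class, defining characteristic (helper917, row S5827)
-/

set_option autoImplicit false
set_option linter.unusedSectionVars false

namespace Cfsg.Agent.H917.Om

open Cfsg Cfsg.Geo Module Matrix Cfsg.Agent.H915.LD

universe u v

/-- the conclusion -/
def Concl (F : Type u) [Field F] [Fintype F] (T : Type v) [Group T] : Prop :=
  (Nonempty (T ≃* ProjectiveSpecialLinearGroup (Fin 3) F) ∧ Fintype.card F % 3 = 2) ∨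
  ((∃ (K : Type) (_ : Field K) (_ : Fintype K), Fintype.card K = Fintype.card F ^ 2 ∧
    Nonempty (T ≃* PSU 3 K (Fintype.card F))) ∧ Fintype.card F % 3 = 1)

variable {F : Type u} [Field F] [Fintype F] {Q : (Fin 8 → F) → F} {H P : Subgroup (GL (Fin 8) F)}

theorem own (p : ℕ) [hp : Fact p.Prime] [CharP F p] (nd : IsNondegenerateQuadraticForm Q)
    (minus : ¬ IsPlusTypeOn Q ⊤) (hH : IsMaximalIn (omegaGL Q) H) (hc : IsResidualCore H P)
    (hL : IsLieTypeChar p (Soc P)) : Concl F (Soc P) := by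
  have hC := core_of_residual hc
  have hs := hC.simple
  have h8 : Fintype.card (Fin 8) = 8 := Fintype.card_fin 8
  have hle : P ≤ omegaGL Q := hc.le.trans hH.1.le
  have hfix : FixesQuadForm (matrixSet P) Q := by
    rintro _ ⟨x, hx, rfl⟩ v
    exact mem_omegaGL_fix (hle hx) v
  have hFQ : FixQ P := ⟨Q, nd, hfix⟩
  have hsd : SD P := H879.Nine.sd_of_fixQ hFQ
  rcases H905.Md.small_dc hC.absIrred.1 hC.perfect hL (by rw [h8]; norm_num) with h | h | h | h | h | h | h | h | h | h | h
  · obtain ⟨K, i1, i2, i3, l, hl, hK, ⟨e⟩⟩ := h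
    rcases (show l = 1 ∨ l = 2 ∨ 3 ≤ l by omega) with rfl | rfl | hl3
    · exact (H875.TwoPlus.omega_minus_eight p nd minus h8 hH hc e).elim
    · left
      obtain ⟨h1, -, h2, h4⟩ := H911.Ad.sd_psl3 (p := p) hC hsd e (by rw [h8]; norm_num)
      have hp3 : p ≠ 3 := by
        rcases h2 with h2 | h2
        · exact h2.1
        · have := h2.2; omega
      have hne1 : Nat.card F % 3 ≠ 1 := fun h => minus (h4 h Q nd hfix)
      have hne0 : Nat.card F % 3 ≠ 0 := by
        intro h0
        have h5 : 3 ∣ Fintype.card F := by rw [← Nat.card_eq_fintype_card]; exact Nat.dvd_of_mod_eq_zero h0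
        obtain ⟨k, -, hk⟩ := FiniteField.card F p
        rw [hk] at h5
        exact hp3 ((Nat.prime_dvd_prime_iff_eq Nat.prime_three hp.out).1 (Nat.prime_three.dvd_of_dvd_pow h5)).symm
      refine ⟨⟨e.trans (LieClassical.FieldTransfer.pslCongr (ι := Fin 3) (FiniteField.ringEquivOfCardEq ?_))⟩, ?_⟩
      · rw [← Nat.card_eq_fintype_card, ← Nat.card_eq_fintype_card, h1]
      · rw [← Nat.card_eq_fintype_card]
        omega
    · exfalso
      rcases (show l + 1 < 8 ∨ l + 1 = 8 ∨ 9 ≤ l + 1 by omega) with h | h | h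
      · have := (H887.DS.sd_of_psl p hC (m := l + 1) (by omega) (by rw [h8]; exact h) (by rw [h8]; omega) e).2.1
        omega
      · have h1 := H905.Md.psl_eq p hC.absIrred hC.perfect hl hK e hC.no_subfield h.symm
        rw [h1.2] at hFQ
        exact H879.Nine.not_fixQ_sl (by norm_num) hFQ
      · have h1 := H905.Md.psl_rank p hC.absIrred hC.perfect hl hK e
        rw [h8] at h1
        omega
  · exfalso
    obtain ⟨K, i1, i2, i3, m, hm, hm8, hK, ⟨e⟩⟩ := h
    rw [h8] at hm8
    rcases (show m = 2 ∨ m = 3 ∨ m = 4 by omega) with rfl | rfl | rfl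
    · obtain ⟨-, -, h1⟩ := H905.Sp4.core_psp4 (p := p) hC (by rw [Nat.card_eq_fintype_card]; exact hK rfl) e
        (by rw [h8]; norm_num)
      rw [h8] at h1
      omega
    · rcases H924.D5.psp6 (p := p) hC (by rw [h8]; norm_num) e with ⟨-, h⟩ | h
      · have := h.card_eq
        simp at this
      · exact minus (h.plus nd hfix)
    · obtain ⟨-, h1⟩ := H925.Nat.psp (p := p) hC (by rw [h8]; norm_num) le_rfl (by norm_num) e
      exact h1.sp_not_fixQ (by norm_num) hFQ
  · obtain ⟨K, i1, i2, i3, N, q, hKq, hN, hN8, hq, ⟨e⟩⟩ := h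
    rcases (show N = 3 ∨ N = 4 ∨ 5 ≤ N by omega) with rfl | rfl | hN5
    · right
      have hq3 : 3 ≤ q := by
        have h1 : 1 < Fintype.card K := Fintype.one_lt_card
        rw [hKq] at h1
        by_contra hcon
        have h4 : q ≠ 2 := fun h => hq ⟨rfl, h⟩
        interval_cases q <;> simp at h1 h4
      obtain ⟨h1, h2⟩ := H929.U3.mod_three_psu3 p hC hq3 hKq e h8 nd hfix minus
      rw [Nat.card_eq_fintype_card] at h1
      subst h1
      exact ⟨⟨K, i1, i2, hKq, ⟨e⟩⟩, h2⟩
    · have := H876.D3.core_psu_four p K (by rw [h8]; norm_num) hKq hC e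
      rw [h8] at this
      omega
    · exact (H879.Nine.own_psu (p := p) (by norm_num) hC hsd hN5 hKq e).elim
  · exfalso
    obtain ⟨rfl, K, i1, i2, m, hm, hK, ⟨e⟩⟩ := h
    exact H861.SzN.sz_false hC hm hK e (by rw [h8]; norm_num) (by rw [h8]; norm_num)
  · exfalso
    obtain ⟨rfl, K, i1, i2, m, hm, hK, ⟨e⟩⟩ := h
    have := H708.ReeSix.ree_eq_seven hC hm hK e (by rw [h8]; norm_num)
    omega
  · exfalso
    obtain ⟨K, i1, i2, i3, m, hm, hm8, hodd, ⟨e⟩⟩ := h
    rw [h8] at hm8
    have h2 : (2 : K) ≠ 0 := by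
      intro h0
      have h3 : CharP K 2 := CharTwo.of_one_ne_zero_of_two_eq_zero one_ne_zero h0
      obtain ⟨k, -, hk⟩ := FiniteField.card K 2
      rw [hk] at hodd
      exact absurd hodd (by
        rw [Nat.not_odd_iff_even]
        exact (even_two).pow_of_ne_zero k.ne_zero)
    rcases (show m = 3 ∨ m = 4 by omega) with rfl | rfl
    · rcases H924.D5.po7 (p := p) hC (by rw [h8]; norm_num) h2 e with ⟨-, h⟩ | h
      · have := h.card_eq
        simp at this
      · exact minus (h.plus nd hfix)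
    · have h1 := (H925.Nat.po_odd (p := p) hC (by rw [h8]; norm_num) le_rfl (by norm_num) h2 e).2.card_eq
      simp at h1
  · exfalso
    obtain ⟨K, i1, i2, i3, m, hm, hm8, ⟨e⟩⟩ := h
    rw [h8] at hm8
    obtain rfl : m = 4 := by omega
    exact minus ((H924.D5.po8plus (p := p) hC (by rw [h8]; norm_num) e).plus nd hfix)
  · exfalso
    obtain ⟨K, i1, i2, i3, m, a, b, hm, hm8, hab, ⟨e⟩⟩ := h
    rw [h8] at hm8
    rcases (show m = 4 ∨ m = 5 by omega) with rfl | rfl
    · rcases H924.D5.po8minus (p := p) hC (by rw [h8]; norm_num) hab e with ⟨τ, h⟩ | h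
      · refine h.not_maximal_omega hc ?_ nd hH
        rw [← LieClassical.OrthForms.coe_minusForm]
        refine H925.isND_of_nondeg (LieClassical.OrthForms.nondeg_minusForm 3 F (τ a) (τ b) fun z₁ z₂ hz => ?_)
        have h4 := hab (τ.symm z₁) (τ.symm z₂) (by
          apply τ.injective
          simpa using hz)
        exact ⟨by simpa using h4.1, by simpa using h4.2⟩
      · exact minus (h.plus nd hfix)
    · obtain ⟨τ, h1⟩ := H925.Nat.po_minus (p := p) hC (by rw [h8]; norm_num) (m := 4) le_rfl (by norm_num) hab e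
      have := h1.card_eq
      simp at this
  · exfalso
    obtain ⟨-, K, i1, i2, i3, hK, ⟨e⟩⟩ := h
    have := (H927.G2.core_g2 p hC (by rw [Nat.card_eq_fintype_card]; exact hK) e (by rw [h8]; norm_num)).2.2.2.2
    rw [h8] at this
    omega
  · exfalso
    obtain ⟨-, K, i1, i2, i3, q, hq, hK, ⟨e⟩⟩ := h
    exact minus ((H392.TD.d4_small p hC hq hK e (by rw [h8]; norm_num)).2.2.2.2 Q nd hfix)
  · exfalso
    obtain ⟨-, hp2, h⟩ := h
    have := H927.LDTwF4.card_le_iso hp2 hC.perfect h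
    rw [h8] at this
    omega

end Cfsg.Agent.H917.Om
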