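import Cfsg.Agent.H917.Transport

/-!
# Tensor powers of the 2-dimensional symplectic form (helper917)

`tensorWreathSubgroup 2 t e P` preserves, up to scalars, the tensor power of the symplectic form on `F²`:
* `tensorWreath_two_le_symplectic` : for `t` odd, or `F` of characteristic 2 (and `t ≥ 1`), a symplectic form;
* `tensorWreath_two_le_quad` : for `t` even and `|F|` odd (`2 ≠ 0`), a non-degenerate quadratic form.
-/

set_option autoImplicit false
set_option linter.unusedSectionVars false
set_option linter.unusedVariables false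

namespace Cfsg.Agent.H917

open Cfsg Cfsg.Geo
open scoped MatrixGroups Matrix Kronecker

variable {ι κ : Type} [Fintype ι] [DecidableEq ι] [Fintype κ] [DecidableEq κ] {F : Type*} [Field F]

/-- The 2 × 2 matrix of the symplectic form. -/
def J2 (F : Type*) [Field F] : Matrix (Fin 2) (Fin 2) F := !![0, 1; -1, 0]

/-- The tensor product of a family of matrices. -/
def tens {m t : ℕ} (gs : Fin t → Matrix (Fin m) (Fin m) F) : Matrix (Fin t → Fin m) (Fin t → Fin m) F :=
  fun x y => ∏ i, gs i (x i) (y i)

lemma tens_mul {m t : ℕ} (a b : Fin t → Matrix (Fin m) (Fin m) F) :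
    tens a * tens b = tens (fun i => a i * b i) := by
  ext x y
  simp only [Matrix.mul_apply, tens]
  rw [Finset.prod_univ_sum, Fintype.piFinset_univ]
  apply Finset.sum_congr rfl
  intro z _
  rw [Finset.prod_mul_distrib]

lemma tens_transpose {m t : ℕ} (a : Fin t → Matrix (Fin m) (Fin m) F) :
    (tens a)ᵀ = tens (fun i => (a i)ᵀ) := by
  ext x y
  simp only [Matrix.transpose_apply, tens]

lemma tens_smul {m t : ℕ} (c : Fin t → F) (a : Fin t → Matrix (Fin m) (Fin m) F) :
    tens (fun i => c i • a i) = (∏ i, c i) • tens a := by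
  ext x y
  simp only [Matrix.smul_apply, tens, smul_eq_mul, Finset.prod_mul_distrib]

lemma tens_one {m t : ℕ} : tens (fun _ : Fin t => (1 : Matrix (Fin m) (Fin m) F)) = 1 := by
  ext x y
  simp only [tens, Matrix.one_apply]
  by_cases h : x = y
  · subst h; simp
  · rw [if_neg h]
    obtain ⟨i, hi⟩ := Function.ne_iff.1 h
    exact Finset.prod_eq_zero (Finset.mem_univ i) (by rw [if_neg hi])

lemma J2_conj (g : Matrix (Fin 2) (Fin 2) F) : gᵀ * J2 F * g = g.det • J2 F := by
  ext i j
  fin_cases i <;> fin_cases j <;>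
    simp [J2, Matrix.mul_apply, Fin.sum_univ_two, Matrix.det_fin_two] <;> ring

lemma J2_transpose : (J2 F)ᵀ = (-1 : F) • J2 F := by
  ext i j
  fin_cases i <;> fin_cases j <;> simp [J2]

lemma J2_sq : J2 F * ((-1 : F) • J2 F) = 1 := by
  ext i j
  fin_cases i <;> fin_cases j <;> simp [J2, Matrix.mul_apply, Fin.sum_univ_two]

/-- The Gram matrix of the tensor power of the symplectic form. -/
def TJ (t : ℕ) (F : Type*) [Field F] : Matrix (Fin t → Fin 2) (Fin t → Fin 2) F := tens (fun _ => J2 F)

lemma TJ_transpose (t : ℕ) : (TJ t F)ᵀ = ((-1 : F) ^ t) • TJ t F := by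
  unfold TJ
  rw [tens_transpose]
  simp only [J2_transpose]
  rw [tens_smul]
  simp

lemma TJ_diag {t : ℕ} (ht : 0 < t) (x : Fin t → Fin 2) : TJ t F x x = 0 := by
  unfold TJ tens
  refine Finset.prod_eq_zero (Finset.mem_univ ⟨0, ht⟩) ?_
  generalize x ⟨0, ht⟩ = a
  fin_cases a <;> simp [J2]

lemma TJ_inv (t : ℕ) : TJ t F * tens (fun _ => (-1 : F) • J2 F) = 1 := by
  unfold TJ
  rw [tens_mul]
  simp only [J2_sq]
  exact tens_one

lemma TJ_inv' (t : ℕ) : tens (fun _ => (-1 : F) • J2 F) * TJ t F = 1 :=
  mul_eq_one_comm.1 (TJ_inv t)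

/-- The bilinear form with Gram matrix `G`. -/
def gramForm (G : Matrix κ κ F) (x y : κ → F) : F := x ⬝ᵥ (G *ᵥ y)

lemma gramForm_mulVec (G g : Matrix κ κ F) (x y : κ → F) :
    gramForm G (g *ᵥ x) (g *ᵥ y) = gramForm (gᵀ * G * g) x y := by
  unfold gramForm
  rw [← Matrix.mulVec_mulVec, ← Matrix.mulVec_mulVec, Matrix.dotProduct_mulVec x gᵀ, Matrix.vecMul_transpose]

lemma gramForm_bilinear (G : Matrix κ κ F) : IsBilinearForm (gramForm G) where
  add_left x y v := by simp only [gramForm, add_dotProduct]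
  smul_left c x v := by simp only [gramForm, smul_dotProduct, smul_eq_mul]
  add_right v x y := by simp only [gramForm, Matrix.mulVec_add, dotProduct_add]
  smul_right v c x := by simp only [gramForm, Matrix.mulVec_smul, dotProduct_smul, smul_eq_mul]

lemma gramForm_smul (c : F) (G : Matrix κ κ F) (x y : κ → F) :
    gramForm (c • G) x y = c * gramForm G x y := by
  simp only [gramForm, Matrix.smul_mulVec, dotProduct_smul, smul_eq_mul]

lemma gramForm_swap (G : Matrix κ κ F) (x y : κ → F) : gramForm G x y = gramForm Gᵀ y x := by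
  unfold gramForm
  rw [dotProduct_comm, ← Matrix.vecMul_transpose, ← Matrix.dotProduct_mulVec]

lemma gramForm_eq_sum (G : Matrix κ κ F) (x y : κ → F) :
    gramForm G x y = ∑ a, ∑ b, x a * G a b * y b := by
  unfold gramForm dotProduct Matrix.mulVec dotProduct
  apply Finset.sum_congr rfl
  intro a _
  rw [Finset.mul_sum]
  apply Finset.sum_congr rfl
  intro b _
  ring

lemma gramForm_nondeg {G G' : Matrix κ κ F} (h : G * G' = 1) : IsNondegenerateForm (gramForm G) := by
  have h' : G' * G = 1 := mul_eq_one_comm.1 h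
  intro v hv
  have key : ∀ w : κ → F, w ≠ 0 → ∃ x, x ⬝ᵥ w ≠ 0 := by
    intro w hw
    obtain ⟨i, hi⟩ := Function.ne_iff.1 hw
    exact ⟨Pi.single i 1, by simpa using hi⟩
  constructor
  · have h1 : G *ᵥ v ≠ 0 := by
      intro h0
      apply hv
      have := congrArg (fun w => G' *ᵥ w) h0
      simpa only [Matrix.mulVec_mulVec, h', Matrix.one_mulVec, Matrix.mulVec_zero] using this
    exact key _ h1
  · have h1 : v ᵥ* G ≠ 0 := by
      intro h0
      apply hv
      have := congrArg (fun w => w ᵥ* G') h0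
      simpa only [Matrix.vecMul_vecMul, h, Matrix.vecMul_one, Matrix.zero_vecMul] using this
    obtain ⟨x, hx⟩ := key _ h1
    refine ⟨x, ?_⟩
    unfold gramForm
    rw [Matrix.dotProduct_mulVec, dotProduct_comm]
    exact hx

/-- A skew-symmetric Gram matrix with zero diagonal gives an alternating form (any characteristic). -/
lemma gramForm_alt {G : Matrix κ κ F} (h : Gᵀ = -G) (hd : ∀ a, G a a = 0) (v : κ → F) : gramForm G v v = 0 := by
  have hG : ∀ a b, G b a = - G a b := fun a b => by
    have := congrFun (congrFun h a) b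
    simpa using this
  rw [gramForm_eq_sum, ← Finset.sum_product']
  apply Finset.sum_involution (fun p _ => (p.2, p.1))
  · rintro ⟨a, b⟩ _
    simp only
    rw [hG a b]; ring
  · rintro ⟨a, b⟩ _ hne heq
    simp only [Prod.mk.injEq] at heq
    apply hne
    simp only
    rw [heq.1, hd]; ring
  · rintro ⟨a, b⟩ _; simp
  · rintro ⟨a, b⟩ _; rfl

lemma tensorWreathStandard_two_le (t : ℕ) :
    tensorWreathStandard 2 t F ≤ similarityGroup (gramForm (TJ t F)) := by
  unfold tensorWreathStandard
  rw [Subgroup.closure_le]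
  rintro g (⟨gs, hg⟩ | ⟨σ, hg⟩)
  · have hg' : (g : Matrix (Fin t → Fin 2) (Fin t → Fin 2) F) = tens (fun i => (gs i : Matrix (Fin 2) (Fin 2) F)) := by
      ext x y; exact hg x y
    refine ⟨∏ i, Matrix.GeneralLinearGroup.det (gs i), fun u v => ?_⟩
    rw [gramForm_mulVec, hg', tens_transpose]
    unfold TJ
    rw [tens_mul, tens_mul]
    simp only [J2_conj]
    rw [tens_smul, gramForm_smul]
    congr 1
    simp
  · refine ⟨1, fun u v => ?_⟩
    have hgv : ∀ (w : (Fin t → Fin 2) → F) x,
        ((g : Matrix (Fin t → Fin 2) (Fin t → Fin 2) F) *ᵥ w) x = w (x ∘ σ) := by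
      intro w x
      simp only [Matrix.mulVec, dotProduct, hg]
      simp
    rw [Units.val_one, one_mul, gramForm_eq_sum, gramForm_eq_sum]
    simp only [hgv]
    let φ : (Fin t → Fin 2) ≃ (Fin t → Fin 2) := Equiv.arrowCongr σ.symm (Equiv.refl _)
    have hφ : ∀ x, φ x = x ∘ σ := fun x => by
      funext i; simp [φ, Equiv.arrowCongr]
    rw [← Equiv.sum_comp φ (fun a => ∑ b, u a * TJ t F a b * v b)]
    apply Finset.sum_congr rfl
    intro x _
    rw [← Equiv.sum_comp φ (fun b => u (φ x) * TJ t F (φ x) b * v b)]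
    apply Finset.sum_congr rfl
    intro y _
    rw [hφ, hφ]
    congr 2
    unfold TJ tens
    simp only [Function.comp_apply]
    exact (Equiv.prod_comp σ (fun i => J2 F (x i) (y i))).symm

/-- `GL₂ ≀ S_t` in its tensor action preserves a symplectic form up to scalars when `t` is odd or the
characteristic is 2. -/
theorem tensorWreath_two_le_symplectic {t : ℕ} (ht : 0 < t) (h : Odd t ∨ (2 : F) = 0)
    (e : ι ≃ (Fin t → Fin 2)) (P : GL ι F) :
    ∃ f : (ι → F) → (ι → F) → F, IsSymplecticForm f ∧ tensorWreathSubgroup 2 t e P ≤ similarityGroup f := by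
  have hT : (TJ t F)ᵀ = - TJ t F := by
    rw [TJ_transpose]
    rcases h with h | h
    · rw [h.neg_one_pow, neg_one_smul]
    · have : (-1 : F) = 1 := by
        have : (1 : F) + 1 = 0 := by rw [one_add_one_eq_two]; exact h
        linear_combination -this
      rw [this, one_pow, one_smul]
      rw [eq_neg_iff_add_eq_zero, ← two_smul F, h, zero_smul]
  have hS : IsSymplecticForm (gramForm (TJ t F)) := by
    refine ⟨gramForm_bilinear _, fun v w => ?_, gramForm_alt hT (TJ_diag ht), gramForm_nondeg (TJ_inv t)⟩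
    rw [gramForm_swap, hT, ← neg_one_smul F, gramForm_smul, neg_one_mul]
  exact ⟨_, pullForm_symplectic e P hS, transport_le_similarityGroup (tensorWreathStandard_two_le t) e P⟩

/-- `GL₂ ≀ S_t` in its tensor action preserves a quadratic form up to scalars when `t` is even and the
characteristic is not 2. -/
theorem tensorWreath_two_le_quad {t : ℕ} (h : Even t) (h2 : (2 : F) ≠ 0)
    (e : ι ≃ (Fin t → Fin 2)) (P : GL ι F) :
    ∃ Q : (ι → F) → F, IsNondegenerateQuadraticForm Q ∧ tensorWreathSubgroup 2 t e P ≤ quadSimilarityGroup Q := by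
  have hT : (TJ t F)ᵀ = TJ t F := by
    rw [TJ_transpose, h.neg_one_pow, one_smul]
  have hb := gramForm_bilinear (TJ t F)
  have hsymm : ∀ u v, gramForm (TJ t F) u v = gramForm (TJ t F) v u := fun u v => by
    rw [gramForm_swap, hT]
  let Q : ((Fin t → Fin 2) → F) → F := fun v => gramForm (TJ t F) v v
  have hpol : QuadraticMap.polar Q = gramForm ((2 : F) • TJ t F) := by
    funext u v
    rw [gramForm_smul]
    simp only [QuadraticMap.polar, Q, hb.add_left, hb.add_right]
    rw [hsymm v u]; ring
  have hQ : IsNondegenerateQuadraticForm Q := by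
    refine ⟨fun c v => ?_, ?_, ?_⟩
    · simp only [Q, hb.smul_left, hb.smul_right]; ring
    · rw [hpol]; exact gramForm_bilinear _
    · rw [hpol]
      apply gramForm_nondeg (G' := (2 : F)⁻¹ • tens (fun _ => (-1 : F) • J2 F))
      rw [Matrix.smul_mul, Matrix.mul_smul, TJ_inv, smul_smul, mul_inv_cancel₀ h2, one_smul]
  refine ⟨_, pullQuad_nondeg e P hQ, transport_le_quadSimilarityGroup (fun g hg => ?_) e P⟩
  obtain ⟨c, hc⟩ := tensorWreathStandard_two_le t hg
  exact ⟨c, fun v => hc v v⟩

end Cfsg.Agent.H917
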