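import Cfsg.Agent.H917.LinSix
import Cfsg.Agent.H917.TensorForm
import Cfsg.Agent.H914.Uni

/-!
# The linear Aschbacher theorem in terms of `InLinearClass` (helper917)
-/

set_option autoImplicit false
set_option linter.unusedSectionVars false
set_option linter.unusedVariables false

namespace Cfsg.Agent.H917

open Cfsg Cfsg.Geo Matrix

open scoped Kronecker

variable {ι : Type} [Fintype ι] [DecidableEq ι] {F : Type*} [Field F]

theorem glReindex_apply {κ : Type} [Fintype κ] [DecidableEq κ] (e : κ ≃ ι) (g : GL κ F) (i j : ι) :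
    ((glReindex e g : GL ι F) : Matrix ι ι F) i j = (g : Matrix κ κ F) (e.symm i) (e.symm j) := rfl

/-- Swapping the two tensor factors. -/
theorem tensorProduct_swap_le (n₁ n₂ : ℕ) (e : ι ≃ Fin n₁ × Fin n₂) (P : GL ι F) :
    tensorProductSubgroup n₁ n₂ e P ≤ tensorProductSubgroup n₂ n₁ (e.trans (Equiv.prodComm _ _)) P := by
  refine Subgroup.map_mono ?_
  rintro x ⟨g, ⟨a, b, hg⟩, rfl⟩
  refine ⟨glReindex (Equiv.prodComm (Fin n₁) (Fin n₂)) g, ⟨b, a, ?_⟩, ?_⟩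
  · ext ⟨i₁, i₂⟩ ⟨j₁, j₂⟩
    rw [glReindex_apply, hg]
    simp only [Equiv.prodComm_symm, Equiv.prodComm_apply, Prod.swap_prod_mk, kroneckerMap_apply]
    ring
  · apply Units.ext
    ext i j
    simp only [MulEquiv.coe_toMonoidHom, glReindex_apply, Equiv.symm_symm, Equiv.trans_apply]
    simp

/-- Two equal tensor factors give a tensor wreath product. -/
theorem tensorProduct_le_wreath (k : ℕ) (e : ι ≃ Fin k × Fin k) (P : GL ι F) :
    tensorProductSubgroup k k e P ≤ tensorWreathSubgroup k 2 (e.trans (finTwoArrowEquiv (Fin k)).symm) P := by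
  refine Subgroup.map_mono ?_
  rintro x ⟨g, ⟨a, b, hg⟩, rfl⟩
  refine ⟨glReindex (finTwoArrowEquiv (Fin k)).symm g, Subgroup.subset_closure (Or.inl ⟨![a, b], ?_⟩), ?_⟩
  · intro x y
    rw [glReindex_apply, hg]
    simp [finTwoArrowEquiv, Fin.prod_univ_two]
  · apply Units.ext
    ext i j
    simp only [MulEquiv.coe_toMonoidHom, glReindex_apply, Equiv.symm_symm, Equiv.trans_apply]
    simp

theorem odd_card_of_two_ne_zero [Fintype F] (h2 : (2 : F) ≠ 0) : Odd (Fintype.card F) := by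
  by_contra hcon
  have heven : Even (Fintype.card F) := Nat.not_odd_iff_even.1 hcon
  have hp : (ringChar F).Prime :=
    (CharP.char_is_prime_or_zero F (ringChar F)).resolve_right (CharP.char_ne_zero_of_finite F _)
  have : Fact (ringChar F).Prime := ⟨hp⟩
  obtain ⟨k, _, hk⟩ := FiniteField.card F (ringChar F)
  rw [hk] at heven
  have h3 : Even (ringChar F) := (Nat.even_pow.1 heven).1
  have h4 : ringChar F = 2 := (hp.even_iff).1 h3
  apply h2
  have : ((ringChar F : ℕ) : F) = 0 := ringChar.Nat.cast_ringChar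
  rw [h4] at this
  exact_mod_cast this

/-- A tensor wreath product with factors of dimension 2 preserves a form up to scalars. -/
theorem tensorWreath_two_cases [Fintype F] {t : ℕ} (ht : 0 < t) (e : ι ≃ (Fin t → Fin 2)) (P : GL ι F) :
    (∃ f : (ι → F) → (ι → F) → F, IsSymplecticForm f ∧ tensorWreathSubgroup 2 t e P ≤ similarityGroup f) ∨
    (∃ Q : (ι → F) → F, IsNondegenerateQuadraticForm Q ∧ (2 : F) ≠ 0 ∧
      tensorWreathSubgroup 2 t e P ≤ quadSimilarityGroup Q) := by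
  by_cases h2 : (2 : F) = 0
  · exact Or.inl (tensorWreath_two_le_symplectic ht (Or.inr h2) e P)
  · rcases Nat.even_or_odd t with h | h
    · obtain ⟨Q, hQ, hle⟩ := tensorWreath_two_le_quad h h2 e P
      exact Or.inr ⟨Q, hQ, h2, hle⟩
    · exact Or.inl (tensorWreath_two_le_symplectic ht (Or.inl h) e P)

/-- **Aschbacher's theorem for the linear groups**, dimension at least 3. -/
theorem lin_class [Fintype F] {n : ℕ} (hn : 3 ≤ n) (H : Subgroup (GL (Fin n) F)) :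
    (∃ M : Subgroup (GL (Fin n) F), InLinearClass n F M ∧ H ≤ M) ∨ InLinearResidualClass H := by
  classical
  have hsym : (∃ f : (Fin n → F) → (Fin n → F) → F, IsSymplecticForm f ∧ H ≤ similarityGroup f) →
      ∃ M : Subgroup (GL (Fin n) F), InLinearClass n F M ∧ H ≤ M := by
    rintro ⟨f, hf, hle⟩
    have heven := H914.even_card_of_symplectic hf
    rw [Fintype.card_fin] at heven
    have h4 : 4 ≤ n := by
      obtain ⟨k, hk⟩ := heven
      omega
    exact ⟨_, Or.inr (Or.inr (Or.inr (Or.inr (Or.inr (Or.inr (Or.inr (Or.inr (Or.inr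
      (Or.inl ⟨f, hf, heven, h4, rfl⟩))))))))), hle⟩
  have hquad : (∃ Q : (Fin n → F) → F, IsNondegenerateQuadraticForm Q ∧ (2 : F) ≠ 0 ∧
      H ≤ quadSimilarityGroup Q) → ∃ M : Subgroup (GL (Fin n) F), InLinearClass n F M ∧ H ≤ M := by
    rintro ⟨Q, hQ, h2, hle⟩
    exact ⟨_, Or.inr (Or.inr (Or.inr (Or.inr (Or.inr (Or.inr (Or.inr (Or.inr (Or.inr
      (Or.inr (Or.inr ⟨Q, hQ, odd_card_of_two_ne_zero h2, hn, rfl⟩)))))))))), hle⟩
  have hwr : (∃ (m t : ℕ) (e : Fin n ≃ (Fin t → Fin m)) (P : GL (Fin n) F), 2 ≤ m ∧ 2 ≤ t ∧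
      H ≤ tensorWreathSubgroup m t e P) → ∃ M : Subgroup (GL (Fin n) F), InLinearClass n F M ∧ H ≤ M := by
    rintro ⟨m, t, e, P, hm, ht, hle⟩
    rcases Nat.lt_or_ge 2 m with h | h
    · exact ⟨_, Or.inr (Or.inr (Or.inr (Or.inr (Or.inr (Or.inr (Or.inr (Or.inr
        (Or.inl ⟨m, t, e, P, h, ht, rfl⟩)))))))), hle⟩
    · obtain rfl : m = 2 := by omega
      rcases tensorWreath_two_cases (by omega) e P with ⟨f, hf, hle'⟩ | ⟨Q, hQ, h2, hle'⟩
      · exact hsym ⟨f, hf, hle.trans hle'⟩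
      · exact hquad ⟨Q, hQ, h2, hle.trans hle'⟩
  rcases lin_fine (by rw [Fintype.card_fin]; exact hn) H with
    ⟨W, h0, h1, hle⟩ | ⟨t, m, D, hD, hle⟩ | ⟨r, K, hr, hK, hle⟩ | ⟨n₁, n₂, e, P, h1, h2, hle⟩ |
    h | ⟨F₀, r, B, hr, hcard, hle⟩ | h | ⟨σ, f, hf, hle⟩ | h | ⟨r, m, R, hm, hcard, hdata, hle⟩ | h
  · exact Or.inl ⟨_, Or.inl ⟨W, h0, h1, rfl⟩, hle⟩
  · exact Or.inl ⟨_, Or.inr (Or.inr (Or.inr (Or.inl ⟨t, m, D, hD, rfl⟩))), hle⟩
  · exact Or.inl ⟨_, Or.inr (Or.inr (Or.inr (Or.inr (Or.inl ⟨r, K, hr, hK, rfl⟩)))), hle⟩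
  · rcases lt_trichotomy n₁ n₂ with h | h | h
    · exact Or.inl ⟨_, Or.inr (Or.inr (Or.inr (Or.inr (Or.inr (Or.inl ⟨n₁, n₂, e, P, h1, h, rfl⟩))))), hle⟩
    · subst h
      exact Or.inl (hwr ⟨n₁, 2, _, P, h1, le_rfl, hle.trans (tensorProduct_le_wreath n₁ e P)⟩)
    · exact Or.inl ⟨_, Or.inr (Or.inr (Or.inr (Or.inr (Or.inr (Or.inl ⟨n₂, n₁, _, P, h2, h, rfl⟩))))),
        hle.trans (tensorProduct_swap_le n₁ n₂ e P)⟩
  · exact Or.inl (hwr h)
  · rw [Nat.card_eq_fintype_card] at hcard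
    exact Or.inl ⟨_, Or.inr (Or.inr (Or.inr (Or.inr (Or.inr (Or.inr
      (Or.inl ⟨F₀, r, B, hr, hcard, rfl⟩)))))), hle⟩
  · exact Or.inl (hsym h)
  · exact Or.inl ⟨_, Or.inr (Or.inr (Or.inr (Or.inr (Or.inr (Or.inr (Or.inr (Or.inr (Or.inr
      (Or.inr (Or.inl ⟨σ, f, hf, hn, rfl⟩)))))))))), hle⟩
  · exact Or.inl (hquad h)
  · exact Or.inl ⟨_, Or.inr (Or.inr (Or.inr (Or.inr (Or.inr (Or.inr (Or.inr
      (Or.inl ⟨r, R, hdata, rfl⟩))))))), hle⟩
  · exact Or.inr h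

end Cfsg.Agent.H917
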