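import Cfsg.Agent.H917.OmTools
import Cfsg.Agent.H637.SevenA7

/-!
# `A₆` and `A₇` in `Ω₈⁻(q)`, characteristic different from three (helper917, row S5827)

* `eq_top_prim` : generation of alternating groups;
* `no_A6`, `no_A7` : `A₆`, `A₇` have no faithful absolutely irreducible representation in `Ω₈⁻(q)`, `3 ∤ q`.
-/

set_option autoImplicit false
set_option linter.unusedSectionVars false

namespace Cfsg.Agent.H917.Om

open Cfsg Cfsg.Geo Module Equiv Equiv.Perm
open Cfsg.Agent.H637.JW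
open Cfsg.Agent.H637.SevenA7 (eq_top_of)

universe u v

/-- Generation of alternating groups: a subgroup containing a three-cycle, an element `c` fixing `a` whose powers are
transitive on the other points, and an element moving `a`. -/
theorem eq_top_prim {n : ℕ} (S : Subgroup (alternatingGroup (Fin n))) (a : Fin n)
    (c e d : alternatingGroup (Fin n)) (hc : c ∈ S) (he : e ∈ S) (hd : d ∈ S)
    (hca : (c : Perm (Fin n)) a = a)
    (hct : ∀ i j : Fin n, i ≠ a → j ≠ a → ∃ k : Fin n, ((c : Perm (Fin n)) ^ (k : ℕ)) i = j)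
    (hea : (e : Perm (Fin n)) a ≠ a) (hdt : (d : Perm (Fin n)).IsThreeCycle) : S = ⊤ := by
  have h1 : alternatingGroup (Fin n) ≤ S.map (alternatingGroup (Fin n)).subtype := by
    have hcS : ∀ k : ℕ, (c : Perm (Fin n)) ^ k ∈ S.map (alternatingGroup (Fin n)).subtype := fun k =>
      ⟨c ^ k, pow_mem hc _, rfl⟩
    have heS : (e : Perm (Fin n)) ∈ S.map (alternatingGroup (Fin n)).subtype := ⟨e, he, rfl⟩
    have hcak : ∀ k : ℕ, ((c : Perm (Fin n)) ^ k) a = a := by
      intro k
      induction k with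
      | zero => rfl
      | succ k ih => rw [pow_succ, Perm.mul_apply, hca, ih]
    have htoa : ∀ i : Fin n, ∃ s : S.map (alternatingGroup (Fin n)).subtype, s • i = a := by
      intro i
      by_cases hi : i = a
      · exact ⟨1, by rw [one_smul]; exact hi⟩
      · have hb : (e : Perm (Fin n))⁻¹ a ≠ a := by
          intro h0
          apply hea
          rw [Perm.inv_eq_iff_eq] at h0
          exact h0.symm
        obtain ⟨k, hk⟩ := hct i ((e : Perm (Fin n))⁻¹ a) hi hb
        refine ⟨⟨(e : Perm (Fin n)) * (c : Perm (Fin n)) ^ (k : ℕ), mul_mem heS (hcS _)⟩, ?_⟩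
        change ((e : Perm (Fin n)) * (c : Perm (Fin n)) ^ (k : ℕ)) i = a
        rw [Perm.mul_apply, hk]; simp
    have htr : MulAction.IsPretransitive (S.map (alternatingGroup (Fin n)).subtype) (Fin n) := by
      refine ⟨fun i j => ?_⟩
      obtain ⟨s, hs⟩ := htoa i
      obtain ⟨t, ht⟩ := htoa j
      refine ⟨t⁻¹ * s, ?_⟩
      rw [mul_smul, hs, inv_smul_eq_iff]
      exact ht.symm
    refine alternatingGroup_le_of_isPreprimitive_of_isThreeCycle_mem ?_ hdt ⟨d, hd, rfl⟩
    refine MulAction.IsPreprimitive.of_isTrivialBlock_base a ?_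
    intro B haB hB
    by_cases hsub : B.Subsingleton
    · exact Or.inl hsub
    · right
      rw [Set.not_subsingleton_iff] at hsub
      obtain ⟨j, hj, hja⟩ := hsub.exists_ne a
      rw [Set.eq_univ_iff_forall]
      intro i
      by_cases hi : i = a
      · rw [hi]; exact haB
      · obtain ⟨k, hk⟩ := hct j i hja hi
        have h2 := hB.smul_eq_of_mem (g := (⟨(c : Perm (Fin n)) ^ (k : ℕ), hcS _⟩ :
          S.map (alternatingGroup (Fin n)).subtype)) haB (by
            change ((c : Perm (Fin n)) ^ (k : ℕ)) a ∈ B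
            rw [hcak]; exact haB)
        rw [← h2]
        exact ⟨j, hj, hk⟩
  rw [eq_top_iff]
  intro g _
  obtain ⟨s, hs, hsg⟩ := h1 g.2
  have : s = g := Subtype.ext hsg
  rwa [← this]

variable {F : Type u} [Field F] {T : Type v} [Group T]

theorem not_dvd_three [Fintype F] (h3 : (3 : F) ≠ 0) : ¬ 3 ∣ Fintype.card F * (Fintype.card F ^ 4 + 1) := by
  have h1 : ¬ 3 ∣ Fintype.card F := by
    intro hd
    obtain ⟨p, hp⟩ := CharP.exists F
    have hpp := CharP.char_is_prime F p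
    obtain ⟨n, -, hn⟩ := FiniteField.card F p
    rw [hn] at hd
    have h4 := (Nat.prime_dvd_prime_iff_eq Nat.prime_three hpp).1 (Nat.prime_three.dvd_of_dvd_pow hd)
    subst h4
    apply h3
    exact_mod_cast CharP.cast_eq_zero F 3
  intro hd
  rcases (Nat.prime_three.dvd_mul).1 hd with h2 | h2
  · exact h1 h2
  · have h5 : Fintype.card F % 3 = 1 ∨ Fintype.card F % 3 = 2 := by omega
    have h6 := Nat.mod_eq_zero_of_dvd h2
    rcases h5 with h5 | h5 <;> simp [Nat.add_mod, Nat.pow_mod, h5] at h6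

theorem not_dvd_five [Fintype F] (h5 : (5 : F) ≠ 0) : ¬ 5 ∣ Fintype.card F * (Fintype.card F ^ 4 + 1) := by
  have h1 : ¬ 5 ∣ Fintype.card F := by
    intro hd
    obtain ⟨p, hp⟩ := CharP.exists F
    have hpp := CharP.char_is_prime F p
    obtain ⟨n, -, hn⟩ := FiniteField.card F p
    rw [hn] at hd
    have h4 := (Nat.prime_dvd_prime_iff_eq Nat.prime_five hpp).1 (Nat.prime_five.dvd_of_dvd_pow hd)
    subst h4
    apply h5
    exact_mod_cast CharP.cast_eq_zero F 5
  intro hd
  rcases (Nat.prime_five.dvd_mul).1 hd with h2 | h2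
  · exact h1 h2
  · have h5 : Fintype.card F % 5 = 1 ∨ Fintype.card F % 5 = 2 ∨ Fintype.card F % 5 = 3 ∨ Fintype.card F % 5 = 4 := by
      omega
    have h6 := Nat.mod_eq_zero_of_dvd h2
    rcases h5 with h5 | h5 | h5 | h5 <;> simp [Nat.add_mod, Nat.pow_mod, h5] at h6

instance fact_five : Fact (Nat.Prime 5) := ⟨Nat.prime_five⟩

theorem cast_ne_zero_ac {n : ℕ} (hn : (n : F) ≠ 0) : (n : AlgebraicClosure F) ≠ 0 := by
  intro h0
  apply hn
  have h1 : algebraMap F (AlgebraicClosure F) (n : F) = 0 := by rw [map_natCast]; exact h0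
  exact (map_eq_zero _).1 h1

namespace OC

variable (h : OC F T)

/-- two commuting elements of order three have a common fixed vector -/
theorem fixed_three [Fintype F] (h3 : (3 : F) ≠ 0) {a b : T} (ha : a ^ 3 = 1) (hb : b ^ 3 = 1) (hab : a * b = b * a) :
    ∃ v : Fin 8 → AlgebraicClosure F, v ≠ 0 ∧ h.σ a v = v ∧ h.σ b v = v := by
  let f : Multiplicative (ZMod 3 × ZMod 3) → T := fun z => a ^ z.toAdd.1.val * b ^ z.toAdd.2.val
  have hcomm : Commute a b := hab
  have key : ∀ (x : T), x ^ 3 = 1 → ∀ i j : ZMod 3, x ^ (i + j).val = x ^ i.val * x ^ j.val := by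
    intro x hx i j
    rw [ZMod.val_add, ← pow_add, ← pow_mod_orderOf x ((i.val + j.val) % 3), ← pow_mod_orderOf x (i.val + j.val)]
    congr 1
    exact Nat.mod_mod_of_dvd _ (orderOf_dvd_of_pow_eq_one hx)
  let φ : Multiplicative (ZMod 3 × ZMod 3) →* T :=
    { toFun := f
      map_one' := by simp [f]
      map_mul' := by
        intro z w
        simp only [f, toAdd_mul, Prod.fst_add, Prod.snd_add]
        rw [key a ha, key b hb]
        have h1 : Commute (a ^ (Multiplicative.toAdd w).1.val) (b ^ (Multiplicative.toAdd z).2.val) :=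
          hcomm.pow_pow _ _
        rw [mul_assoc, mul_assoc]
        congr 1
        rw [← mul_assoc, h1.eq, mul_assoc] }
  have hA : IsPGroup 3 φ.range := by
    intro x
    refine ⟨1, ?_⟩
    obtain ⟨x, y, rfl⟩ := x
    apply Subtype.ext
    change (φ y) ^ (3 ^ 1) = 1
    rw [← map_pow]
    have h1 : y ^ (3 ^ 1) = 1 := by
      revert y; decide
    rw [h1, map_one]
  have hfin : Finite φ.range := by
    have : Finite (Multiplicative (ZMod 3 × ZMod 3)) := inferInstance
    exact Finite.of_surjective (f := fun z => (⟨φ z, ⟨z, rfl⟩⟩ : φ.range)) (by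
      rintro ⟨_, z, rfl⟩
      exact ⟨z, rfl⟩)
  obtain ⟨v, hv0, hv⟩ := h.exists_fixed_of_isPGroup (not_dvd_three h3) φ.range hA
  refine ⟨v, hv0, hv a ⟨Multiplicative.ofAdd (1, 0), ?_⟩, hv b ⟨Multiplicative.ofAdd (0, 1), ?_⟩⟩
  · change a ^ (1 : ZMod 3).val * b ^ (0 : ZMod 3).val = a
    rw [ZMod.val_zero, pow_zero, mul_one, show (1 : ZMod 3).val = 1 from rfl, pow_one]
  · change a ^ (0 : ZMod 3).val * b ^ (1 : ZMod 3).val = b
    rw [ZMod.val_zero, pow_zero, one_mul, show (1 : ZMod 3).val = 1 from rfl, pow_one]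

/-- `⟨a, b⟩` of order nine with an element `g` of order four acting on it by `a ↦ b ↦ a⁻¹`: one of `a`, `a b` has a
fixed space of codimension at most two. -/
theorem fix_three_four [Fintype F] (h3 : (3 : F) ≠ 0) {a b g : T} (ha : a ^ 3 = 1) (hb : b ^ 3 = 1)
    (hab : a * b = b * a) (hga : g⁻¹ * a * g = b) (hgb : g⁻¹ * b * g = a * a) :
    6 ≤ finrank (AlgebraicClosure F) (Fix h.σ a) ∨ 6 ≤ finrank (AlgebraicClosure F) (Fix h.σ (a * b)) := by
  have h3' : ((3 : ℕ) : AlgebraicClosure F) ≠ 0 := cast_ne_zero_ac (by exact_mod_cast h3)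
  obtain ⟨ζ, hζ⟩ := exists_root (K := AlgebraicClosure F) (N := 3) h3'
  let x : Fin 2 → T := ![a, b]
  have hcx : ∀ j k, x j * x k = x k * x j := by
    intro j k
    fin_cases j <;> fin_cases k <;> first | rfl | exact hab | exact hab.symm
  have hxp : ∀ k, x k ^ 3 = 1 := by
    intro k
    fin_cases k
    · exact ha
    · exact hb
  have hc : ∀ j k, h.σ (x j) * h.σ (x k) = h.σ (x k) * h.σ (x j) := by
    intro j k
    rw [← map_mul, ← map_mul, hcx]
  have hf : ∀ k, h.σ (x k) ^ 3 = 1 := by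
    intro k
    rw [← map_pow, hxp, map_one]
  have hind := indep_W h3' hζ (f := fun k => h.σ (x k)) hc hf
  have hsum := sum_W h3' hζ (f := fun k => h.σ (x k)) hc hf
  set D : ZMod 3 → ZMod 3 → ℕ := fun i j =>
    finrank (AlgebraicClosure F) (W 3 ζ (fun k => h.σ (x k)) ![i, j]) with hD
  have hζ3 := hζ.pow_eq_one
  have hDle : ∀ i j, D i j ≤ D j (i + i) := by
    intro i j
    refine finrank_W_le g fun v hv k => ?_
    rw [mem_W] at hv
    have ha : h.σ a v = ζ ^ i.val • v := hv 0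
    have hb : h.σ b v = ζ ^ j.val • v := hv 1
    fin_cases k
    · change h.σ (g⁻¹ * a * g) v = ζ ^ j.val • v
      rw [hga, hb]
    · change h.σ (g⁻¹ * b * g) v = ζ ^ (i + i).val • v
      rw [hgb, act_mul ha ha, pow_val_add hζ3]
  have hs : ∑ i : Fin 3, ∑ j : Fin 3, D i j = 8 := by
    rw [← Module.finrank_fin_fun (AlgebraicClosure F) (n := 8), ← hsum]
    rw [← (piFinTwoEquiv (fun _ => ZMod 3)).symm.sum_comp, Fintype.sum_prod_type]
    rfl
  have hs' : D 0 0 + D 0 1 + D 0 2 + (D 1 0 + D 1 1 + D 1 2) + (D 2 0 + D 2 1 + D 2 2) = 8 := by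
    rw [Fin.sum_univ_three, Fin.sum_univ_three, Fin.sum_univ_three, Fin.sum_univ_three] at hs
    exact hs
  have hpos : 1 ≤ D 0 0 := by
    obtain ⟨v, hv0, hva, hvb⟩ := h.fixed_three h3 ha hb hab
    rw [Nat.one_le_iff_ne_zero, ← Nat.pos_iff_ne_zero]
    simp only [hD]
    rw [Module.finrank_pos_iff]
    refine ⟨⟨⟨v, ?_⟩, 0, fun h0 => hv0 (congrArg Subtype.val h0)⟩⟩
    rw [mem_W]
    intro k
    fin_cases k
    · change h.σ a v = ζ ^ (0 : ZMod 3).val • v
      rw [ZMod.val_zero, pow_zero, one_smul, hva]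
    · change h.σ b v = ζ ^ (0 : ZMod 3).val • v
      rw [ZMod.val_zero, pow_zero, one_smul, hvb]
  have hA : ∑ j : ZMod 3, D 0 j ≤ finrank (AlgebraicClosure F) (Fix h.σ a) := by
    refine sum_le_of_inj hind (fun j : ZMod 3 => ![0, j]) (fun j k h => congrFun h 1) _ fun j => ?_
    intro v hv
    rw [mem_W] at hv
    rw [mem_Fix]
    have := hv 0
    change h.σ a v = ζ ^ (0 : ZMod 3).val • v at this
    rw [this, ZMod.val_zero, pow_zero, one_smul]
  have hB : ∑ j : ZMod 3, D (-j) j ≤ finrank (AlgebraicClosure F) (Fix h.σ (a * b)) := by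
    refine sum_le_of_inj hind (fun j : ZMod 3 => ![-j, j]) (fun j k h => congrFun h 1) _ fun j => ?_
    intro v hv
    rw [mem_W] at hv
    rw [mem_Fix]
    have h1 : h.σ a v = ζ ^ (-j).val • v := hv 0
    have h2 : h.σ b v = ζ ^ j.val • v := hv 1
    rw [act_mul h1 h2, ← pow_val_add hζ3, neg_add_cancel, ZMod.val_zero, pow_zero, one_smul]
  have hA' : D 0 0 + D 0 1 + D 0 2 ≤ finrank (AlgebraicClosure F) (Fix h.σ a) := by
    refine le_trans (le_of_eq ?_) hA
    exact (Fin.sum_univ_three (fun j : Fin 3 => D 0 j)).symm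
  have hB' : D 0 0 + D 2 1 + D 1 2 ≤ finrank (AlgebraicClosure F) (Fix h.σ (a * b)) := by
    refine le_trans (le_of_eq ?_) hB
    exact (Fin.sum_univ_three (fun j : Fin 3 => D (-(j : ZMod 3)) j)).symm
  have e1 : D 1 0 ≤ D 0 2 := hDle 1 0
  have e2 : D 0 2 ≤ D 2 0 := hDle 0 2
  have e3 : D 2 0 ≤ D 0 1 := hDle 2 0
  have e4 : D 0 1 ≤ D 1 0 := hDle 0 1
  have f1 : D 1 1 ≤ D 1 2 := hDle 1 1
  have f2 : D 1 2 ≤ D 2 2 := hDle 1 2
  have f3 : D 2 2 ≤ D 2 1 := hDle 2 2
  have f4 : D 2 1 ≤ D 1 1 := hDle 2 1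
  clear_value D
  omega

/-- three elements with fixed spaces of dimension at least six have a common fixed vector -/
theorem fixed_of_three {x y z : T} (hx : 6 ≤ finrank (AlgebraicClosure F) (Fix h.σ x))
    (hy : 6 ≤ finrank (AlgebraicClosure F) (Fix h.σ y)) (hz : 6 ≤ finrank (AlgebraicClosure F) (Fix h.σ z)) :
    ∃ v : Fin 8 → AlgebraicClosure F, v ≠ 0 ∧ h.σ x v = v ∧ h.σ y v = v ∧ h.σ z v = v := by
  have h1 := add_le_inf (Fix h.σ x) (Fix h.σ y)
  have h2 := add_le_inf (Fix h.σ x ⊓ Fix h.σ y) (Fix h.σ z)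
  rw [Module.finrank_fin_fun] at h1 h2
  obtain ⟨v, hv, hv0⟩ := exists_fix_of_pos (U := Fix h.σ x ⊓ Fix h.σ y ⊓ Fix h.σ z) (by omega)
  obtain ⟨⟨hvx, hvy⟩, hvz⟩ := hv
  exact ⟨v, hv0, mem_Fix.1 hvx, mem_Fix.1 hvy, mem_Fix.1 hvz⟩

/-- ... and cannot generate `T` -/
theorem false_of_three {x y z : T} (hx : 6 ≤ finrank (AlgebraicClosure F) (Fix h.σ x))
    (hy : 6 ≤ finrank (AlgebraicClosure F) (Fix h.σ y)) (hz : 6 ≤ finrank (AlgebraicClosure F) (Fix h.σ z))
    (hgen : ∀ S : Subgroup T, x ∈ S → y ∈ S → z ∈ S → S = ⊤) : False := by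
  obtain ⟨v, hv0, h1, h2, h3⟩ := h.fixed_of_three hx hy hz
  apply hv0
  apply h.eq_zero_of_fixed
  have h4 := hgen (stab h.σ v) h1 h2 h3
  intro g
  have : g ∈ stab h.σ v := by rw [h4]; trivial
  exact this

end OC

open Cfsg.Agent.H637.SevenA7 (mk a b g g_a g_b a_pow b_pow ab_comm) in
set_option maxRecDepth 20000 in
/-- **`A₇`, `p ≠ 3`** -/
theorem no_A7 [Fintype F] (h3 : (3 : F) ≠ 0) (h : OC F (alternatingGroup (Fin 7))) : False := by
  rcases h.fix_three_four h3 a_pow b_pow ab_comm g_a g_b with ha | ha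
  · let y : alternatingGroup (Fin 7) := mk (swap 2 3 * swap 3 4)
    let z : alternatingGroup (Fin 7) := mk (swap 4 5 * swap 5 6)
    have hy : mk (swap 0 2 * swap 2 4 * swap 4 1 * swap 1 3) * a *
      (mk (swap 0 2 * swap 2 4 * swap 4 1 * swap 1 3))⁻¹ = y := by decide
    have hz : mk (swap 0 4 * swap 4 1 * swap 1 5 * swap 5 2 * swap 2 6 * swap 6 3) * a *
      (mk (swap 0 4 * swap 4 1 * swap 1 5 * swap 5 2 * swap 2 6 * swap 6 3))⁻¹ = z := by decide
    refine h.false_of_three (x := a) (y := y) (z := z) ha (by rw [← hy, finrank_Fix_conj]; exact ha)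
      (by rw [← hz, finrank_Fix_conj]; exact ha) fun S h1 h2 h3 => ?_
    exact eq_top_of S (a * y * z) a (mul_mem (mul_mem h1 h2) h3) h1 (by decide)
      (card_support_eq_three_iff.1 (by decide))
  · let y : alternatingGroup (Fin 7) := mk (swap 1 2 * swap 2 3 * swap 4 5 * swap 5 6)
    have hy : mk (swap 0 1 * swap 1 2 * swap 2 3 * swap 3 4 * swap 4 5 * swap 5 6) * (a * b) *
      (mk (swap 0 1 * swap 1 2 * swap 2 3 * swap 3 4 * swap 4 5 * swap 5 6))⁻¹ = y := by decide
    have hy5 : 6 ≤ finrank (AlgebraicClosure F) (Fix h.σ y) := by rw [← hy, finrank_Fix_conj]; exact ha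
    refine h.false_of_three (x := a * b) (y := y) (z := y) ha hy5 hy5 fun S h1 h2 _ => ?_
    refine eq_top_of S (a * b * (a * b) * y * (a * b) * y * y) (a * b * y * (a * b) * y)
      (mul_mem (mul_mem (mul_mem (mul_mem (mul_mem h1 h1) h2) h1) h2) h2)
      (mul_mem (mul_mem (mul_mem h1 h2) h1) h2) (by decide) (card_support_eq_three_iff.1 (by decide))

namespace Six

def mk (p : Perm (Fin 6)) (h : sign p = 1 := by decide) : alternatingGroup (Fin 6) :=
  ⟨p, mem_alternatingGroup.2 h⟩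

def a : alternatingGroup (Fin 6) := mk (swap 0 1 * swap 1 2)
def b : alternatingGroup (Fin 6) := mk (swap 3 4 * swap 4 5)
def g : alternatingGroup (Fin 6) := mk (swap 0 3 * swap 1 5 * swap 5 2 * swap 2 4)

theorem g_a : g⁻¹ * a * g = b := by decide
theorem g_b : g⁻¹ * b * g = a * a := by decide
theorem a_pow : a ^ 3 = 1 := by decide
theorem b_pow : b ^ 3 = 1 := by decide
theorem ab_comm : a * b = b * a := by decide

end Six

open Six in
set_option maxRecDepth 20000 in
/-- **`A₆`, `p ≠ 3`** -/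
theorem no_A6 [Fintype F] (h3 : (3 : F) ≠ 0) (h : OC F (alternatingGroup (Fin 6))) : False := by
  rcases h.fix_three_four h3 a_pow b_pow ab_comm g_a g_b with ha | ha
  · let z : alternatingGroup (Fin 6) := Six.mk (swap 2 3 * swap 3 4)
    have hy : Six.mk (swap 0 3 * swap 1 4 * swap 4 2 * swap 2 5) * a *
      (Six.mk (swap 0 3 * swap 1 4 * swap 4 2 * swap 2 5))⁻¹ = b := by decide
    have hz : Six.mk (swap 0 2 * swap 2 4 * swap 4 1 * swap 1 3) * a *
      (Six.mk (swap 0 2 * swap 2 4 * swap 4 1 * swap 1 3))⁻¹ = z := by decide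
    refine h.false_of_three (x := a) (y := b) (z := z) ha (by rw [← hy, finrank_Fix_conj]; exact ha)
      (by rw [← hz, finrank_Fix_conj]; exact ha) fun S h1 h2 h3 => ?_
    exact eq_top_prim S 5 (a * z) b a (mul_mem h1 h3) h2 h1 (by decide) (by decide) (by decide)
      (card_support_eq_three_iff.1 (by decide))
  · let y : alternatingGroup (Fin 6) := Six.mk (swap 0 1 * swap 1 2 * swap 3 5 * swap 5 4)
    let z : alternatingGroup (Fin 6) := Six.mk (swap 0 1 * swap 1 3 * swap 2 4 * swap 4 5)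
    have hy : Six.mk (swap 0 3 * swap 1 5 * swap 5 2 * swap 2 4) * (a * b) *
      (Six.mk (swap 0 3 * swap 1 5 * swap 5 2 * swap 2 4))⁻¹ = y := by decide
    have hz : Six.mk (swap 0 2 * swap 2 5 * swap 5 3 * swap 1 4) * (a * b) *
      (Six.mk (swap 0 2 * swap 2 5 * swap 5 3 * swap 1 4))⁻¹ = z := by decide
    refine h.false_of_three (x := a * b) (y := y) (z := z) ha (by rw [← hy, finrank_Fix_conj]; exact ha)
      (by rw [← hz, finrank_Fix_conj]; exact ha) fun S h1 h2 h3 => ?_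
    exact eq_top_prim S 5 (z * y) (a * b) (a * b * y) (mul_mem h3 h2) h1 (mul_mem h1 h2) (by decide) (by decide)
      (by decide) (card_support_eq_three_iff.1 (by decide))

end Cfsg.Agent.H917.Om
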