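import Cfsg.Agent.H917.OmAlt
import Cfsg.Agent.H637.SevenA8

/-!
# Alternating groups in `Ω₈⁻(q)` (helper917, row S5827)

* `no_A8` : `A₈`, `p` odd;
* `no_A7_three` : `A₇`, `p = 3`;
* `no_Am` : `A_m`, `9 ≤ m`.
-/

set_option autoImplicit false
set_option linter.unusedSectionVars false

namespace Cfsg.Agent.H917.Om

open Cfsg Cfsg.Geo Module Equiv Equiv.Perm
open Cfsg.Agent.H637.JW
open Cfsg.Agent.H637.SevenA7 (eq_top_of)
open Cfsg.Agent.H637.SevenA8 (exists_translates dichotomy eq_of_rel exists_map tc)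

universe u v

/-! ### Point stabilizers -/

/-- `A_n` as a point stabilizer of `A_{n+1}` -/
def up (n : ℕ) : alternatingGroup (Fin n) →* alternatingGroup (Fin (n + 1)) :=
  (((Equiv.Perm.extendDomainHom (finSuccAboveEquiv (Fin.last n))).comp (alternatingGroup (Fin n)).subtype)).codRestrict _
    (fun x => by
      change Equiv.Perm.extendDomain (x : Perm (Fin n)) (finSuccAboveEquiv (Fin.last n)) ∈ alternatingGroup _
      rw [Equiv.Perm.mem_alternatingGroup, Equiv.Perm.sign_extendDomain]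
      exact Equiv.Perm.mem_alternatingGroup.1 x.2)

theorem mem_range_up {n : ℕ} {g : alternatingGroup (Fin (n + 1))} (hg : (g : Perm (Fin (n + 1))) (Fin.last n) = Fin.last n) :
    g ∈ (up n).range := by
  let e : Fin n ≃ {x : Fin (n + 1) // x ≠ Fin.last n} := finSuccAboveEquiv (Fin.last n)
  have h1 : ∀ x, (g : Perm (Fin (n + 1))) x ≠ Fin.last n ↔ x ≠ Fin.last n := by
    intro x
    rw [not_iff_not]
    constructor
    · intro h
      apply (g : Perm (Fin (n + 1))).injective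
      rw [h, hg]
    · rintro rfl; exact hg
  let h : Perm (Fin n) := e.symm.permCongr ((g : Perm (Fin (n + 1))).subtypePerm h1)
  have h2 : Equiv.Perm.extendDomain h e = g := by
    ext x
    by_cases hx : x = Fin.last n
    · rw [Equiv.Perm.extendDomain_apply_not_subtype h e (not_not.2 hx), hx, hg]
    · rw [Equiv.Perm.extendDomain_apply_subtype h e hx]
      simp [h, Equiv.permCongr_apply, Equiv.Perm.subtypePerm_apply]
  have h3 : sign h = 1 := by
    rw [← Equiv.Perm.sign_extendDomain h e, h2]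
    exact Equiv.Perm.mem_alternatingGroup.1 g.2
  exact ⟨⟨h, Equiv.Perm.mem_alternatingGroup.2 h3⟩, Subtype.ext h2⟩

/-- sums over functions on `Fin (n+1)` -/
theorem sum_cons {N n : ℕ} [NeZero N] (f : (Fin (n + 1) → ZMod N) → ℕ) :
    ∑ c, f c = ∑ i : ZMod N, ∑ c : Fin n → ZMod N, f (Matrix.vecCons i c) := by
  rw [← Fintype.sum_prod_type']
  exact (Fintype.sum_equiv (Fin.consEquiv fun _ => ZMod N) _ _ fun x => rfl).symm

variable {F : Type u} [Field F] {T : Type v} [Group T]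

namespace OC

variable (h : OC F T)

/-- fixed vectors of homomorphic images -/
def HasFix {G : Type*} [Group G] (j : G →* T) : Prop :=
  ∃ v : Fin 8 → AlgebraicClosure F, v ≠ 0 ∧ ∀ g, h.σ (j g) v = v

theorem not_hasFix (hj : h.HasFix (MonoidHom.id T)) : False := by
  obtain ⟨v, hv0, hv⟩ := hj
  exact hv0 (h.eq_zero_of_fixed hv)

section eight

variable (j : alternatingGroup (Fin 8) →* T)

def mk8 (p : Perm (Fin 8)) (h : sign p = 1 := by decide) : alternatingGroup (Fin 8) :=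
  ⟨p, mem_alternatingGroup.2 h⟩

def s1 : alternatingGroup (Fin 8) := mk8 (swap 0 1 * swap 2 3)
def t1 : alternatingGroup (Fin 8) := mk8 (swap 0 2 * swap 1 3)
def s2 : alternatingGroup (Fin 8) := mk8 (swap 4 5 * swap 6 7)
def t2 : alternatingGroup (Fin 8) := mk8 (swap 4 6 * swap 5 7)
def al : alternatingGroup (Fin 8) := mk8 (swap 0 1 * swap 1 2)
def be : alternatingGroup (Fin 8) := mk8 (swap 4 5 * swap 5 6)
def sw : alternatingGroup (Fin 8) := mk8 (swap 0 4 * swap 1 5 * swap 2 6 * swap 3 7)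

set_option maxRecDepth 20000 in
/-- double transpositions in `A₈`, `p` odd: codimension at most two -/
theorem fix_dt (h2 : (2 : F) ≠ 0) : 6 ≤ finrank (AlgebraicClosure F) (Fix h.σ (j s1)) := by
  have h2' : ((2 : ℕ) : AlgebraicClosure F) ≠ 0 := cast_ne_zero_ac (by exact_mod_cast h2)
  obtain ⟨ζ, hζ⟩ := exists_root (K := AlgebraicClosure F) (N := 2) h2'
  have hζ2 := hζ.pow_eq_one
  let x : Fin 4 → alternatingGroup (Fin 8) := ![s1, t1, s2, t2]
  have hcx : ∀ i k, x i * x k = x k * x i := by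
    intro i k
    fin_cases i <;> fin_cases k <;> decide
  have hxp : ∀ k, x k ^ 2 = 1 := by
    intro k
    fin_cases k <;> decide
  have hc : ∀ i k, h.σ (j (x i)) * h.σ (j (x k)) = h.σ (j (x k)) * h.σ (j (x i)) := by
    intro i k
    rw [← map_mul, ← map_mul, ← map_mul, ← map_mul, hcx]
  have hf : ∀ k, h.σ (j (x k)) ^ 2 = 1 := by
    intro k
    rw [← map_pow, ← map_pow, hxp, map_one, map_one]
  have hind := indep_W h2' hζ (f := fun k => h.σ (j (x k))) hc hf
  have hsum := sum_W h2' hζ (f := fun k => h.σ (j (x k))) hc hf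
  set D : ZMod 2 → ZMod 2 → ZMod 2 → ZMod 2 → ℕ := fun a b c d =>
    finrank (AlgebraicClosure F) (W 2 ζ (fun k => h.σ (j (x k))) ![a, b, c, d]) with hD
  have hal : ∀ a b c d, D a b c d ≤ D b (a + b) c d := by
    intro a b c d
    refine finrank_W_le (j al) fun v hv k => ?_
    rw [mem_W] at hv
    have e1 : h.σ (j s1) v = ζ ^ a.val • v := hv 0
    have e2 : h.σ (j t1) v = ζ ^ b.val • v := hv 1
    have e3 : h.σ (j s2) v = ζ ^ c.val • v := hv 2
    have e4 : h.σ (j t2) v = ζ ^ d.val • v := hv 3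
    rw [← map_inv, ← map_mul, ← map_mul]
    fin_cases k
    · change h.σ (j (al⁻¹ * s1 * al)) v = ζ ^ b.val • v
      rw [show al⁻¹ * s1 * al = t1 by decide, e2]
    · change h.σ (j (al⁻¹ * t1 * al)) v = ζ ^ (a + b).val • v
      rw [show al⁻¹ * t1 * al = s1 * t1 by decide, map_mul, act_mul e1 e2, pow_val_add hζ2]
    · change h.σ (j (al⁻¹ * s2 * al)) v = ζ ^ c.val • v
      rw [show al⁻¹ * s2 * al = s2 by decide, e3]
    · change h.σ (j (al⁻¹ * t2 * al)) v = ζ ^ d.val • v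
      rw [show al⁻¹ * t2 * al = t2 by decide, e4]
  have hbe : ∀ a b c d, D a b c d ≤ D a b d (c + d) := by
    intro a b c d
    refine finrank_W_le (j be) fun v hv k => ?_
    rw [mem_W] at hv
    have e1 : h.σ (j s1) v = ζ ^ a.val • v := hv 0
    have e2 : h.σ (j t1) v = ζ ^ b.val • v := hv 1
    have e3 : h.σ (j s2) v = ζ ^ c.val • v := hv 2
    have e4 : h.σ (j t2) v = ζ ^ d.val • v := hv 3
    rw [← map_inv, ← map_mul, ← map_mul]
    fin_cases k
    · change h.σ (j (be⁻¹ * s1 * be)) v = ζ ^ a.val • v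
      rw [show be⁻¹ * s1 * be = s1 by decide, e1]
    · change h.σ (j (be⁻¹ * t1 * be)) v = ζ ^ b.val • v
      rw [show be⁻¹ * t1 * be = t1 by decide, e2]
    · change h.σ (j (be⁻¹ * s2 * be)) v = ζ ^ d.val • v
      rw [show be⁻¹ * s2 * be = t2 by decide, e4]
    · change h.σ (j (be⁻¹ * t2 * be)) v = ζ ^ (c + d).val • v
      rw [show be⁻¹ * t2 * be = s2 * t2 by decide, map_mul, act_mul e3 e4, pow_val_add hζ2]
  have hsw : ∀ a b c d, D a b c d ≤ D c d a b := by
    intro a b c d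
    refine finrank_W_le (j sw) fun v hv k => ?_
    rw [mem_W] at hv
    have e1 : h.σ (j s1) v = ζ ^ a.val • v := hv 0
    have e2 : h.σ (j t1) v = ζ ^ b.val • v := hv 1
    have e3 : h.σ (j s2) v = ζ ^ c.val • v := hv 2
    have e4 : h.σ (j t2) v = ζ ^ d.val • v := hv 3
    rw [← map_inv, ← map_mul, ← map_mul]
    fin_cases k
    · change h.σ (j (sw⁻¹ * s1 * sw)) v = ζ ^ c.val • v
      rw [show sw⁻¹ * s1 * sw = s2 by decide, e3]
    · change h.σ (j (sw⁻¹ * t1 * sw)) v = ζ ^ d.val • v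
      rw [show sw⁻¹ * t1 * sw = t2 by decide, e4]
    · change h.σ (j (sw⁻¹ * s2 * sw)) v = ζ ^ a.val • v
      rw [show sw⁻¹ * s2 * sw = s1 by decide, e1]
    · change h.σ (j (sw⁻¹ * t2 * sw)) v = ζ ^ b.val • v
      rw [show sw⁻¹ * t2 * sw = t1 by decide, e2]
  have hs : D 0 0 0 0 + D 0 0 0 1 + (D 0 0 1 0 + D 0 0 1 1) + (D 0 1 0 0 + D 0 1 0 1 + (D 0 1 1 0 + D 0 1 1 1)) +
      (D 1 0 0 0 + D 1 0 0 1 + (D 1 0 1 0 + D 1 0 1 1) + (D 1 1 0 0 + D 1 1 0 1 + (D 1 1 1 0 + D 1 1 1 1))) = 8 := by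
    rw [← Module.finrank_fin_fun (AlgebraicClosure F) (n := 8), ← hsum]
    simp only [sum_cons]
    change _ = ∑ i : Fin 2, ∑ i' : Fin 2, ∑ i'' : Fin 2, ∑ i''' : Fin 2, _
    simp only [Fin.sum_univ_two, Finset.univ_unique, Finset.sum_singleton]
    rfl
  have hA : ∑ c : Fin 3 → ZMod 2, finrank (AlgebraicClosure F) (W 2 ζ (fun k => h.σ (j (x k))) (Matrix.vecCons 0 c)) ≤
      finrank (AlgebraicClosure F) (Fix h.σ (j s1)) := by
    refine sum_le_of_inj hind (fun c : Fin 3 → ZMod 2 => Matrix.vecCons 0 c)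
      (fun c c' hcc => (Matrix.vecCons_inj.1 hcc).2) _ fun c => ?_
    intro v hv
    rw [mem_W] at hv
    rw [mem_Fix]
    have := hv 0
    change h.σ (j s1) v = ζ ^ (0 : ZMod 2).val • v at this
    rw [this, ZMod.val_zero, pow_zero, one_smul]
  have hA' : D 0 0 0 0 + D 0 0 0 1 + (D 0 0 1 0 + D 0 0 1 1) + (D 0 1 0 0 + D 0 1 0 1 + (D 0 1 1 0 + D 0 1 1 1)) ≤
      finrank (AlgebraicClosure F) (Fix h.σ (j s1)) := by
    refine le_trans (le_of_eq ?_) hA
    simp only [sum_cons]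
    change _ = ∑ i' : Fin 2, ∑ i'' : Fin 2, ∑ i''' : Fin 2, _
    simp only [Fin.sum_univ_two, Finset.univ_unique, Finset.sum_singleton]
    rfl
  clear_value D
  -- orbits
  have a1 := hal 1 0 0 0
  have a2 : D 0 1 0 0 ≤ D 1 1 0 0 := hal 0 1 0 0
  have a3 : D 1 1 0 0 ≤ D 1 0 0 0 := hal 1 1 0 0
  have b1 : D 0 0 1 0 ≤ D 0 0 0 1 := hbe 0 0 1 0
  have b2 : D 0 0 0 1 ≤ D 0 0 1 1 := hbe 0 0 0 1
  have b3 : D 0 0 1 1 ≤ D 0 0 1 0 := hbe 0 0 1 1
  have c1 := hsw 1 0 0 0
  have c2 := hsw 0 0 1 0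
  have d1 : ∀ c d, D 1 0 c d ≤ D 0 1 c d := fun c d => hal 1 0 c d
  have d2 : ∀ c d, D 0 1 c d ≤ D 1 1 c d := fun c d => hal 0 1 c d
  have d3 : ∀ c d, D 1 1 c d ≤ D 1 0 c d := fun c d => hal 1 1 c d
  have f1 : ∀ a b, D a b 1 0 ≤ D a b 0 1 := fun a b => hbe a b 1 0
  have f2 : ∀ a b, D a b 0 1 ≤ D a b 1 1 := fun a b => hbe a b 0 1
  have f3 : ∀ a b, D a b 1 1 ≤ D a b 1 0 := fun a b => hbe a b 1 1
  have g1 := d1 1 0
  have g2 := d2 1 0
  have g3 := d3 1 0
  have g4 := d1 0 1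
  have g5 := d2 0 1
  have g6 := d3 0 1
  have g7 := d1 1 1
  have g8 := d2 1 1
  have g9 := d3 1 1
  have k1 := f1 1 0
  have k2 := f2 1 0
  have k3 := f3 1 0
  have k4 := f1 0 1
  have k5 := f2 0 1
  have k6 := f3 0 1
  have k7 := f1 1 1
  have k8 := f2 1 1
  have k9 := f3 1 1
  have a1' : D 1 0 0 0 ≤ D 0 1 0 0 := a1
  omega

end eight

open Cfsg.Agent.H637.SevenA7 (s) in
set_option maxRecDepth 20000 in
/-- `V^{A₇} ≠ 0` for `A₇ < A₈`, `p` odd -/
theorem hasFix_seven (h2 : (2 : F) ≠ 0) (j : alternatingGroup (Fin 8) →* T) : h.HasFix (j.comp (up 7)) := by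
  have hs : 6 ≤ finrank (AlgebraicClosure F) (Fix h.σ (j (up 7 s))) := by
    rw [show up 7 s = s1 by decide]
    exact h.fix_dt j h2
  have hconj : ∀ p : alternatingGroup (Fin 7), 6 ≤ finrank (AlgebraicClosure F) (Fix h.σ (j (up 7 (p * s * p⁻¹)))) := by
    intro p
    rw [map_mul, map_mul, map_mul, map_mul, map_inv, map_inv, finrank_Fix_conj]
    exact hs
  let y : alternatingGroup (Fin 7) := Cfsg.Agent.H637.SevenA7.mk (swap 0 4 * swap 3 6)
  let z : alternatingGroup (Fin 7) := Cfsg.Agent.H637.SevenA7.mk (swap 3 5 * swap 4 6)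
  have hy : Cfsg.Agent.H637.SevenA7.mk (swap 1 4 * swap 2 3 * swap 3 6 * swap 6 5) * s *
    (Cfsg.Agent.H637.SevenA7.mk (swap 1 4 * swap 2 3 * swap 3 6 * swap 6 5))⁻¹ = y := by decide
  have hz : Cfsg.Agent.H637.SevenA7.mk (swap 0 3 * swap 3 6 * swap 6 1 * swap 1 5 * swap 5 2 * swap 2 4) * s *
    (Cfsg.Agent.H637.SevenA7.mk (swap 0 3 * swap 3 6 * swap 6 1 * swap 1 5 * swap 5 2 * swap 2 4))⁻¹ = z := by decide
  obtain ⟨v, hv0, v1, v2, v3⟩ := h.fixed_of_three (x := j (up 7 s)) (y := j (up 7 y)) (z := j (up 7 z)) hs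
    (by rw [← hy]; exact hconj _) (by rw [← hz]; exact hconj _)
  refine ⟨v, hv0, fun g => ?_⟩
  have h4 := eq_top_of (stab (h.σ.comp (j.comp (up 7))) v) (s * y * z) (s * z * s * z)
    (mul_mem (mul_mem v1 v2) v3) (mul_mem (mul_mem (mul_mem v1 v3) v1) v3) (by decide)
    (card_support_eq_three_iff.1 (by decide))
  have : g ∈ stab (h.σ.comp (j.comp (up 7))) v := by rw [h4]; trivial
  exact this

/-- translates of a vector fixed by a point stabilizer -/
theorem translates {n : ℕ} (hn : 3 ≤ n + 1) (j : alternatingGroup (Fin (n + 1)) →* T) (hj : h.HasFix (j.comp (up n))) :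
    ∃ u : Fin (n + 1) → (Fin 8 → AlgebraicClosure F), u (Fin.last n) ≠ 0 ∧
      ∀ (g : alternatingGroup (Fin (n + 1))) i, (h.σ.comp j) g (u i) = u ((g : Perm (Fin (n + 1))) i) := by
  obtain ⟨v, hv0, hv⟩ := hj
  obtain ⟨u, hu, hu2⟩ := exists_translates hn (h.σ.comp j) (Fin.last n) v (by
    intro g hg
    obtain ⟨x, rfl⟩ := mem_range_up hg
    exact hv x)
  exact ⟨u, by rw [hu]; exact hv0, hu2⟩

theorem sum_fixed {n : ℕ} {j : alternatingGroup (Fin n) →* T} {u : Fin n → (Fin 8 → AlgebraicClosure F)}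
    (hu : ∀ (g : alternatingGroup (Fin n)) i, (h.σ.comp j) g (u i) = u ((g : Perm (Fin n)) i))
    (g : alternatingGroup (Fin n)) : h.σ (j g) (∑ i, u i) = ∑ i, u i := by
  have h1 : (h.σ.comp j) g (∑ i, u i) = ∑ i, u i := by
    rw [map_sum, ← Equiv.sum_comp (g : Perm (Fin n)) u]
    exact Finset.sum_congr rfl fun i _ => hu g i
  exact h1

/-- a line invariant under `A_n`, `5 ≤ n`, is fixed -/
theorem fixed_of_line {n : ℕ} (hn : 5 ≤ n) (j : alternatingGroup (Fin n) →* T) {w : Fin 8 → AlgebraicClosure F}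
    (hw0 : w ≠ 0) (hw : ∀ g, ∃ c : AlgebraicClosure F, h.σ (j g) w = c • w) : h.HasFix j := by
  refine ⟨w, hw0, ?_⟩
  have key : ∀ g : alternatingGroup (Fin n), (g : Perm (Fin n)).IsThreeCycle → g ∈ stab (h.σ.comp j) w := by
    intro g hg
    have hinv : IsConj g g⁻¹ := by
      refine alternatingGroup.isThreeCycle_isConj (by rw [Nat.card_eq_fintype_card, Fintype.card_fin]; exact hn) hg ?_
      exact hg.inv
    obtain ⟨s, hs⟩ := isConj_iff.1 hinv
    obtain ⟨c, hc⟩ := hw g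
    obtain ⟨d, hd⟩ := hw s
    have hd0 : d ≠ 0 := by
      rintro rfl
      rw [zero_smul] at hd
      apply hw0
      apply injective (σ := h.σ) (j s)
      rw [hd, map_zero]
    have h1 : h.σ (j g⁻¹) w = c • w := by
      have h2 : h.σ (j s) (h.σ (j g) w) = h.σ (j (s * g)) w := by rw [map_mul, mul_apply']
      have h3 : s * g = g⁻¹ * s := by rw [← hs]; group
      rw [h3, map_mul, mul_apply', hd, hc, map_smul, map_smul, hd, smul_comm] at h2
      exact (smul_right_injective _ hd0 h2).symm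
    have h2 : h.σ (j g⁻¹) (h.σ (j g) w) = w := by
      rw [← mul_apply', ← map_mul, inv_mul_cancel, map_one, map_one, Module.End.one_apply]
    rw [hc, map_smul, h1, smul_smul] at h2
    have h4 : h.σ (j g) (h.σ (j g) (h.σ (j g) w)) = w := by
      rw [← mul_apply', ← mul_apply', ← map_mul, ← map_mul]
      have h5 : g * (g * g) = 1 := by
        have h6 := pow_orderOf_eq_one (g : Perm (Fin n))
        rw [hg.orderOf, pow_succ, pow_two, mul_assoc] at h6
        exact Subtype.ext h6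
      rw [← mul_assoc] at h5
      rw [h5, map_one, map_one, Module.End.one_apply]
    rw [hc, map_smul, hc, map_smul, map_smul, hc, smul_smul, smul_smul] at h4
    have h5 : (c * c - 1) • w = 0 := by rw [sub_smul, h2, one_smul, sub_self]
    have h6 : (c * c * c - 1) • w = 0 := by rw [sub_smul, h4, one_smul, sub_self]
    have h7 := (smul_eq_zero.1 h5).resolve_right hw0
    have h8 := (smul_eq_zero.1 h6).resolve_right hw0
    have h9 : c = 1 := by linear_combination h8 - c * h7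
    change h.σ (j g) w = w
    rw [hc, h9, one_smul]
  have htop : stab (h.σ.comp j) w = ⊤ := by
    have h1 : alternatingGroup (Fin n) ≤ (stab (h.σ.comp j) w).map (alternatingGroup (Fin n)).subtype := by
      have hcl := closure_three_cycles_eq_alternating (α := Fin n)
      refine hcl.ge.trans ((Subgroup.closure_le _).2 ?_)
      intro g hg
      exact ⟨⟨g, IsThreeCycle.mem_alternatingGroup hg⟩, key _ hg, rfl⟩
    rw [eq_top_iff]
    intro g _
    obtain ⟨s, hs, hsg⟩ := h1 g.2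
    have : s = g := Subtype.ext hsg
    rwa [← this]
  intro g
  have : g ∈ stab (h.σ.comp j) w := by rw [htop]; trivial
  exact this

end OC

end Cfsg.Agent.H917.Om
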