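import Cfsg.Prelude.Def_GeometricClasses

/-!
# Over the field with two elements, decompositions into 2-spaces carry a symplectic form (helper917)

`frameTwo_le_symplectic`: if `|F| = 2` and `D` is a decomposition into 2-dimensional subspaces, then
`decompositionStabilizer D ≤ similarityGroup f` for some symplectic form `f`.
-/

set_option autoImplicit false
set_option linter.unusedSectionVars false
set_option linter.unusedVariables false

namespace Cfsg.Agent.H917

open Cfsg Cfsg.Geo
open scoped MatrixGroups Matrix Kronecker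

variable {ι : Type} [Fintype ι] [DecidableEq ι] {F : Type*} [Field F]

/-- An invertible matrix is injective on vectors. -/
lemma gl_mulVec_injective (g : GL ι F) : Function.Injective (fun v => (g : Matrix ι ι F) *ᵥ v) := by
  intro u v h
  have h1 := congrArg (fun w => ((g⁻¹ : GL ι F) : Matrix ι ι F) *ᵥ w) h
  have h2 : ((g⁻¹ : GL ι F) : Matrix ι ι F) * (g : Matrix ι ι F) = 1 := by
    rw [← Units.val_mul, inv_mul_cancel, Units.val_one]
  simpa only [Matrix.mulVec_mulVec, h2, Matrix.one_mulVec] using h1

/-- Basis adapted to a decomposition into `m`-spaces. -/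
lemma exists_adapted_basis {t m : ℕ} {D : Fin t → Submodule F (ι → F)} (hD : IsMDecomposition m D) :
    ∃ B : Module.Basis (Σ _ : Fin t, Fin m) F (ι → F), (∀ i j, B ⟨i, j⟩ ∈ D i) ∧
      (∀ i x, x ∈ D i → ∀ k j, k ≠ i → B.repr x ⟨k, j⟩ = 0) ∧
      (∀ i x, (∀ k j, k ≠ i → B.repr x ⟨k, j⟩ = 0) → x ∈ D i) := by
  classical
  have hint : DirectSum.IsInternal D :=
    DirectSum.isInternal_submodule_of_iSupIndep_of_iSup_eq_top hD.indep hD.iSup_eq_top
  let v : ∀ i, Module.Basis (Fin m) F (D i) := fun i => Module.finBasisOfFinrankEq F (D i) (hD.finrank_eq i)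
  have hmem : ∀ i j, (hint.collectedBasis v) ⟨i, j⟩ ∈ D i := fun i j => hint.collectedBasis_mem v ⟨i, j⟩
  refine ⟨hint.collectedBasis v, hmem, ?_, ?_⟩
  · intro i x hx k j hki
    exact hint.collectedBasis_repr_of_mem_ne v (Ne.symm hki) hx
  · intro i x hx
    rw [← (hint.collectedBasis v).sum_repr x]
    apply Submodule.sum_mem
    rintro ⟨k, j⟩ _
    by_cases hk : k = i
    · subst hk
      exact (D k).smul_mem _ (hmem k j)
    · rw [hx k j hk, zero_smul]
      exact Submodule.zero_mem _

/-- The alternating form attached to an adapted basis of 2-spaces. -/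
noncomputable def frameForm {t : ℕ} (B : Module.Basis (Σ _ : Fin t, Fin 2) F (ι → F)) :
    LinearMap.BilinForm F (ι → F) :=
  LinearMap.mk₂ F (fun u v => ∑ i : Fin t, (B.repr u ⟨i, 0⟩ * B.repr v ⟨i, 1⟩ - B.repr u ⟨i, 1⟩ * B.repr v ⟨i, 0⟩))
    (by intro a b c; simp only [map_add, Finsupp.add_apply, ← Finset.sum_add_distrib]; congr 1; ext i; ring)
    (by intro c a b; simp only [map_smul, Finsupp.smul_apply, smul_eq_mul, Finset.mul_sum]; congr 1; ext i; ring)
    (by intro a b c; simp only [map_add, Finsupp.add_apply, ← Finset.sum_add_distrib]; congr 1; ext i; ring)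
    (by intro c a b; simp only [map_smul, Finsupp.smul_apply, smul_eq_mul, Finset.mul_sum]; congr 1; ext i; ring)

lemma frameForm_apply {t : ℕ} (B : Module.Basis (Σ _ : Fin t, Fin 2) F (ι → F)) (u v : ι → F) :
    frameForm B u v = ∑ i : Fin t, (B.repr u ⟨i, 0⟩ * B.repr v ⟨i, 1⟩ - B.repr u ⟨i, 1⟩ * B.repr v ⟨i, 0⟩) := rfl

lemma frameForm_symplectic {t : ℕ} (B : Module.Basis (Σ _ : Fin t, Fin 2) F (ι → F)) :
    IsSymplecticForm (fun u v => frameForm B u v) where
  bilinear :=
    { add_left := fun x y v => by simp only [map_add, LinearMap.add_apply]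
      smul_left := fun c x v => by simp only [map_smul, LinearMap.smul_apply, smul_eq_mul]
      add_right := fun v x y => by simp only [map_add]
      smul_right := fun v c x => by simp only [map_smul, smul_eq_mul] }
  skew v w := by
    simp only [frameForm_apply, ← Finset.sum_neg_distrib]
    congr 1; ext i; ring
  alternating v := by
    simp only [frameForm_apply]
    apply Finset.sum_eq_zero
    intro i _; ring
  nondegenerate := by
    have hsk : ∀ v w, frameForm B v w = - frameForm B w v := by
      intro v w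
      simp only [frameForm_apply, ← Finset.sum_neg_distrib]
      congr 1; ext i; ring
    intro v hv
    have h1 : B.repr v ≠ 0 := by
      intro h0
      exact hv (by simpa using h0)
    obtain ⟨⟨i, j⟩, hij⟩ := Finsupp.ne_iff.1 h1
    have key : ∃ x, frameForm B x v ≠ 0 := by
      have hne : ∀ (k l : Fin t) (a b : Fin 2), k ≠ l → B.repr (B ⟨k, a⟩) ⟨l, b⟩ = 0 := by
        intro k l a b hkl
        rw [B.repr_self, Finsupp.single_apply, if_neg]
        intro h
        exact hkl (congrArg Sigma.fst h)
      fin_cases j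
      · refine ⟨B ⟨i, 1⟩, ?_⟩
        rw [frameForm_apply, Finset.sum_eq_single i]
        · simpa using hij
        · intro k _ hk
          rw [hne i k _ _ (Ne.symm hk), hne i k _ _ (Ne.symm hk)]; ring
        · intro h; exact absurd (Finset.mem_univ _) h
      · refine ⟨B ⟨i, 0⟩, ?_⟩
        rw [frameForm_apply, Finset.sum_eq_single i]
        · simpa using hij
        · intro k _ hk
          rw [hne i k _ _ (Ne.symm hk), hne i k _ _ (Ne.symm hk)]; ring
        · intro h; exact absurd (Finset.mem_univ _) h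
    obtain ⟨x, hx⟩ := key
    exact ⟨⟨x, hx⟩, ⟨x, by simpa only [hsk v x, neg_ne_zero] using hx⟩⟩

/-- Over `F₂` the stabiliser of a decomposition into 2-spaces preserves a symplectic form. -/
theorem frameTwo_le_symplectic [Fintype F] (hF : Fintype.card F = 2) {t : ℕ} {D : Fin t → Submodule F (ι → F)}
    (hD : IsMDecomposition 2 D) :
    ∃ f : (ι → F) → (ι → F) → F, IsSymplecticForm f ∧ decompositionStabilizer D ≤ similarityGroup f := by
  have h01 : ∀ x : F, x = 0 ∨ x = 1 := by
    classical
    intro x
    by_contra hcon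
    push Not at hcon
    have h3 : ({0, 1, x} : Finset F).card = 3 := by
      rw [Finset.card_eq_three]
      exact ⟨0, 1, x, zero_ne_one, hcon.1.symm, hcon.2.symm, rfl⟩
    have := Finset.card_le_univ ({0, 1, x} : Finset F)
    omega
  have h2 : (1 : F) + 1 = 0 := by
    rcases h01 (1 + 1) with h | h
    · exact h
    · exfalso
      have : (1 : F) = 0 := by linear_combination h
      exact one_ne_zero this
  obtain ⟨B, hB1, hB2, hB3⟩ := exists_adapted_basis hD
  refine ⟨fun u v => frameForm B u v, frameForm_symplectic B, ?_⟩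
  rintro g ⟨σ, hσ⟩
  have hg : ∀ i x, x ∈ D i → (g : Matrix ι ι F) *ᵥ x ∈ D (σ i) := by
    intro i x hx
    rw [← hσ i]
    exact ⟨x, hx, rfl⟩
  -- values on pairs from different members
  have hdiff : ∀ k l x y, k ≠ l → x ∈ D k → y ∈ D l → frameForm B x y = 0 := by
    intro k l x y hkl hx hy
    rw [frameForm_apply]
    apply Finset.sum_eq_zero
    intro i _
    by_cases hik : i = k
    · have hil : i ≠ l := fun h => hkl (hik.symm.trans h)
      rw [hB2 l y hy i 0 hil, hB2 l y hy i 1 hil]; ring
    · rw [hB2 k x hx i 0 hik, hB2 k x hx i 1 hik]; ring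
  -- values inside one member
  have hsame : ∀ k x y, x ∈ D k → y ∈ D k → x ≠ 0 → y ≠ 0 → x ≠ y → frameForm B x y = 1 := by
    intro k x y hx hy hx0 hy0 hxy
    have hval : frameForm B x y = B.repr x ⟨k, 0⟩ * B.repr y ⟨k, 1⟩ - B.repr x ⟨k, 1⟩ * B.repr y ⟨k, 0⟩ := by
      rw [frameForm_apply, Finset.sum_eq_single k]
      · intro i _ hik
        rw [hB2 k x hx i 0 hik, hB2 k x hx i 1 hik]; ring
      · intro h; exact absurd (Finset.mem_univ _) h
    have hext : ∀ z w, z ∈ D k → w ∈ D k → B.repr z ⟨k, 0⟩ = B.repr w ⟨k, 0⟩ → B.repr z ⟨k, 1⟩ = B.repr w ⟨k, 1⟩ →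
        z = w := by
      intro z w hz hw h0 h1
      apply B.repr.injective
      ext ⟨i, j⟩
      by_cases hik : i = k
      · subst hik
        fin_cases j
        · exact h0
        · exact h1
      · rw [hB2 k z hz i j hik, hB2 k w hw i j hik]
    have hx0' : ¬ (B.repr x ⟨k, 0⟩ = 0 ∧ B.repr x ⟨k, 1⟩ = 0) := fun h =>
      hx0 (hext x 0 hx (D k).zero_mem (by simpa using h.1) (by simpa using h.2))
    have hy0' : ¬ (B.repr y ⟨k, 0⟩ = 0 ∧ B.repr y ⟨k, 1⟩ = 0) := fun h =>
      hy0 (hext y 0 hy (D k).zero_mem (by simpa using h.1) (by simpa using h.2))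
    have hxy' : ¬ (B.repr x ⟨k, 0⟩ = B.repr y ⟨k, 0⟩ ∧ B.repr x ⟨k, 1⟩ = B.repr y ⟨k, 1⟩) := fun h =>
      hxy (hext x y hx hy h.1 h.2)
    rw [hval]
    revert hx0' hy0' hxy'
    generalize B.repr x ⟨k, 0⟩ = a
    generalize B.repr x ⟨k, 1⟩ = b
    generalize B.repr y ⟨k, 0⟩ = c
    generalize B.repr y ⟨k, 1⟩ = d
    intro h1 h2' h3
    have hm1 : (-1 : F) = 1 := by linear_combination -h2
    rcases h01 a with rfl | rfl <;> rcases h01 b with rfl | rfl <;> rcases h01 c with rfl | rfl <;>
      rcases h01 d with rfl | rfl <;> simp [hm1] at h1 h2' h3 ⊢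
  refine ⟨1, fun u v => ?_⟩
  rw [Units.val_one, one_mul]
  have hlin : (frameForm B).compl₁₂ (Matrix.toLin' (g : Matrix ι ι F)) (Matrix.toLin' (g : Matrix ι ι F)) =
      frameForm B := by
    apply LinearMap.BilinForm.ext_basis B
    rintro ⟨i, j⟩ ⟨i', j'⟩
    simp only [LinearMap.compl₁₂_apply, Matrix.toLin'_apply]
    by_cases hii : i = i'
    · subst hii
      by_cases hjj : j = j'
      · subst hjj
        rw [(frameForm_symplectic B).alternating, (frameForm_symplectic B).alternating]
      · have hne : B ⟨i, j⟩ ≠ B ⟨i, j'⟩ := by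
          intro h
          have := B.injective h
          simp at this
          exact hjj this
        rw [hsame i _ _ (hB1 i j) (hB1 i j') (B.ne_zero _) (B.ne_zero _) hne]
        refine hsame (σ i) _ _ (hg i _ (hB1 i j)) (hg i _ (hB1 i j')) ?_ ?_ ?_
        · intro h
          apply B.ne_zero ⟨i, j⟩
          apply gl_mulVec_injective g
          simpa using h
        · intro h
          apply B.ne_zero ⟨i, j'⟩
          apply gl_mulVec_injective g
          simpa using h
        · intro h
          exact hne (gl_mulVec_injective g h)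
    · rw [hdiff i i' _ _ hii (hB1 i j) (hB1 i' j')]
      exact hdiff (σ i) (σ i') _ _ (fun h => hii (σ.injective h)) (hg i _ (hB1 i j)) (hg i' _ (hB1 i' j'))
  have := LinearMap.congr_fun (LinearMap.congr_fun hlin u) v
  simpa using this

end Cfsg.Agent.H917
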