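import Cfsg.Agent.H917.Transport

/-!
# Over the field with two elements, `GL₂ ⊗ GL_k` normalises a quadratic extension field (helper917)

`tensor_two_le_normalizer`: if `|F| = 2` and `0 < k` then `tensorProductSubgroup 2 k e P` is contained in
`subalgebraNormalizer K` for a subfield `K` of the matrix algebra of degree 2 over `F`.
-/

set_option autoImplicit false
set_option linter.unusedSectionVars false
set_option linter.unusedVariables false

namespace Cfsg.Agent.H917

open Cfsg Cfsg.Geo
open scoped MatrixGroups Matrix Kronecker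

variable {ι : Type} [Fintype ι] [DecidableEq ι] {F : Type*} [Field F]

/-- The matrix `x + y w` with `w = !![0,1;1,1]`. -/
def quadMat (x y : F) : Matrix (Fin 2) (Fin 2) F := !![x, y; y, x + y]

lemma quadMat_mul (x y a b : F) :
    quadMat x y * quadMat a b = quadMat (x * a + y * b) (x * b + y * a + y * b) := by
  ext i j
  fin_cases i <;> fin_cases j <;> simp [quadMat, Matrix.mul_apply, Fin.sum_univ_two] <;> ring

lemma quadMat_add (x y a b : F) : quadMat x y + quadMat a b = quadMat (x + a) (y + b) := by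
  ext i j
  fin_cases i <;> fin_cases j <;> simp [quadMat] <;> ring

lemma quadMat_algebraMap (c : F) : algebraMap F (Matrix (Fin 2) (Fin 2) F) c = quadMat c 0 := by
  ext i j
  fin_cases i <;> fin_cases j <;> simp [quadMat, Matrix.algebraMap_matrix_apply]

lemma quadMat_one : quadMat (1 : F) 0 = 1 := by
  rw [← quadMat_algebraMap, map_one]

/-- The embedding `a ↦ P (a ⊗ 1) P⁻¹`. -/
noncomputable def leftEmb {n k : ℕ} (e : ι ≃ Fin n × Fin k) (P : GL ι F) :
    Matrix (Fin n) (Fin n) F →ₐ[F] Matrix ι ι F where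
  toFun a := (P : Matrix ι ι F) * (a ⊗ₖ (1 : Matrix (Fin k) (Fin k) F)).submatrix e e *
    ((P⁻¹ : GL ι F) : Matrix ι ι F)
  map_one' := by
    rw [Matrix.one_kronecker_one, Matrix.submatrix_one_equiv, mul_one, mul_inv_coe]
  map_mul' a b := by
    have h : ((a * b) ⊗ₖ (1 : Matrix (Fin k) (Fin k) F)).submatrix e e =
        (a ⊗ₖ (1 : Matrix (Fin k) (Fin k) F)).submatrix e e * (b ⊗ₖ (1 : Matrix (Fin k) (Fin k) F)).submatrix e e := by
      rw [Matrix.submatrix_mul_equiv, ← Matrix.mul_kronecker_mul, one_mul]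
    rw [h]
    calc _ = (P : Matrix ι ι F) * (a ⊗ₖ (1 : Matrix (Fin k) (Fin k) F)).submatrix e e * 1 *
          (b ⊗ₖ (1 : Matrix (Fin k) (Fin k) F)).submatrix e e * ((P⁻¹ : GL ι F) : Matrix ι ι F) := by
            rw [mul_one]; simp only [mul_assoc]
      _ = _ := by rw [← inv_mul_coe P]; simp only [mul_assoc]
  map_zero' := by
    rw [Matrix.zero_kronecker, Matrix.submatrix_zero]
    simp
  map_add' a b := by
    rw [Matrix.add_kronecker, Matrix.submatrix_add]
    simp only [Pi.add_apply, mul_add, add_mul]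
  commutes' c := by
    have h : ((algebraMap F (Matrix (Fin n) (Fin n) F) c) ⊗ₖ (1 : Matrix (Fin k) (Fin k) F)).submatrix e e =
        algebraMap F (Matrix ι ι F) c := by
      rw [Algebra.algebraMap_eq_smul_one, Matrix.smul_kronecker, Matrix.one_kronecker_one,
        Matrix.submatrix_smul, Algebra.algebraMap_eq_smul_one]
      simp only [Pi.smul_apply]
      rw [Matrix.submatrix_one_equiv]
    rw [h, ← Algebra.commutes, mul_assoc, mul_inv_coe, mul_one]

lemma leftEmb_apply {n k : ℕ} (e : ι ≃ Fin n × Fin k) (P : GL ι F) (a : Matrix (Fin n) (Fin n) F) :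
    leftEmb e P a = (P : Matrix ι ι F) * (a ⊗ₖ (1 : Matrix (Fin k) (Fin k) F)).submatrix e e *
      ((P⁻¹ : GL ι F) : Matrix ι ι F) := rfl

lemma leftEmb_injective {n k : ℕ} (hk : 0 < k) (e : ι ≃ Fin n × Fin k) (P : GL ι F) :
    Function.Injective (leftEmb e P) := by
  intro a b hab
  rw [leftEmb_apply, leftEmb_apply] at hab
  have h1 : (a ⊗ₖ (1 : Matrix (Fin k) (Fin k) F)).submatrix e e =
      (b ⊗ₖ (1 : Matrix (Fin k) (Fin k) F)).submatrix e e := by
    have h2 := congrArg (fun M => ((P⁻¹ : GL ι F) : Matrix ι ι F) * M * (P : Matrix ι ι F)) hab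
    simp only [← mul_assoc, inv_mul_coe, one_mul] at h2
    simpa only [mul_assoc, inv_mul_coe, mul_one] using h2
  ext i j
  have h3 := congrFun (congrFun h1 (e.symm (i, ⟨0, hk⟩))) (e.symm (j, ⟨0, hk⟩))
  simpa [Matrix.submatrix_apply, Matrix.kroneckerMap_apply] using h3

/-- Conjugation by a Kronecker product on the left factor algebra. -/
lemma leftEmb_conj {n k : ℕ} (e : ι ≃ Fin n × Fin k) (P : GL ι F) (a : GL (Fin n) F) (b : GL (Fin k) F)
    (g : GL (Fin n × Fin k) F)
    (hg : (g : Matrix (Fin n × Fin k) (Fin n × Fin k) F) = (a : Matrix (Fin n) (Fin n) F) ⊗ₖ (b : Matrix (Fin k) (Fin k) F))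
    (m m' : Matrix (Fin n) (Fin n) F) (hm : (a : Matrix (Fin n) (Fin n) F) * m = m' * (a : Matrix (Fin n) (Fin n) F)) :
    ((P * glReindex e.symm g * P⁻¹ : GL ι F) : Matrix ι ι F) * leftEmb e P m *
      (((P * glReindex e.symm g * P⁻¹)⁻¹ : GL ι F) : Matrix ι ι F) = leftEmb e P m' := by
  set X : GL ι F := P * glReindex e.symm g * P⁻¹ with hX
  have hgr : ((glReindex e.symm g : GL ι F) : Matrix ι ι F) = (g : Matrix _ _ F).submatrix e e := rfl
  have hXv : (X : Matrix ι ι F) = (P : Matrix ι ι F) *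
      ((a : Matrix (Fin n) (Fin n) F) ⊗ₖ (b : Matrix (Fin k) (Fin k) F)).submatrix e e *
        ((P⁻¹ : GL ι F) : Matrix ι ι F) := by
    rw [hX, Units.val_mul, Units.val_mul, hgr, hg]
  have key : (X : Matrix ι ι F) * leftEmb e P m = leftEmb e P m' * (X : Matrix ι ι F) := by
    rw [hXv, leftEmb_apply, leftEmb_apply]
    have h1 : ∀ A B : Matrix ι ι F, (P : Matrix ι ι F) * A * ((P⁻¹ : GL ι F) : Matrix ι ι F) *
        ((P : Matrix ι ι F) * B * ((P⁻¹ : GL ι F) : Matrix ι ι F)) =
        (P : Matrix ι ι F) * (A * B) * ((P⁻¹ : GL ι F) : Matrix ι ι F) := by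
      intro A B
      calc _ = (P : Matrix ι ι F) * A * (((P⁻¹ : GL ι F) : Matrix ι ι F) * (P : Matrix ι ι F)) * B *
            ((P⁻¹ : GL ι F) : Matrix ι ι F) := by simp only [mul_assoc]
        _ = _ := by rw [inv_mul_coe, mul_one]; simp only [mul_assoc]
    rw [h1, h1, Matrix.submatrix_mul_equiv, Matrix.submatrix_mul_equiv, ← Matrix.mul_kronecker_mul,
      ← Matrix.mul_kronecker_mul, mul_one, one_mul, hm]
  rw [key, mul_assoc, mul_inv_coe, mul_one]

/-- The quadratic subfield of the `2 × 2` matrices over a field in which `x² + xy - y²` is anisotropic, embedded. -/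
noncomputable def quadAlg {k : ℕ} (e : ι ≃ Fin 2 × Fin k) (P : GL ι F) : Subalgebra F (Matrix ι ι F) where
  carrier := {m | ∃ x y : F, m = leftEmb e P (quadMat x y)}
  mul_mem' := by
    rintro _ _ ⟨x, y, rfl⟩ ⟨a, b, rfl⟩
    exact ⟨_, _, by rw [← map_mul, quadMat_mul]⟩
  add_mem' := by
    rintro _ _ ⟨x, y, rfl⟩ ⟨a, b, rfl⟩
    exact ⟨_, _, by rw [← map_add, quadMat_add]⟩
  algebraMap_mem' := by
    intro c
    exact ⟨c, 0, by rw [← quadMat_algebraMap, AlgHom.commutes]⟩

lemma mem_quadAlg {k : ℕ} (e : ι ≃ Fin 2 × Fin k) (P : GL ι F) (m : Matrix ι ι F) :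
    m ∈ quadAlg e P ↔ ∃ x y : F, m = leftEmb e P (quadMat x y) := Iff.rfl

lemma quadMat_eq_zero {x y : F} (h : quadMat x y = 0) : x = 0 ∧ y = 0 :=
  ⟨by simpa [quadMat] using congrFun (congrFun h 0) 0, by simpa [quadMat] using congrFun (congrFun h 0) 1⟩

theorem isFieldSubalgebra_quadAlg {k : ℕ} (hk : 0 < k) (e : ι ≃ Fin 2 × Fin k) (P : GL ι F)
    (hani : ∀ x y : F, x * x + x * y - y * y = 0 → x = 0 ∧ y = 0) : IsFieldSubalgebra 2 (quadAlg e P) := by
  refine ⟨?_, ?_, ?_⟩
  · rintro _ ⟨x, y, rfl⟩ _ ⟨a, b, rfl⟩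
    rw [← map_mul, ← map_mul, quadMat_mul, quadMat_mul]
    congr 2 <;> ring
  · rintro _ ⟨x, y, rfl⟩ hne
    have hd : x * x + x * y - y * y ≠ 0 := by
      intro h0
      obtain ⟨rfl, rfl⟩ := hani x y h0
      apply hne
      have : quadMat (0 : F) 0 = 0 := by
        ext i j; fin_cases i <;> fin_cases j <;> simp [quadMat]
      rw [this, map_zero]
    set d := x * x + x * y - y * y
    refine ⟨leftEmb e P (quadMat (d⁻¹ * (x + y)) (d⁻¹ * (-y))), ⟨_, _, rfl⟩, ?_⟩
    rw [← map_mul, quadMat_mul]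
    have h1 : x * (d⁻¹ * (x + y)) + y * (d⁻¹ * (-y)) = 1 := by
      have : x * (d⁻¹ * (x + y)) + y * (d⁻¹ * (-y)) = d⁻¹ * d := by simp only [d]; ring
      rw [this, inv_mul_cancel₀ hd]
    have h2 : x * (d⁻¹ * (-y)) + y * (d⁻¹ * (x + y)) + y * (d⁻¹ * (-y)) = 0 := by ring
    rw [h1, h2, quadMat_one, map_one]
  · let φ : (Fin 2 → F) →ₗ[F] (quadAlg e P) :=
      { toFun := fun v => ⟨leftEmb e P (quadMat (v 0) (v 1)), ⟨_, _, rfl⟩⟩
        map_add' := by
          intro u v
          apply Subtype.ext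
          change leftEmb e P _ = leftEmb e P _ + leftEmb e P _
          rw [← map_add, quadMat_add]; rfl
        map_smul' := by
          intro c v
          apply Subtype.ext
          change leftEmb e P _ = c • leftEmb e P _
          rw [← map_smul]
          congr 1
          ext i j
          fin_cases i <;> fin_cases j <;> simp [quadMat, mul_add] }
    have hφ : Function.Bijective φ := by
      constructor
      · rw [injective_iff_map_eq_zero]
        intro v hv
        have h1 : leftEmb e P (quadMat (v 0) (v 1)) = 0 := congrArg Subtype.val hv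
        have h2 : quadMat (v 0) (v 1) = 0 := leftEmb_injective hk e P (by rw [h1, map_zero])
        obtain ⟨h3, h4⟩ := quadMat_eq_zero h2
        funext i; fin_cases i
        · exact h3
        · exact h4
      · rintro ⟨_, x, y, rfl⟩
        exact ⟨![x, y], rfl⟩
    rw [← (LinearEquiv.ofBijective φ hφ).finrank_eq, Module.finrank_fin_fun]

/-- Over the field with two elements every invertible `2 × 2` matrix normalises `F[w]`. -/
lemma conj_quadMat (h01 : ∀ x : F, x = 0 ∨ x = 1) (h2 : (1 : F) + 1 = 0) (a : GL (Fin 2) F) (x y : F) :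
    ∃ x' y' : F, (a : Matrix (Fin 2) (Fin 2) F) * quadMat x y = quadMat x' y' * (a : Matrix (Fin 2) (Fin 2) F) := by
  have hdet : (a : Matrix (Fin 2) (Fin 2) F).det ≠ 0 := (Matrix.GeneralLinearGroup.det a).ne_zero
  have ha : (a : Matrix (Fin 2) (Fin 2) F) = !![(a : Matrix (Fin 2) (Fin 2) F) 0 0, (a : Matrix (Fin 2) (Fin 2) F) 0 1;
      (a : Matrix (Fin 2) (Fin 2) F) 1 0, (a : Matrix (Fin 2) (Fin 2) F) 1 1] := Matrix.eta_fin_two _
  revert hdet ha
  generalize (a : Matrix (Fin 2) (Fin 2) F) 0 0 = p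
  generalize (a : Matrix (Fin 2) (Fin 2) F) 0 1 = q
  generalize (a : Matrix (Fin 2) (Fin 2) F) 1 0 = r
  generalize (a : Matrix (Fin 2) (Fin 2) F) 1 1 = s
  intro hdet ha
  rw [ha, Matrix.det_fin_two_of] at hdet
  rw [ha]
  have hyy : ∀ z : F, z + z = 0 := fun z => by
    have : z + z = z * (1 + 1) := by ring
    rw [this, h2, mul_zero]
  have case1 : ∀ (M : Matrix (Fin 2) (Fin 2) F), M * quadMat x y = quadMat x y * M →
      ∃ x' y' : F, M * quadMat x y = quadMat x' y' * M := fun M h => ⟨x, y, h⟩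
  have case2 : ∀ (M : Matrix (Fin 2) (Fin 2) F), M * quadMat x y = quadMat (x + y) y * M →
      ∃ x' y' : F, M * quadMat x y = quadMat x' y' * M := fun M h => ⟨x + y, y, h⟩
  rcases h01 p with rfl | rfl <;> rcases h01 q with rfl | rfl <;> rcases h01 r with rfl | rfl <;>
    rcases h01 s with rfl | rfl
  all_goals first
    | (refine absurd ?_ hdet; ring; done)
    | skip
  all_goals first
    | (apply case1; ext i j; fin_cases i <;> fin_cases j <;>
        (simp [quadMat, Matrix.mul_apply, Fin.sum_univ_two];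
         try first
          | done
          | (ring; done)
          | linear_combination h2 * y
          | linear_combination -h2 * y
          | linear_combination h2 * x
          | linear_combination -h2 * x
          | linear_combination h2 * (x + y)
          | linear_combination -h2 * (x + y));
       done)
    | (apply case2; ext i j; fin_cases i <;> fin_cases j <;>
        (simp [quadMat, Matrix.mul_apply, Fin.sum_univ_two];
         try first
          | done
          | (ring; done)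
          | linear_combination h2 * y
          | linear_combination -h2 * y
          | linear_combination h2 * x
          | linear_combination -h2 * x
          | linear_combination h2 * (x + y)
          | linear_combination -h2 * (x + y));
       done)

/-- Over the field with two elements `GL₂ ⊗ GL_k` normalises a quadratic extension field. -/
theorem tensor_two_le_normalizer [Fintype F] (hF : Fintype.card F = 2) {k : ℕ} (hk : 0 < k)
    (e : ι ≃ Fin 2 × Fin k) (P : GL ι F) :
    ∃ K : Subalgebra F (Matrix ι ι F), IsFieldSubalgebra 2 K ∧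
      tensorProductSubgroup 2 k e P ≤ subalgebraNormalizer K := by
  have h01 : ∀ x : F, x = 0 ∨ x = 1 := by
    classical
    intro x
    by_contra hcon
    push Not at hcon
    have h3 : ({0, 1, x} : Finset F).card = 3 := by
      rw [Finset.card_eq_three]
      exact ⟨0, 1, x, zero_ne_one, hcon.1.symm, hcon.2.symm, rfl⟩
    have := Finset.card_le_univ ({0, 1, x} : Finset F)
    omega
  have h2 : (1 : F) + 1 = 0 := by
    rcases h01 (1 + 1) with h | h
    · exact h
    · exfalso
      have : (1 : F) = 0 := by linear_combination h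
      exact one_ne_zero this
  refine ⟨quadAlg e P, isFieldSubalgebra_quadAlg hk e P ?_, ?_⟩
  · intro x y h
    rcases h01 x with rfl | rfl <;> rcases h01 y with rfl | rfl <;> simp at h ⊢
  · intro h hh
    obtain ⟨g, ⟨a, b, hg⟩, rfl⟩ := (mem_transport _ e P h).1 hh
    intro m
    constructor
    · rintro ⟨x, y, rfl⟩
      obtain ⟨x', y', hxy⟩ := conj_quadMat h01 h2 a x y
      exact ⟨x', y', leftEmb_conj e P a b g hg _ _ hxy⟩
    · intro hm
      obtain ⟨x, y, hxy⟩ := hm
      obtain ⟨x', y', hxy'⟩ := conj_quadMat h01 h2 a⁻¹ x y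
      have hginv : ((g⁻¹ : GL (Fin 2 × Fin k) F) : Matrix _ _ F) =
          ((a⁻¹ : GL (Fin 2) F) : Matrix (Fin 2) (Fin 2) F) ⊗ₖ ((b⁻¹ : GL (Fin k) F) : Matrix (Fin k) (Fin k) F) := by
        have h1 : (g : Matrix (Fin 2 × Fin k) (Fin 2 × Fin k) F) *
            (((a⁻¹ : GL (Fin 2) F) : Matrix (Fin 2) (Fin 2) F) ⊗ₖ ((b⁻¹ : GL (Fin k) F) : Matrix (Fin k) (Fin k) F)) = 1 := by
          rw [hg, ← Matrix.mul_kronecker_mul, mul_inv_coe, mul_inv_coe, Matrix.one_kronecker_one]
        calc ((g⁻¹ : GL (Fin 2 × Fin k) F) : Matrix _ _ F) = ((g⁻¹ : GL (Fin 2 × Fin k) F) : Matrix _ _ F) *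
              ((g : Matrix (Fin 2 × Fin k) (Fin 2 × Fin k) F) *
            (((a⁻¹ : GL (Fin 2) F) : Matrix (Fin 2) (Fin 2) F) ⊗ₖ ((b⁻¹ : GL (Fin k) F) : Matrix (Fin k) (Fin k) F))) := by
                rw [h1, mul_one]
          _ = _ := by rw [← mul_assoc, inv_mul_coe, one_mul]
      have h3 := leftEmb_conj e P a⁻¹ b⁻¹ g⁻¹ hginv _ _ hxy'
      rw [← hxy] at h3
      refine ⟨x', y', ?_⟩
      rw [← h3]
      set X : GL ι F := P * glReindex e.symm g * P⁻¹ with hX
      have hX' : P * glReindex e.symm g⁻¹ * P⁻¹ = X⁻¹ := by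
        rw [hX, map_inv]; group
      rw [hX', inv_inv]
      calc m = ((X⁻¹ : GL ι F) : Matrix ι ι F) * (X : Matrix ι ι F) * m *
            (((X⁻¹ : GL ι F) : Matrix ι ι F) * (X : Matrix ι ι F)) := by rw [inv_mul_coe, one_mul, mul_one]
        _ = _ := by simp only [mul_assoc]

end Cfsg.Agent.H917
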