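import Cfsg.Agent.H917.OmCross
import Cfsg.Agent.H917.OmOwn

/-!
# Row S5827 (helper917): the residual class of `Ω₈⁻(q)`
-/

set_option autoImplicit false
set_option linter.unusedSectionVars false

namespace Cfsg.Agent.H917.Om

open Cfsg Cfsg.Geo Matrix Cfsg.Agent.H915.LD

universe u

variable {F : Type u} [Field F] [Fintype F] {Q : (Fin 8 → F) → F} {H : Subgroup (GL (Fin 8) F)}

/-- **Row S5827** -/
theorem row (hk : ∀ (T : Type u) [Group T] [Finite T] [IsSimpleGroup T], IsKnownSimple' T)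
    (nd : IsNondegenerateQuadraticForm Q) (minus : ¬ IsPlusTypeOn Q ⊤) (hH : IsMaximalIn (omegaGL Q) H)
    (hS : InOrthogonalResidualClass H) :
    ∃ P : Subgroup (GL (Fin 8) F), IsResidualCore H P ∧ Concl F (Soc P) := by
  obtain ⟨P, hc, -⟩ := hS
  refine ⟨P, hc, ?_⟩
  obtain ⟨p, hpF⟩ := CharP.exists F
  have hp : Fact p.Prime := ⟨CharP.char_is_prime F p⟩
  have hC := core_of_residual hc
  have hs := hC.simple
  by_cases hL : IsLieTypeChar p (Soc P)
  · exact own p nd minus hH hc hL
  · exact (cross p nd minus hH hc (hk _) hL).elim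

end Cfsg.Agent.H917.Om
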