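import Cfsg.Agent.H917.BigE
import Cfsg.Agent.LieClassical.HermSiegel

/-!
# A large elementary abelian unipotent subgroup of `PSU_n(q)`, `n ≥ 8` (helper917)
-/

set_option autoImplicit false

namespace Cfsg.Agent.H917

open Cfsg Subgroup Matrix
open Cfsg.Agent.LieClassical.HermBasic Cfsg.Agent.LieClassical.HermSiegel

section

variable {F : Type*} [Field F] {n : ℕ}

/-- the isotropic vectors `e_{2k} + ε e_{2k+1}` -/
def isoU (n : ℕ) (ε : F) : Matrix (Fin n) (Fin 4) F := fun i k =>
  if i.1 = 2 * k.1 then 1 else if i.1 = 2 * k.1 + 1 then ε else 0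

theorem isoU_apply (hn : 8 ≤ n) (ε : F) (k l : Fin 4) :
    isoU n ε ⟨2 * k.1, by omega⟩ l = if l = k then 1 else 0 := by
  unfold isoU
  by_cases h : l = k
  · subst h; simp
  · have : k.1 ≠ l.1 := fun h' => h (Fin.ext h'.symm)
    simp only
    rw [if_neg (by omega), if_neg (by omega), if_neg h]

end

section

variable {F : Type*} [Field F] [Fintype F] {q n : ℕ} (hF : Fintype.card F = q ^ 2)

theorem herm_eq_dot (u v : Fin n → F) : hermForm n F q u v = u ⬝ᵥ (fun i => conj hF (v i)) := by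
  unfold hermForm dotProduct
  simp only [conj_apply]

theorem conj_conj (x : F) : conj hF (conj hF x) = x := by
  rw [conj_apply, conj_apply]
  exact pow_q_pow_q hF x

theorem herm_of_transpose {M : Matrix (Fin n) (Fin n) F} (h : Mᵀ * M.map (conj hF) = 1) (u v : Fin n → F) :
    hermForm n F q (M *ᵥ u) (M *ᵥ v) = hermForm n F q u v := by
  rw [herm_eq_dot hF, herm_eq_dot hF]
  have h1 : (fun i => conj hF ((M *ᵥ v) i)) = M.map (conj hF) *ᵥ (fun i => conj hF (v i)) := by
    funext i
    simp only [mulVec, dotProduct, map_sum, map_mul, map_apply]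
  rw [h1, Matrix.dotProduct_mulVec, ← Matrix.vecMul_transpose, Matrix.vecMul_vecMul, h, Matrix.vecMul_one]

variable {κ : Type*} [Fintype κ] [DecidableEq κ]

theorem uni_key {U : Matrix (Fin n) κ F} (hU : (U.map (conj hF))ᵀ * U = 0) {C : Matrix κ κ F}
    (hC : C.map (conj hF) = -Cᵀ) :
    (1 + U * C * (U.map (conj hF))ᵀ)ᵀ * (1 + U * C * (U.map (conj hF))ᵀ).map (conj hF) = 1 := by
  set U' := U.map (conj hF) with hU'
  have h0 : Uᵀ * U' = 0 := by
    have := congrArg Matrix.transpose hU
    rwa [Matrix.transpose_mul, Matrix.transpose_transpose, Matrix.transpose_zero] at this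
  have h1 : U'.map (conj hF) = U := by
    ext i j
    simp only [hU', map_apply, conj_conj hF]
  have h2 : (1 + U * C * U'ᵀ).map (conj hF) = 1 + U' * C.map (conj hF) * Uᵀ := by
    have h5 : (U'ᵀ).map (conj hF) = Uᵀ := by
      ext i j
      simp only [hU', Matrix.map_apply, Matrix.transpose_apply, conj_conj hF]
    rw [Matrix.map_add _ (map_add _), Matrix.map_one _ (map_zero _) (map_one _), Matrix.map_mul, Matrix.map_mul, h5]
  have h3 : (1 + U * C * U'ᵀ)ᵀ = 1 + U' * Cᵀ * Uᵀ := by
    rw [Matrix.transpose_add, Matrix.transpose_one, Matrix.transpose_mul, Matrix.transpose_mul,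
      Matrix.transpose_transpose, Matrix.mul_assoc]
  rw [h2, h3, hC, add_mul, mul_add, mul_add, one_mul, one_mul, mul_one]
  have h4 : U' * Cᵀ * Uᵀ * (U' * -Cᵀ * Uᵀ) = 0 := by
    calc U' * Cᵀ * Uᵀ * (U' * -Cᵀ * Uᵀ) = U' * Cᵀ * (Uᵀ * U') * (-Cᵀ * Uᵀ) := by
          simp only [Matrix.mul_assoc]
      _ = 0 := by rw [h0]; simp
  rw [h4, add_zero, Matrix.mul_neg, Matrix.neg_mul]
  abel

theorem uni_det {U : Matrix (Fin n) κ F} (hU : (U.map (conj hF))ᵀ * U = 0) (C : Matrix κ κ F) :
    (1 + U * C * (U.map (conj hF))ᵀ).det = 1 := by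
  rw [Matrix.det_one_add_mul_comm, ← Matrix.mul_assoc, hU]
  simp

/-- index pairs -/
abbrev Pr (k : ℕ) := {p : Fin k × Fin k // p.1 < p.2}

/-- skew-hermitian matrix with given upper triangle -/
def skew {k : ℕ} (D : Pr k → F) : Matrix (Fin k) (Fin k) F := fun i j =>
  if h : i < j then D ⟨(i, j), h⟩ else if h' : j < i then - conj hF (D ⟨(j, i), h'⟩) else 0

theorem skew_upper {k : ℕ} (D : Pr k → F) (p : Pr k) : skew hF D p.1.1 p.1.2 = D p := by
  unfold skew
  rw [dif_pos p.2]

theorem skew_add {k : ℕ} (D E : Pr k → F) : skew hF (D + E) = skew hF D + skew hF E := by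
  ext i j
  rw [Matrix.add_apply]
  unfold skew
  split_ifs
  · rfl
  · rw [Pi.add_apply, map_add, neg_add]
  · rw [add_zero]

theorem skew_conj {k : ℕ} (D : Pr k → F) : (skew hF D).map (conj hF) = -(skew hF D)ᵀ := by
  ext i j
  rw [Matrix.map_apply, Matrix.neg_apply, Matrix.transpose_apply]
  rcases lt_trichotomy i j with h | h | h
  · have h' : ¬ j < i := not_lt.2 h.le
    simp only [skew, dif_pos h, dif_neg h', neg_neg]
  · subst h
    simp only [skew, dif_neg (lt_irrefl i), map_zero, neg_zero]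
  · have h' : ¬ i < j := not_lt.2 h.le
    simp only [skew, dif_pos h, dif_neg h', map_neg, conj_conj hF]

/-- the unipotent radical -/
noncomputable def uniHom {U : Matrix (Fin n) (Fin 4) F} (hU : (U.map (conj hF))ᵀ * U = 0) :
    Multiplicative (Pr 4 → F) →* SU n F q where
  toFun D := mkSU (1 + U * skew hF D.toAdd * (U.map (conj hF))ᵀ) (uni_det hF hU _)
    (herm_of_transpose hF (uni_key hF hU (skew_conj hF _)))
  map_one' := mat_injective (by
    rw [mat_mkSU, mat_one]
    have : skew hF (Multiplicative.toAdd (1 : Multiplicative (Pr 4 → F))) = 0 := by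
      ext i j
      simp only [skew, toAdd_one, Pi.zero_apply, map_zero, neg_zero, Matrix.zero_apply]
      split_ifs <;> rfl
    rw [this, Matrix.mul_zero, Matrix.zero_mul, add_zero])
  map_mul' D E := mat_injective (by
    rw [mat_mkSU, mat_mul, mat_mkSU, mat_mkSU, toAdd_mul, skew_add, Matrix.mul_add, Matrix.add_mul]
    have h0 : U * skew hF D.toAdd * (U.map (conj hF))ᵀ * (U * skew hF E.toAdd * (U.map (conj hF))ᵀ) = 0 := by
      calc U * skew hF D.toAdd * (U.map (conj hF))ᵀ * (U * skew hF E.toAdd * (U.map (conj hF))ᵀ)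
          = U * skew hF D.toAdd * ((U.map (conj hF))ᵀ * U) * (skew hF E.toAdd * (U.map (conj hF))ᵀ) := by
            simp only [Matrix.mul_assoc]
        _ = 0 := by rw [hU]; simp
    rw [mul_add, add_mul, add_mul, h0, one_mul, mul_one, one_mul, add_zero]
    abel)

theorem isoU_iso (hn : 8 ≤ n) {ε : F} (hε : ε * ε ^ q = -1) :
    ((isoU n ε).map (conj hF))ᵀ * isoU n ε = 0 := by
  ext k l
  rw [Matrix.mul_apply, Matrix.zero_apply]
  simp only [Matrix.transpose_apply, Matrix.map_apply]
  by_cases hkl : k = l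
  · subst hkl
    rw [Fintype.sum_eq_add (⟨2 * k.1, by omega⟩ : Fin n) ⟨2 * k.1 + 1, by omega⟩]
    · have e1 : isoU n ε ⟨2 * k.1, by omega⟩ k = 1 := if_pos rfl
      have e2 : isoU n ε ⟨2 * k.1 + 1, by omega⟩ k = ε := by
        unfold isoU
        rw [if_neg (by simp), if_pos rfl]
      rw [e1, e2, map_one, one_mul, conj_apply, mul_comm, hε]
      exact add_neg_cancel 1
    · intro h
      have := congrArg Fin.val h
      simp at this
    · rintro i ⟨h1, h2⟩
      have e1 : isoU n ε i k = 0 := by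
        unfold isoU
        rw [if_neg (fun h => h1 (Fin.ext h)), if_neg (fun h => h2 (Fin.ext h))]
      rw [e1, mul_zero]
  · apply Finset.sum_eq_zero
    intro i _
    by_cases h1 : isoU n ε i k = 0
    · rw [h1, map_zero, zero_mul]
    · have h2 : isoU n ε i l = 0 := by
        have h3 : i.1 = 2 * k.1 ∨ i.1 = 2 * k.1 + 1 := by
          by_contra hcon
          rw [not_or] at hcon
          exact h1 (by unfold isoU; rw [if_neg hcon.1, if_neg hcon.2])
        have h4 : k.1 ≠ l.1 := fun h => hkl (Fin.ext h)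
        unfold isoU
        rw [if_neg (by omega), if_neg (by omega)]
      rw [h2, mul_zero]

theorem uni_apply (hn : 8 ≤ n) (ε : F) (C : Matrix (Fin 4) (Fin 4) F) (k l : Fin 4) :
    (isoU n ε * C * ((isoU n ε).map (conj hF))ᵀ) ⟨2 * k.1, by omega⟩ ⟨2 * l.1, by omega⟩ = C k l := by
  rw [Matrix.mul_apply, Finset.sum_eq_single l]
  · rw [Matrix.mul_apply, Finset.sum_eq_single k]
    · rw [isoU_apply hn, if_pos rfl, one_mul, Matrix.transpose_apply, Matrix.map_apply, isoU_apply hn, if_pos rfl,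
        map_one, mul_one]
    · intro j _ hj
      rw [isoU_apply hn, if_neg hj, zero_mul]
    · intro h; exact absurd (Finset.mem_univ k) h
  · intro j _ hj
    rw [Matrix.transpose_apply, Matrix.map_apply, isoU_apply hn, if_neg hj, map_zero, mul_zero]
  · intro h; exact absurd (Finset.mem_univ l) h

include hF in
theorem bigE_psu {r : ℕ} [CharP F r] (hn : 8 ≤ n) : BigE r 9 (PSU n F q) := by
  have hr : r.Prime := CharP.char_is_prime F r
  obtain ⟨ε, hε⟩ := exists_norm_eq (q := q) hF (c := (-1 : F)) (by rw [neg_pow_q hF, one_pow])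
  have hU := isoU_iso hF hn hε
  refine bigE_of_hom (V := Pr 4 → F) (fun v => char_smul (F := F) v) (uniHom hF hU) ?_ ?_
  · intro D hD
    have h1 : (uniHom hF hU (Multiplicative.ofAdd D)) ^ r = 1 := by
      rw [← map_pow]
      have : (Multiplicative.ofAdd D) ^ r = 1 := char_smul (F := F) D
      rw [this, map_one]
    have h2 : (⟨_, hD⟩ : center (SU n F q)) ^ Nat.card (center (SU n F q)) = 1 := pow_card_eq_one'
    rw [S0279.result hF n (by omega)] at h2
    have h3 : (uniHom hF hU (Multiplicative.ofAdd D)) ^ (Nat.gcd n (q + 1)) = 1 := congrArg Subtype.val h2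
    have h4 : Nat.Coprime r (Nat.gcd n (q + 1)) := by
      rw [Nat.coprime_comm]
      apply Nat.Coprime.coprime_dvd_left (Nat.gcd_dvd_right _ _)
      obtain ⟨k, hk0, hk⟩ : ∃ k, k ≠ 0 ∧ q = r ^ k := by
        obtain ⟨m, hm, hc⟩ := FiniteField.card F r
        have h5 : q ^ 2 = r ^ (m : ℕ) := by rw [← hF, hc]
        have h6 : q ∣ r ^ (m : ℕ) := by rw [← h5]; exact dvd_pow_self q (by norm_num)
        obtain ⟨k, -, hk⟩ := (Nat.dvd_prime_pow hr).1 h6
        refine ⟨k, ?_, hk⟩
        rintro rfl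
        rw [pow_zero] at hk
        have := two_le hF
        omega
      rw [hk]
      apply Nat.Coprime.symm
      rw [Nat.Prime.coprime_iff_not_dvd hr]
      intro h7
      have h8 : r ∣ r ^ k := dvd_pow_self r hk0
      have h9 := (Nat.dvd_add_right h8).1 h7
      exact hr.one_lt.ne' (Nat.dvd_one.1 h9)
    have h5 : uniHom hF hU (Multiplicative.ofAdd D) = 1 := by
      have h6 := Nat.dvd_gcd (orderOf_dvd_of_pow_eq_one h1) (orderOf_dvd_of_pow_eq_one h3)
      rw [h4] at h6
      exact orderOf_eq_one_iff.1 (Nat.dvd_one.1 h6)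
    have h6 : (1 : Matrix (Fin n) (Fin n) F) + isoU n ε * skew hF D * ((isoU n ε).map (conj hF))ᵀ = 1 :=
      congrArg mat h5
    rw [add_eq_left] at h6
    funext p
    rw [← skew_upper hF D p, ← uni_apply hF hn ε (skew hF D), h6]
    rfl
  · have h1 : Nat.card (Pr 4 → F) = Nat.card F ^ 6 := by
      rw [Nat.card_fun]
      congr 1
      rw [Nat.card_eq_fintype_card]
      decide
    rw [h1, Nat.card_eq_fintype_card, hF]
    have h2 : r ≤ q := by
      have h3 : r ∣ q := by
        obtain ⟨m, hm, hc⟩ := FiniteField.card F r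
        have h5 : r ∣ q ^ 2 := by rw [← hF, hc]; exact dvd_pow_self r m.ne_zero
        exact hr.dvd_of_dvd_pow h5
      exact Nat.le_of_dvd (by have := two_le hF; omega) h3
    calc r ^ 9 ≤ r ^ 12 := Nat.pow_le_pow_right hr.pos (by norm_num)
      _ ≤ q ^ 12 := Nat.pow_le_pow_left h2 12
      _ = (q ^ 2) ^ 6 := by rw [← pow_mul]

end

end Cfsg.Agent.H917
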