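import Cfsg.Agent.H917.BigEO
import Cfsg.Agent.H917.BigESU
import Cfsg.Agent.Cit.LongInst
import Cfsg.Agent.LieClassical.OrthCenter

/-!
# The natural projective representations of the classical groups (helper917)

`NatRep K κ T` : an injective homomorphism `T →* PGL_κ(K)`.
-/

set_option autoImplicit false

namespace Cfsg.Agent.H917

open Cfsg Subgroup Matrix
open scoped MatrixGroups

universe u v w

/-- an injective homomorphism `T →* PGL_κ(K)` -/
def NatRep (K : Type u) [Field K] (κ : Type v) [Fintype κ] [DecidableEq κ] (T : Type w) [Group T] : Prop :=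
  ∃ θ : T →* GL κ K ⧸ Subgroup.center (GL κ K), Function.Injective θ

section

variable {K : Type u} [Field K] {κ : Type v} [Fintype κ] [DecidableEq κ]

theorem NatRep.congr {T T' : Type*} [Group T] [Group T'] (e : T' ≃* T) (h : NatRep K κ T) : NatRep K κ T' := by
  obtain ⟨θ, hθ⟩ := h
  exact ⟨θ.comp e.toMonoidHom, hθ.comp e.injective⟩

/-- quotients by the centre of linear groups with scalar centre -/
theorem NatRep.of_hom {H : Type*} [Group H] (ρ : H →* GL κ K) (hρ : Function.Injective ρ)
    (hc : ∀ z ∈ center H, ρ z ∈ center (GL κ K)) : NatRep K κ (H ⧸ center H) := by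
  have hc' : center H ≤ (center (GL κ K)).comap ρ := hc
  refine ⟨QuotientGroup.map (center H) (center (GL κ K)) ρ hc', ?_⟩
  rw [injective_iff_map_eq_one]
  intro x hx
  obtain ⟨h, rfl⟩ := QuotientGroup.mk_surjective x
  rw [QuotientGroup.map_mk, QuotientGroup.eq_one_iff] at hx
  rw [QuotientGroup.eq_one_iff, mem_center_iff]
  intro g
  apply hρ
  rw [map_mul, map_mul]
  exact (mem_center_iff.1 hx) (ρ g)

theorem mem_center_GL_of_smul {g : GL κ K} {c : K} (h : (g : Matrix κ κ K) = c • 1) : g ∈ center (GL κ K) := by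
  rw [mem_center_iff]
  intro x
  apply Units.ext
  rw [Units.val_mul, Units.val_mul, h, smul_mul_assoc, one_mul, mul_smul_comm, mul_one]

end

theorem natRep_psl (K : Type u) [Field K] (m : ℕ) : NatRep K (Fin m) (ProjectiveSpecialLinearGroup (Fin m) K) := by
  refine NatRep.of_hom (H := SpecialLinearGroup (Fin m) K) SpecialLinearGroup.toGL ?_ ?_
  · exact SpecialLinearGroup.toGL_injective
  · intro z hz
    obtain ⟨c, -, hc⟩ := Matrix.SpecialLinearGroup.mem_center_iff.1 hz
    refine mem_center_GL_of_smul (c := c) ?_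
    change (z : Matrix (Fin m) (Fin m) K) = c • 1
    rw [← hc]
    ext i j
    simp [Matrix.scalar_apply, Matrix.diagonal_apply, Matrix.one_apply]

theorem natRep_psu {K : Type u} [Field K] [Fintype K] {q : ℕ} (hK : Fintype.card K = q ^ 2) {m : ℕ} (hm : 3 ≤ m) :
    NatRep K (Fin m) (PSU m K q) := by
  refine NatRep.of_hom (H := SU m K q) (SpecialLinearGroup.toGL.comp (SU m K q).subtype) ?_ ?_
  · exact SpecialLinearGroup.toGL_injective.comp (SU m K q).subtype_injective
  · intro z hz
    obtain ⟨c, hc⟩ := Cit.LongInst.su_cen hK hm z hz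
    exact mem_center_GL_of_smul (c := c) hc

open Cfsg.Agent.LieClassical Cfsg.Agent.LieClassical.OrthCore Cfsg.Agent.LieClassical.OrthTrans

theorem natRep_pomega {ι : Type} [Fintype ι] [DecidableEq ι] {K : Type u} [Field K] [Finite K]
    {Q : QuadraticForm K (ι → K)} (hG : Good Q) : NatRep K ι (POmega K ⇑Q) := by
  refine NatRep.of_hom (H := Omega K ⇑Q) ((isometryGroup K ⇑Q).subtype.comp (Omega K ⇑Q).subtype) ?_ ?_
  · exact (Subgroup.subtype_injective _).comp (Subgroup.subtype_injective _)
  · intro z hz
    have hdim := hG.dim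
    rw [Module.finrank_fintype_fun_eq_card] at hdim
    have hnd : (QuadraticMap.polarBilin Q).Nondegenerate := by
      exact ⟨fun x hx => hG.nondeg x hx, fun x hx => hG.nondeg x fun y => by
        rw [QuadraticMap.polar_comm]
        exact hx y⟩
    rcases (OrthCenter.mem_center_omega_iff hnd (by omega) hG.sing z).1 hz with h | h
    · exact mem_center_GL_of_smul (c := 1) (by rw [one_smul]; exact h)
    · exact mem_center_GL_of_smul (c := -1) (by rw [neg_smul, one_smul]; exact h)

end Cfsg.Agent.H917
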