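import Cfsg.Agent.H917.FourBase
import Cfsg.Agent.S2100
import Cfsg.Agent.S2101
import Cfsg.Agent.S2102
import Cfsg.Agent.S2103
import Cfsg.Agent.S2104
import Cfsg.Agent.S2105
import Cfsg.Agent.S2106
import Cfsg.Agent.S2107
import Cfsg.Agent.S2108
import Cfsg.Agent.S2109
import Cfsg.Agent.S2110
import Cfsg.Agent.S2111
import Cfsg.Agent.S2112
import Cfsg.Agent.S2113
import Cfsg.Agent.S2114
import Cfsg.Agent.S2115

/-!
# `NoFour` for the exceptional groups of Lie type (helper917)
-/

set_option autoImplicit false

namespace Cfsg.Agent.H917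

open Cfsg

universe u v

theorem noFour_mult_aux {T : Type v} [Group T]
    (h : HasSchurMultiplier T (Multiplicative (ZMod 3 × ZMod 2 × ZMod 2))) : NoFour.{u} T := by
  refine noFour_of_mult h (m := 3) (by decide) ?_
  have : ∀ a : ZMod 3 × ZMod 2 × ZMod 2, (2 * 3) • a = 0 := by decide
  exact this

theorem noFour_mult_aux2 {T : Type v} [Group T]
    (h : HasSchurMultiplier T (Multiplicative (ZMod 2 × ZMod 2))) : NoFour.{u} T := by
  refine noFour_of_mult h (m := 1) (by decide) ?_
  have : ∀ a : ZMod 2 × ZMod 2, (2 * 1) • a = 0 := by decide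
  exact this

theorem noFour_exc {T : Type v} [Group T] (h : IsExceptionalLieType T) : NoFour.{u} T := by
  rcases h with h | h | h | h | h | h | h | h | h | h | h
  · obtain ⟨F, _, _, hF, e⟩ := h
    by_cases h5 : 5 ≤ Fintype.card F
    · exact (noFour_one (S2100.result h5)).of_nonempty e
    · rcases (show Fintype.card F = 3 ∨ Fintype.card F = 4 by omega) with h | h
      · exact (noFour_three (S2101.result h)).of_nonempty e
      · exact (noFour_two (S2102.result h)).of_nonempty e
  · obtain ⟨F, _, _, e⟩ := h
    by_cases h5 : 3 ≤ Fintype.card F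
    · exact (noFour_one (S2103.result h5)).of_nonempty e
    · have h1 : 1 < Fintype.card F := Fintype.one_lt_card
      exact (noFour_two (S2104.result (show Fintype.card F = 2 by omega))).of_nonempty e
  · obtain ⟨F, _, _, e⟩ := h
    exact (noFour_gcd_three (S2105.result rfl)).of_nonempty e
  · obtain ⟨F, _, _, e⟩ := h
    exact (noFour_gcd_two (S2106.result rfl)).of_nonempty e
  · obtain ⟨F, _, _, e⟩ := h
    exact (noFour_one S2107.result).of_nonempty e
  · obtain ⟨K, _, _, q, hq, hK, e⟩ := h
    by_cases h2 : q = 2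
    · subst h2
      exact (noFour_mult_aux (S2109.result hK)).of_nonempty e
    · exact (noFour_gcd_three (S2108.result hq hK h2)).of_nonempty e
  · obtain ⟨K, _, _, q, hq, hK, e⟩ := h
    exact (noFour_one (S2110.result hq hK)).of_nonempty e
  · obtain ⟨F, _, _, m, hm, hF, e⟩ := h
    by_cases h2 : m = 1
    · subst h2
      exact (noFour_mult_aux2 (S2112.result hF)).of_nonempty e
    · exact (noFour_one (S2111.result (show 2 ≤ m by omega) hF)).of_nonempty e
  · obtain ⟨F, _, _, m, hm, hF, e⟩ := h
    exact (noFour_one (S2113.result hm hF)).of_nonempty e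
  · obtain ⟨F, _, _, m, hm, hF, e⟩ := h
    exact (noFour_one (S2114.result hm hF)).of_nonempty e
  · exact (noFour_one S2115.result).of_nonempty h

end Cfsg.Agent.H917
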