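import Cfsg.Agent.H917.FourSpor
import Cfsg.Agent.H917.FourExc
import Cfsg.Agent.H917.FourClass

/-!
# Known simple groups with a perfect central extension with an element of order 4 in the kernel (helper917)

`no_four` : a known non-abelian simple group of order divisible by `2 ^ 15` with a perfect central extension by a
2-group, the kernel having an element which does not satisfy `z ^ 2 = 1`, is `PSL_n(q)`, `PSU_n(q)`, or
`PΩ^±_{2l}(q)` with `l ≥ 5` odd, `q` odd in all cases.
-/

set_option autoImplicit false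

namespace Cfsg.Agent.H917

open Cfsg

universe u v

theorem no_four {T : Type v} [Group T] (h : IsKnownSimple' T) (hna : ¬ ∀ a b : T, a * b = b * a)
    (h15 : 2 ^ 15 ∣ Nat.card T) : NoFour.{u} T ∨
    (∃ (F : Type) (_ : Field F) (_ : Fintype F) (n : ℕ), 2 ≤ n ∧ Odd (Fintype.card F) ∧
      Nonempty (T ≃* Matrix.ProjectiveSpecialLinearGroup (Fin n) F)) ∨
    (∃ (F : Type) (_ : Field F) (_ : Fintype F) (n q : ℕ), Fintype.card F = q ^ 2 ∧ 3 ≤ n ∧ Odd q ∧
      Nonempty (T ≃* PSU n F q)) ∨
    (∃ (F : Type) (_ : Field F) (_ : Fintype F) (l : ℕ), 5 ≤ l ∧ Odd l ∧ Odd (Fintype.card F) ∧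
      Nonempty (T ≃* POmega F (quadFormPlus l F))) ∨
    (∃ (F : Type) (_ : Field F) (_ : Fintype F) (l : ℕ) (a b : F), 5 ≤ l ∧ Odd l ∧ Odd (Fintype.card F) ∧
      (∀ z₁ z₂ : F, z₁ ^ 2 + a * z₁ * z₂ + b * z₂ ^ 2 = 0 → z₁ = 0 ∧ z₂ = 0) ∧
      Nonempty (T ≃* POmega F (quadFormMinus (l - 1) F a b))) := by
  rcases h with h | h | h | h | h | h | h | h | h | h
  · exfalso
    apply hna
    have : Fact (Nat.card T).Prime := ⟨h⟩
    have : IsCyclic T := isCyclic_of_prime_card (p := Nat.card T) rfl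
    let _ : CommGroup T := IsCyclic.commGroup
    exact fun a b => mul_comm a b
  · obtain ⟨n, hn, e⟩ := h
    exact Or.inl ((noFour_alt hn).of_nonempty e)
  · rcases noFour_psl.{u} h h15 with h | h
    · exact Or.inl h
    · exact Or.inr (Or.inl h)
  · exact Or.inl (noFour_psp h)
  · rcases noFour_psu.{u} h h15 with h | h
    · exact Or.inl h
    · exact Or.inr (Or.inr (Or.inl h))
  · exact Or.inl (noFour_oodd h h15)
  · rcases noFour_oplus.{u} h with h | h
    · exact Or.inl h
    · exact Or.inr (Or.inr (Or.inr (Or.inl h)))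
  · rcases noFour_ominus.{u} h with h | h
    · exact Or.inl h
    · exact Or.inr (Or.inr (Or.inr (Or.inr h)))
  · exact Or.inl (noFour_exc h)
  · exact Or.inl (noFour_spor h h15)

end Cfsg.Agent.H917
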