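import Cfsg.Agent.H912.Bd4

/-!
# The rank of elementary abelian `r`-subgroups of a projective group in dimension `n` (helper917)

`PR.card_le_pow` : `T` with a projective representation in dimension `n`, `r` a prime which is not the characteristic and
does not divide the order of the kernel; an elementary abelian `r`-subgroup of `T` has order at most `r ^ n`.
-/

set_option autoImplicit false

namespace Cfsg.Agent.H917

open Module Cfsg.Agent.H912.Bd

universe u v

variable {F : Type u} [Field F] {n r : ℕ} {T : Type v} [Group T]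

theorem PR.card_le_pow (h : PR F n r T) (hr : r.Prime) (hrF : (r : F) ≠ 0) (E : Subgroup T) [Finite E]
    (hE : ∀ a ∈ E, ∀ b ∈ E, a * b = b * a) (hexp : ∀ e ∈ E, e ^ r = 1) : Nat.card E ≤ r ^ n := by
  classical
  have hEr : IsPGroup r E := fun e => ⟨1, Subtype.ext (by rw [pow_one]; exact hexp e e.2)⟩
  obtain ⟨L, _, π, ρ, hπ, hc, hcop, hρ⟩ := h
  obtain ⟨A, hA, hAc, ⟨N, hN, hAN⟩, hlift, hnorm⟩ := exists_data (F := F) hπ hc hcop hr hrF hE hEr
  have hAr : ∀ a ∈ A, a ^ r = 1 := by
    intro a ha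
    obtain ⟨h1, k, hk⟩ := (hA a).1 ha
    refine eq_one_of_ker hcop (k := k) ?_ ?_
    · rw [map_pow]; exact hexp _ h1
    · rw [← pow_mul, mul_comm, pow_mul, hk, one_pow]
  let K := AlgebraicClosure F
  let S := {χ : A → K // wt (repK ρ) A χ ≠ ⊥}
  have hind : iSupIndep (wt (repK ρ) A) := indep_wt (repK ρ) hAc hN hAN
  have hfin : Finite S := (WellFoundedGT.finite_ne_bot_of_iSupIndep hind)
  have : Fintype S := Fintype.ofFinite S
  have hS : Nat.card S ≤ n := by
    have h1 := iSupIndep.subtype_ne_bot_le_finrank hind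
    rw [Module.finrank_fintype_fun_eq_card, Fintype.card_fin] at h1
    rw [Nat.card_eq_fintype_card]
    exact h1
  let R : Finset K := (Polynomial.nthRoots r (1 : K)).toFinset
  have hR : R.card ≤ r := (Multiset.toFinset_card_le _).trans (Polynomial.card_nthRoots r 1)
  have hmem : ∀ (χ : S) (a : A), χ.1 a ∈ R := by
    intro χ a
    rw [Multiset.mem_toFinset, Polynomial.mem_nthRoots hr.pos]
    have h1 : ∀ k : ℕ, χ.1 (a ^ k) = χ.1 a ^ k := by
      intro k
      induction k with
      | zero => rw [pow_zero, pow_zero]; exact wt_one (repK ρ) χ.2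
      | succ k ih => rw [pow_succ, pow_succ, ← ih]; exact wt_mul (repK ρ) χ.2 _ _
    rw [← h1, show a ^ r = 1 from Subtype.ext (hAr a a.2)]
    exact wt_one (repK ρ) χ.2
  let f : A → (S → R) := fun a χ => ⟨χ.1 a, hmem χ a⟩
  have hf : Function.Injective f := by
    intro a b hab
    have h1 : ∀ χ : S, χ.1 a = χ.1 b := fun χ => congrArg Subtype.val (congrFun hab χ)
    have h2 : repK ρ ((a * b⁻¹ : A) : L) = 1 := by
      by_contra hcon
      obtain ⟨χ, hχ, hne⟩ := exists_wt (repK ρ) hAc hN hAN hcon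
      apply hne
      have h3 := wt_mul (repK ρ) hχ a b⁻¹
      have h4 := wt_mul (repK ρ) hχ b b⁻¹
      rw [mul_inv_cancel, wt_one (repK ρ) hχ] at h4
      have h5 : χ a = χ b := h1 ⟨χ, hχ⟩
      rw [h3, h5, ← h4]
    have h3 : ((a * b⁻¹ : A) : L) ∈ ρ.ker := eq_one_of_repK h2
    have h4 := hρ h3
    rw [MonoidHom.mem_ker] at h4
    have h5 : ((a * b⁻¹ : A) : L) = 1 := by
      obtain ⟨-, k, hk⟩ := (hA _).1 (a * b⁻¹).2
      exact eq_one_of_ker hcop h4 hk
    have h6 : a * b⁻¹ = 1 := Subtype.ext h5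
    exact mul_inv_eq_one.1 h6
  have hAfin : Finite A := Finite.of_injective f hf
  have h1 : Nat.card E ≤ Nat.card A := by
    have hsurj : Function.Surjective (fun a : A => (⟨π a, ((hA a).1 a.2).1⟩ : E)) := by
      rintro ⟨e, he⟩
      obtain ⟨a, ha, rfl⟩ := hlift e he
      exact ⟨⟨a, ha⟩, rfl⟩
    exact Nat.card_le_card_of_surjective _ hsurj
  refine h1.trans ((Nat.card_le_card_of_injective f hf).trans ?_)
  rw [Nat.card_fun, Nat.card_eq_fintype_card (α := R), Fintype.card_coe]
  calc R.card ^ Nat.card S ≤ r ^ Nat.card S := Nat.pow_le_pow_left hR _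
    _ ≤ r ^ n := Nat.pow_le_pow_right hr.pos hS

end Cfsg.Agent.H917
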