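import Cfsg.Agent.H917.Rank
import Cfsg.Agent.ETable.OrthBase
import Cfsg.Agent.S0279

/-!
# Elementary abelian unipotent subgroups of large rank in classical groups (helper917)

`BigE r k T` : `T` has an elementary abelian `r`-subgroup of order at least `r ^ k`.
* `bigE_psl` : `PSL_m(F)`, `6 ≤ m`, `k = 9`;
* `bigE_pomega` : `PΩ(Q)` for a good quadratic form in dimension `k + 2`;
* `BigE.false` : no projective representation in dimension `< k` in another characteristic.
-/

set_option autoImplicit false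

namespace Cfsg.Agent.H917

open Cfsg Subgroup Matrix

universe u v

/-- `T` has an elementary abelian `r`-subgroup of order at least `r ^ k` -/
def BigE (r k : ℕ) (T : Type*) [Group T] : Prop :=
  ∃ E : Subgroup T, (∀ a ∈ E, ∀ b ∈ E, a * b = b * a) ∧ (∀ e ∈ E, e ^ r = 1) ∧ r ^ k ≤ Nat.card E

theorem BigE.congr {r k : ℕ} {T T' : Type*} [Group T] [Group T'] (e : T' ≃* T) (h : BigE r k T) : BigE r k T' := by
  obtain ⟨E, h1, h2, h3⟩ := h
  refine ⟨E.map e.symm.toMonoidHom, ?_, ?_, ?_⟩
  · rintro _ ⟨a, ha, rfl⟩ _ ⟨b, hb, rfl⟩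
    rw [← map_mul, ← map_mul, h1 a ha b hb]
  · rintro _ ⟨a, ha, rfl⟩
    rw [← map_pow, h2 a ha, map_one]
  · have : Nat.card (E.map e.symm.toMonoidHom) = Nat.card E :=
      (Nat.card_congr (E.equivMapOfInjective _ e.symm.injective).toEquiv).symm
    rw [this]; exact h3

theorem BigE.false {F : Type u} [Field F] {n r k : ℕ} {T : Type v} [Group T] [Finite T] (h : BigE r k T)
    (hn : n < k) (hP : H912.Bd.PR F n r T) (hr : r.Prime) (hrF : (r : F) ≠ 0) : False := by
  obtain ⟨E, h1, h2, h3⟩ := h
  have h4 := PR.card_le_pow hP hr hrF E h1 h2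
  have h5 := h3.trans h4
  exact absurd ((Nat.pow_le_pow_iff_right hr.one_lt).1 h5) (by omega)

theorem bigE_of_hom {r k : ℕ} {V H : Type*} [AddCommGroup V] [Group H] (hV : ∀ v : V, r • v = 0)
    (f : Multiplicative V →* H) (hz : ∀ v : V, f (Multiplicative.ofAdd v) ∈ center H → v = 0)
    (hc : r ^ k ≤ Nat.card V) : BigE r k (H ⧸ center H) := by
  let φ : Multiplicative V →* H ⧸ center H := (QuotientGroup.mk' (center H)).comp f
  have hφ : Function.Injective φ := by
    rw [injective_iff_map_eq_one]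
    intro v hv
    have h1 : f v ∈ center H := (QuotientGroup.eq_one_iff _).1 hv
    exact hz v.toAdd h1
  refine ⟨φ.range, ?_, ?_, ?_⟩
  · rintro _ ⟨a, rfl⟩ _ ⟨b, rfl⟩
    rw [← map_mul, ← map_mul, mul_comm]
  · rintro _ ⟨a, rfl⟩
    rw [← map_pow]
    have : a ^ r = 1 := hV a.toAdd
    rw [this, map_one]
  · have : Nat.card φ.range = Nat.card V := (Nat.card_congr (MonoidHom.ofInjective hφ).toEquiv).symm
    rw [this]; exact hc

theorem char_smul {F M : Type*} [Field F] {r : ℕ} [CharP F r] [AddCommGroup M] [Module F M] (v : M) : r • v = 0 := by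
  rw [← Nat.cast_smul_eq_nsmul F, CharP.cast_eq_zero, zero_smul]

theorem char_le_card (F : Type*) [Field F] [Finite F] (r : ℕ) [CharP F r] : r ≤ Nat.card F :=
  ETable.le_card_of_charP F r

theorem bigE_psl {F : Type*} [Field F] [Finite F] {r : ℕ} [CharP F r] {m : ℕ} (hm : 6 ≤ m) :
    BigE r 9 (ProjectiveSpecialLinearGroup (Fin m) F) := by
  let a : Fin 9 → Fin m := fun i => ⟨i.1 / 3, by omega⟩
  let b : Fin 9 → Fin m := fun i => ⟨3 + i.1 % 3, by omega⟩
  have h : ∀ i j, b i ≠ a j := by
    intro i j hij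
    have := congrArg Fin.val hij
    simp only [a, b] at this
    omega
  have hinj : Function.Injective fun i => (a i, b i) := by
    intro i j hij
    have h1 := congrArg (fun x => x.1.1) hij
    have h2 := congrArg (fun x => x.2.1) hij
    simp only [a, b] at h1 h2
    apply Fin.ext
    omega
  refine bigE_of_hom (V := Fin 9 → F) (fun v => char_smul (F := F) v) (ETable.spSL h)
    (fun v hv => ETable.spSL_center h hinj hv) ?_
  have : Nat.card (Fin 9 → F) = Nat.card F ^ 9 := by rw [Nat.card_fun]; simp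
  rw [this]
  exact Nat.pow_le_pow_left (char_le_card F r) 9

end Cfsg.Agent.H917
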