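import Cfsg.Agent.H917.BigE

/-!
# A large elementary abelian unipotent subgroup of `PΩ(Q)` (helper917)
-/

set_option autoImplicit false

namespace Cfsg.Agent.H917

open Cfsg Subgroup QuadraticMap
open Cfsg.Agent.LieClassical Cfsg.Agent.LieClassical.OrthCore Cfsg.Agent.LieClassical.OrthTrans
  Cfsg.Agent.LieClassical.OrthFinite Cfsg.Agent.LieClassical.OrthSimple

section

variable {F V : Type*} [Field F] [AddCommGroup V] [Module F V] {Q : QuadraticForm F V}

/-- the vectors orthogonal to two vectors -/
def perp2 (Q : QuadraticForm F V) (u v : V) : Submodule F V :=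
  LinearMap.ker (polarBilin Q u) ⊓ LinearMap.ker (polarBilin Q v)

theorem mem_perp2 {u v w : V} : w ∈ perp2 Q u v ↔ polar Q u w = 0 ∧ polar Q v w = 0 := Iff.rfl

/-- the unipotent radical of the stabiliser of `⟨u⟩` -/
noncomputable def radHom (u v : V) (hu : Q u = 0) : Multiplicative (perp2 Q u v) →* E Q where
  toFun w := ⟨siegel Q u (w.toAdd : V) hu (mem_perp2.1 w.toAdd.2).1, siegel_mem_E hu _⟩
  map_one' := Subtype.ext (by
    ext x
    have h0 : polar Q u 0 = 0 := polar_zero_right _ _
    change siegel Q u 0 hu h0 x = x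
    rw [siegel_apply]
    simp)
  map_mul' a b := Subtype.ext
    (siegel_mul hu (mem_perp2.1 a.toAdd.2).1 (mem_perp2.1 b.toAdd.2).1
      (mem_perp2.1 (a.toAdd + b.toAdd).2).1).symm

theorem radHom_center (hnd : Nondeg Q) {u v : V} (h : Hyp Q u v) (w : perp2 Q u v)
    (hw : radHom u v h.left (Multiplicative.ofAdd w) ∈ center (E Q)) : w = 0 := by
  have hw1 := mem_perp2.1 w.2
  have hvu : polar Q v u = 1 := h.pair'
  have hvv : polar Q v v = 0 := by
    rw [polar_self, h.right, smul_zero]
  have huu : polar Q u u = 0 := by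
    rw [polar_self, h.left, smul_zero]
  -- image of `v`
  set g : V := siegel Q u (w : V) h.left hw1.1 v with hg
  have hgv : g = v + (w : V) - (Q w) • u := by
    rw [hg, siegel_apply, h.pair, one_smul, mul_one, polar_comm _ (w : V) v, hw1.2, zero_smul, sub_zero]
  have key : ∀ w' : V, polar Q u w' = 0 → polar Q v w' = 0 →
      polar Q v g • w' - polar Q w' g • v - (Q w' * polar Q v g) • v = 0 := by
    intro w' h1 h2
    have hE : siegel Q v w' h.right h2 ∈ E Q := siegel_mem_E _ _
    have h3 := Subgroup.mem_center_iff.1 hw ⟨_, hE⟩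
    have h4 : siegel Q v w' h.right h2 * siegel Q u (w : V) h.left hw1.1 =
        siegel Q u (w : V) h.left hw1.1 * siegel Q v w' h.right h2 := congrArg Subtype.val h3
    have h5 := congrArg (fun f : V ≃ₗ[F] V => f v) h4
    simp only [LinearEquiv.mul_apply] at h5
    have h6 : siegel Q v w' h.right h2 v = v := by
      rw [siegel_apply, hvv, polar_comm _ w' v, h2]
      simp
    rw [h6, ← hg, siegel_apply] at h5
    have h7 : g + (polar Q v g • w' - polar Q w' g • v - (Q w' * polar Q v g) • v) = g := by
      refine Eq.trans ?_ h5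
      abel
    exact add_eq_left.1 h7
  have hvg : polar Q v g = - Q w := by
    rw [hgv, sub_eq_add_neg, polar_add_right, polar_add_right, polar_neg_right, polar_smul_right, hvv, hw1.2, hvu]
    simp
  have key2 : ∀ w' : V, polar Q u w' = 0 → polar Q v w' = 0 → polar Q w w' = 0 := by
    intro w' h1 h2
    have h3 := key w' h1 h2
    have h4 : polar Q w' g = polar Q w w' := by
      rw [hgv, sub_eq_add_neg, polar_add_right, polar_add_right, polar_neg_right, polar_smul_right,
        polar_comm _ w' v, h2, polar_comm _ w' u, h1, polar_comm _ w' (w : V)]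
      simp
    rw [hvg, h4] at h3
    have h5 := congrArg (polar Q u) h3
    rw [sub_eq_add_neg, sub_eq_add_neg, polar_add_right, polar_add_right, polar_neg_right, polar_neg_right,
      polar_smul_right, polar_smul_right, polar_smul_right, h1, h.pair, polar_zero_right] at h5
    simp only [smul_eq_mul, mul_zero, mul_one, zero_add] at h5
    -- h5 : - polar w w' + - (Q w' * - Q w) = 0
    have h6 : polar Q w w' = Q w' * Q w := by linear_combination -h5
    rw [h6] at h3
    have h7 : -(Q w) • w' = 0 := by
      have : -Q w • w' - (Q w' * Q w) • v - (Q w' * -Q w) • v = -Q w • w' := by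
        rw [mul_neg, neg_smul (Q w' * Q w) v]
        abel
      rw [← this]; exact h3
    rcases smul_eq_zero.1 h7 with h8 | h8
    · rw [h6, neg_eq_zero.1 h8, mul_zero]
    · rw [h8, polar_zero_right]
  apply Subtype.ext
  apply hnd
  intro y
  set w' : V := y - polar Q v y • u - polar Q u y • v with hw'
  have h1 : polar Q u w' = 0 := by
    rw [hw', sub_eq_add_neg, sub_eq_add_neg, polar_add_right, polar_add_right, polar_neg_right, polar_neg_right,
      polar_smul_right, polar_smul_right, huu, h.pair]
    simp
  have h2 : polar Q v w' = 0 := by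
    rw [hw', sub_eq_add_neg, sub_eq_add_neg, polar_add_right, polar_add_right, polar_neg_right, polar_neg_right,
      polar_smul_right, polar_smul_right, hvv, hvu]
    simp
  have h3 := key2 w' h1 h2
  rw [hw', sub_eq_add_neg, sub_eq_add_neg, polar_add_right, polar_add_right, polar_neg_right, polar_neg_right,
      polar_smul_right, polar_smul_right, polar_comm _ (w : V) u, hw1.1, polar_comm _ (w : V) v, hw1.2] at h3
  simpa using h3

end

section

variable {ι : Type} [Fintype ι] [DecidableEq ι] {F : Type*} [Field F] [Finite F] {Q : QuadraticForm F (ι → F)}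

theorem bigE_pomega (hG : Good Q) {r k : ℕ} [CharP F r] (hk : k + 2 ≤ Fintype.card ι) :
    BigE r k (POmega F ⇑Q) := by
  obtain ⟨u, v, h⟩ := hG.exists_hyp
  have e : POmega F ⇑Q ≃* E Q ⧸ center (E Q) :=
    quotientCenterCongr ((omegaEquiv Q).trans (MulEquiv.subgroupCongr hG.commutator_eq_E))
  refine BigE.congr e (bigE_of_hom (V := perp2 Q u v) (fun w => char_smul (F := F) w) (radHom u v h.left)
    (fun w hw => radHom_center hG.nondeg h w hw) ?_)
  have h1 : k ≤ Module.finrank F (perp2 Q u v) := by
    let f : (ι → F) →ₗ[F] F × F := (polarBilin Q u).prod (polarBilin Q v)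
    have hf : LinearMap.ker f = perp2 Q u v := by
      rw [LinearMap.ker_prod]; rfl
    have h2 := LinearMap.finrank_range_add_finrank_ker f
    rw [hf, Module.finrank_fintype_fun_eq_card] at h2
    have h3 : Module.finrank F (LinearMap.range f) ≤ 2 := by
      refine (Submodule.finrank_le _).trans ?_
      rw [Module.finrank_prod, Module.finrank_self]
    omega
  have h2 : Nat.card (perp2 Q u v) = Nat.card F ^ Module.finrank F (perp2 Q u v) := Module.natCard_eq_pow_finrank
  rw [h2]
  calc r ^ k ≤ Nat.card F ^ k := Nat.pow_le_pow_left (char_le_card F r) k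
    _ ≤ _ := Nat.pow_le_pow_right Nat.card_pos h1

end

end Cfsg.Agent.H917
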