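import Cfsg.Agent.H917.Res8Over
import Cfsg.Agent.Schreier.Assembly

/-!
# The class 6 subgroups `4∘2^{1+6}.Sp_6(2)` are maximal in `SL_8(p)`, `p ≡ 1 mod 4`, and in `SU_8(p)`, `p ≡ 3 mod 4`
(helper917)

`hK` is the classification (`S0000.result`).
-/

set_option autoImplicit false

namespace Cfsg.Agent.H917

open Cfsg Cfsg.Geo Subgroup Matrix Cfsg.Agent.H920
open scoped MatrixGroups

universe u

variable {F : Type u} [Field F] [Fintype F]

theorem schAll (ι : Type) [Fintype ι] [DecidableEq ι]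
    (hK : ∀ (T : Type u) [Group T] [Finite T] [IsSimpleGroup T], IsKnownSimple' T) : SchAll ι F := by
  intro P hs hna
  have hfin : Finite (GL ι F) := inferInstance
  have hfin2 : Finite (H878.SQ P) := inferInstanceAs (Finite (P ⧸ (scalars ι F).subgroupOf P))
  exact Schreier.Assembly.known _ hna (hK _)

theorem c6_sl8 (hK : ∀ (T : Type u) [Group T] [Finite T] [IsSimpleGroup T], IsKnownSimple' T) {p : ℕ}
    (hp : p.Prime) (hF : Fintype.card F = p) (h4 : p % 4 = 1) {R : Subgroup (GL (Fin 8) F)}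
    (hR : IsLinearSymplecticTypeData 2 R) :
    IsMaximalIn (specialLinear (Fin 8) F) (subgroupNormalizer R ⊓ specialLinear (Fin 8) F) :=
  maximal_SL hR (by rw [Fintype.card_fin]; norm_num) (schAll (Fin 8) hK)
    fun _ _ _ _ _ hX hO _ => over_sl hp hF h4 hK hX hO

theorem c6_su8 (hK : ∀ (T : Type u) [Group T] [Finite T] [IsSimpleGroup T], IsKnownSimple' T) {p : ℕ}
    (hp : p.Prime) (hF : Fintype.card F = p ^ 2) (h4 : p % 4 = 3) {R : Subgroup (GL (Fin 8) F)}
    (hR : IsSymplecticTypeGroup 2 R) (hirr : ActsAbsolutelyIrreducibly (matrixSet R)) (hRD : R ≤ GU 8 F p)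
    (hcard : Nat.card R = 256) (hZ : Nat.card (Subgroup.center R) = 4) :
    IsMaximalIn (GU 8 F p ⊓ specialLinear (Fin 8) F)
      (subgroupNormalizer R ⊓ (GU 8 F p ⊓ specialLinear (Fin 8) F)) := by
  have hpF : Fact p.Prime := ⟨hp⟩
  have hch : CharP F p := charP_of_card_eq_prime_pow hF
  have hmin : IsMinimalFieldFor (Nat.card (Subgroup.center R)) p 2 F := by
    refine ⟨hp, hch, hF, ?_, ?_⟩
    · rw [hZ]
      obtain ⟨k, hk⟩ : ∃ k, p = 4 * k + 3 := ⟨p / 4, by omega⟩
      refine ⟨4 * k ^ 2 + 6 * k + 2, ?_⟩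
      have : p ^ 2 = 4 * (4 * k ^ 2 + 6 * k + 2) + 1 := by rw [hk]; ring
      omega
    · intro d hd hd2
      have : d = 1 := by omega
      subst this
      rw [hZ, pow_one]
      omega
  exact maximal_SU hF (by norm_num) hR hirr hRD hmin (k := 3) (Or.inr ⟨rfl, hZ, by rw [hcard]; norm_num⟩)
    (schAll (Fin 8) hK) fun _ _ _ _ hX hO => over_su hp hF h4 hK hX hO

end Cfsg.Agent.H917
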