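import Cfsg.Agent.H917.FourBase
import Cfsg.Agent.OrdDiv.Table
import Cfsg.Agent.S2034
import Cfsg.Agent.S2035
import Cfsg.Agent.S2037
import Cfsg.Agent.S2038
import Cfsg.Agent.S2039
import Cfsg.Agent.S2040
import Cfsg.Agent.S2041
import Cfsg.Agent.S2042
import Cfsg.Agent.S2043
import Cfsg.Agent.S2044
import Cfsg.Agent.S2045
import Cfsg.Agent.S2046
import Cfsg.Agent.S2047
import Cfsg.Agent.S2049
import Cfsg.Agent.S2050
import Cfsg.Agent.S2051
import Cfsg.Agent.S2052
import Cfsg.Agent.S2053
import Cfsg.Agent.S2054
import Cfsg.Agent.S2055
import Cfsg.Agent.S2056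
import Cfsg.Agent.S2057
import Cfsg.Agent.S2058
import Cfsg.Agent.S2059
import Cfsg.Agent.S2115

/-!
# `NoFour` for the sporadic groups (helper917)

`noFour_spor` : a sporadic group of order divisible by `2 ^ 15` has no perfect central extension by a 2-group with an
element of order 4 in the kernel (the exceptions `M22` and, as long as S2048 is missing, `Suz` are excluded by order).
-/

set_option autoImplicit false

namespace Cfsg.Agent.H917

open Cfsg

universe u v

theorem not_suz {T : Type v} [Group T] (h15 : 2 ^ 15 ∣ Nat.card T) (h : Spor.IsoSuz T) : False := by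
  have h1 := OrdDiv.table.{v}.spor T (.suz, 448345497600) (by decide) h
  rw [h1] at h15
  revert h15
  decide

theorem not_m22 {T : Type v} [Group T] (h15 : 2 ^ 15 ∣ Nat.card T) (h : Spor.IsoM22 T) : False := by
  have h1 := OrdDiv.table.{v}.spor T (.m22, 443520) (by decide) h
  rw [h1] at h15
  revert h15
  decide

theorem noFour_spor {T : Type v} [Group T] (h : IsSporadicGroup T) (h15 : 2 ^ 15 ∣ Nat.card T) : NoFour.{u} T := by
  rcases h with h | h | h | h | h | h | h | h | h | h | h | h | h | h | h | h | h | h | h | h | h | h | h | h | h | h
  · exact (noFour_one S2034.result).of_nonempty h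
  · exact (noFour_two S2035.result).of_nonempty h
  · exact (not_m22 h15 h).elim
  · exact (noFour_one S2037.result).of_nonempty h
  · exact (noFour_one S2038.result).of_nonempty h
  · exact (noFour_one S2039.result).of_nonempty h
  · exact (noFour_two S2040.result).of_nonempty h
  · obtain ⟨F, _, _, ω, hF, hω, e⟩ := h
    exact (noFour_three (S2041.result hF ω hω)).of_nonempty e
  · exact (noFour_one S2042.result).of_nonempty h
  · exact (noFour_two S2043.result).of_nonempty h
  · exact (noFour_one S2044.result).of_nonempty h
  · exact (noFour_one S2045.result).of_nonempty h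
  · exact (noFour_three S2047.result).of_nonempty h
  · exact (noFour_two S2046.result).of_nonempty h
  · exact (not_suz h15 h).elim
  · exact (noFour_one S2049.result).of_nonempty h
  · exact (noFour_two S2051.result).of_nonempty h
  · exact (noFour_three S2052.result).of_nonempty h
  · exact (noFour_one S2050.result).of_nonempty h
  · exact (noFour_six S2053.result).of_nonempty h
  · exact (noFour_one S2054.result).of_nonempty h
  · exact (noFour_three S2055.result).of_nonempty h
  · exact (noFour_one S2056.result).of_nonempty h
  · exact (noFour_one S2057.result).of_nonempty h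
  · exact (noFour_two S2058.result).of_nonempty h
  · exact (noFour_one S2059.result).of_nonempty h

end Cfsg.Agent.H917
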