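import Cfsg.Agent.H917.LinFine
import Cfsg.Agent.H920.SympD
import Cfsg.Agent.H914.Quad
import Cfsg.Agent.H914.Sub2

/-!
# The linear Aschbacher theorem with class C6 (helper917)
-/

set_option autoImplicit false
set_option linter.unusedSectionVars false
set_option linter.unusedVariables false

namespace Cfsg.Agent.H917

open Cfsg Cfsg.Geo Matrix

variable {ι : Type} [Fintype ι] [DecidableEq ι] {F : Type*} [Field F]

/-- Class C6, final form: a non-scalar normal subgroup with scalar commutators. -/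
theorem six_final [Fintype F] (h3 : 3 ≤ Fintype.card ι) {H : Subgroup (GL ι F)}
    (hspan : ∀ N : Subgroup (GL ι F), N ≤ H → (∀ h ∈ H, ∀ x ∈ N, h * x * h⁻¹ ∈ N) →
      N ≤ scalars ι F ∨ ActsAbsolutelyIrreducibly (matrixSet N))
    {N : Subgroup (GL ι F)} (hNH : N ≤ H) (hN : ∀ h ∈ H, ∀ x ∈ N, h * x * h⁻¹ ∈ N)
    (hns : ¬ N ≤ scalars ι F) (hcomm : ∀ x ∈ N, ∀ y ∈ N, x * y * x⁻¹ * y⁻¹ ∈ scalars ι F) :
    (∃ (F₀ : Subfield F) (r : ℕ) (B : GL ι F), r.Prime ∧ Nat.card F = Nat.card F₀ ^ r ∧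
      H ≤ subfieldSubgroup F₀ B) ∨
    (∃ f : (ι → F) → (ι → F) → F, IsSymplecticForm f ∧ H ≤ similarityGroup f) ∨
    (∃ (σ : F ≃+* F) (f : (ι → F) → (ι → F) → F), IsUnitaryForm σ f ∧ H ≤ similarityGroup f) ∨
    (∃ Q : (ι → F) → F, IsNondegenerateQuadraticForm Q ∧ (2 : F) ≠ 0 ∧ H ≤ quadSimilarityGroup Q) ∨
    (∃ (r m : ℕ) (R : Subgroup (GL ι F)), 1 ≤ m ∧ Fintype.card ι = r ^ m ∧ IsLinearSymplecticTypeData r R ∧
      H ≤ subgroupNormalizer R) := by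
  obtain ⟨r, m, R, hRN, hRn, hHR, habs, hst, hchar, hm1, hm, hcen, hcases⟩ :=
    H920.exists_symplecticType hspan hNH hN hns hcomm
  have hcommR : ∀ x ∈ R, ∀ y ∈ R, x * y * x⁻¹ * y⁻¹ ∈ scalars ι F :=
    fun x hx y hy => hcomm x (hRN hx) y (hRN hy)
  rcases H920.linear_cases h3 habs hcommR hst hchar hm1 hm hcases with
    ⟨F₀, h0, hreal⟩ | hdata | ⟨Q, hodd, hQ, hfix⟩ | ⟨f, hf, hfix⟩ | ⟨σ, f, hf, hfix⟩
  · obtain ⟨F₁, q, B, -, -, hq, hcard, -, hle⟩ := H914.exists_le_subfieldSubgroup hRn habs h0 hreal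
    exact Or.inl ⟨F₁, q, B, hq, hcard, hle⟩
  · exact Or.inr (Or.inr (Or.inr (Or.inr ⟨r, m, R, hm1, hm, hdata, hHR⟩)))
  · refine Or.inr (Or.inr (Or.inr (Or.inl ⟨Q, hQ, ?_, H914.le_quadSimilarityGroup_of_fixes hRn habs hQ hfix⟩)))
    intro h2
    have : CharP F 2 := by
      refine CharTwo.of_one_ne_zero_of_two_eq_zero one_ne_zero h2
    have : Fact (Nat.Prime 2) := ⟨Nat.prime_two⟩
    obtain ⟨k, _, hk⟩ := FiniteField.card F 2
    rw [hk] at hodd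
    exact (Nat.not_even_iff_odd.2 hodd) ((Nat.even_pow.2 ⟨even_two, k.ne_zero⟩))
  · exact Or.inr (Or.inl ⟨f, hf, H914.le_similarityGroup_of_fixes hRn habs
      (H914.IsSesq.of_bilinear hf.bilinear) hf.nondegenerate hfix⟩)
  · exact Or.inr (Or.inr (Or.inl ⟨σ, f, hf, H914.le_similarityGroup_of_fixes hRn habs
      (H914.IsSesq.of_unitary hf) hf.nondegenerate hfix⟩))

/-- The linear Aschbacher theorem, fine version. -/
theorem lin_fine [Fintype F] (hcard : 3 ≤ Fintype.card ι) (H : Subgroup (GL ι F)) :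
    (∃ W : Submodule F (ι → F), W ≠ ⊥ ∧ W ≠ ⊤ ∧ H ≤ subspaceStabilizer W) ∨
    (∃ (t m : ℕ) (D : Fin t → Submodule F (ι → F)), IsMDecomposition m D ∧ H ≤ decompositionStabilizer D) ∨
    (∃ (r : ℕ) (K : Subalgebra F (Matrix ι ι F)), r.Prime ∧ IsFieldSubalgebra r K ∧
      H ≤ subalgebraNormalizer K) ∨
    (∃ (n₁ n₂ : ℕ) (e : ι ≃ Fin n₁ × Fin n₂) (P : GL ι F), 2 ≤ n₁ ∧ 2 ≤ n₂ ∧
      H ≤ tensorProductSubgroup n₁ n₂ e P) ∨
    (∃ (m t : ℕ) (e : ι ≃ (Fin t → Fin m)) (P : GL ι F), 2 ≤ m ∧ 2 ≤ t ∧ H ≤ tensorWreathSubgroup m t e P) ∨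
    (∃ (F₀ : Subfield F) (r : ℕ) (B : GL ι F), r.Prime ∧ Nat.card F = Nat.card F₀ ^ r ∧
      H ≤ subfieldSubgroup F₀ B) ∨
    (∃ f : (ι → F) → (ι → F) → F, IsSymplecticForm f ∧ H ≤ similarityGroup f) ∨
    (∃ (σ : F ≃+* F) (f : (ι → F) → (ι → F) → F), IsUnitaryForm σ f ∧ H ≤ similarityGroup f) ∨
    (∃ Q : (ι → F) → F, IsNondegenerateQuadraticForm Q ∧ (2 : F) ≠ 0 ∧ H ≤ quadSimilarityGroup Q) ∨
    (∃ (r m : ℕ) (R : Subgroup (GL ι F)), 1 ≤ m ∧ Fintype.card ι = r ^ m ∧ IsLinearSymplecticTypeData r R ∧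
      H ≤ subgroupNormalizer R) ∨
    InLinearResidualClass H := by
  rcases lin_fine_raw (by omega) H with h | h | h | h | h | h | h | h | h | h | ⟨hspan, N, h1, h2, h3, h4⟩
  · exact Or.inl h
  · exact Or.inr (Or.inl h)
  · exact Or.inr (Or.inr (Or.inl h))
  · exact Or.inr (Or.inr (Or.inr (Or.inl h)))
  · exact Or.inr (Or.inr (Or.inr (Or.inr (Or.inl h))))
  · exact Or.inr (Or.inr (Or.inr (Or.inr (Or.inr (Or.inl h)))))
  · exact Or.inr (Or.inr (Or.inr (Or.inr (Or.inr (Or.inr (Or.inl h))))))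
  · exact Or.inr (Or.inr (Or.inr (Or.inr (Or.inr (Or.inr (Or.inr (Or.inl h)))))))
  · exact Or.inr (Or.inr (Or.inr (Or.inr (Or.inr (Or.inr (Or.inr (Or.inr (Or.inl h))))))))
  · exact Or.inr (Or.inr (Or.inr (Or.inr (Or.inr (Or.inr (Or.inr (Or.inr (Or.inr (Or.inr h)))))))))
  · rcases six_final hcard hspan h1 h2 h3 h4 with h | h | h | h | h
    · exact Or.inr (Or.inr (Or.inr (Or.inr (Or.inr (Or.inl h)))))
    · exact Or.inr (Or.inr (Or.inr (Or.inr (Or.inr (Or.inr (Or.inl h))))))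
    · exact Or.inr (Or.inr (Or.inr (Or.inr (Or.inr (Or.inr (Or.inr (Or.inl h)))))))
    · exact Or.inr (Or.inr (Or.inr (Or.inr (Or.inr (Or.inr (Or.inr (Or.inr (Or.inl h))))))))
    · exact Or.inr (Or.inr (Or.inr (Or.inr (Or.inr (Or.inr (Or.inr (Or.inr (Or.inr (Or.inl h)))))))))

end Cfsg.Agent.H917
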