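import Cfsg.Agent.H917.OmAlt2
import Cfsg.Agent.H871.Par7

/-!
# Alternating groups in `Ω₈⁻(q)`, continued (helper917, row S5827)

* `not_quat9` : no `3²:Q₈`, `p ≠ 3`; `not_frob11` : no `11:5`, `p ≠ 11`; `frob8` : `2³:7` acts as `1 + 7`;
* `no_A8` : `A₈`, `p` odd;
* `no_Am` : `A_m`, `9 ≤ m`, all `p`.
-/

set_option autoImplicit false
set_option linter.unusedSectionVars false

namespace Cfsg.Agent.H917.Om

open Cfsg Cfsg.Geo Module Equiv Equiv.Perm
open Cfsg.Agent.H637.JW
open Cfsg.Agent.H637.SevenA8 (exists_translates dichotomy eq_of_rel exists_map)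
open Cfsg.Agent.H871.Par (Quat9 Frob8 Frob11 quat9_alt)

universe u v

variable {F : Type u} [Field F] {T : Type v} [Group T]

namespace OC

variable (h : OC F T)

/-! ### Relations between translates -/

theorem hasFix_of_eq {n : ℕ} (j : alternatingGroup (Fin n) →* T) {u : Fin n → (Fin 8 → AlgebraicClosure F)}
    {a : Fin n} (ha : u a ≠ 0)
    (hu : ∀ (g : alternatingGroup (Fin n)) i, (h.σ.comp j) g (u i) = u ((g : Perm (Fin n)) i))
    (he : ∀ k l, u k = u l) : h.HasFix j := by
  refine ⟨u a, ha, fun g => ?_⟩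
  have h1 := hu g a
  rw [he ((g : Perm (Fin n)) a) a] at h1
  exact h1

/-- `V^{A₈} ≠ 0`, `p` odd -/
theorem hasFix_eight (h2 : (2 : F) ≠ 0) (j : alternatingGroup (Fin 8) →* T) : h.HasFix j := by
  obtain ⟨u, hu0, hu⟩ := h.translates (n := 7) (by norm_num) j (h.hasFix_seven h2 j)
  have h2' : (2 : AlgebraicClosure F) ≠ 0 := by
    have := cast_ne_zero_ac (F := F) (n := 2) (by exact_mod_cast h2)
    exact_mod_cast this
  by_cases hs : ∑ i, u i = 0
  swap
  · exact ⟨_, hs, h.sum_fixed hu⟩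
  by_cases he : ∀ k l, u k = u l
  · exact h.hasFix_of_eq j hu0 hu he
  -- only the constant relations
  have hrel : ∀ x : Fin 8 → AlgebraicClosure F, ∑ i, x i • u i = 0 → ∀ i j, x i = x j := by
    intro x hx i k
    by_contra hik
    exact he (eq_of_rel (by norm_num) h2' hu hx hik)
  have hli : LinearIndependent (AlgebraicClosure F) (fun j : Fin 7 => u j.castSucc) := by
    rw [Fintype.linearIndependent_iff]
    intro y hy k
    let y' : Fin 8 → AlgebraicClosure F := Fin.lastCases 0 y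
    have h1 : ∑ k, y' k • u k = 0 := by
      rw [Fin.sum_univ_castSucc]
      simp only [y', Fin.lastCases_castSucc, Fin.lastCases_last, zero_smul, add_zero]
      exact hy
    have h3 := hrel y' h1 k.castSucc (Fin.last 7)
    simpa only [y', Fin.lastCases_castSucc, Fin.lastCases_last] using h3
  let S := Submodule.span (AlgebraicClosure F) (Set.range u)
  have hS : finrank (AlgebraicClosure F) S = 7 := by
    have h3 : S = Submodule.span (AlgebraicClosure F) (Set.range fun j : Fin 7 => u j.castSucc) := by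
      refine le_antisymm (Submodule.span_le.2 ?_) (Submodule.span_mono ?_)
      · rintro _ ⟨i, rfl⟩
        induction i using Fin.lastCases with
        | cast i => exact Submodule.subset_span ⟨i, rfl⟩
        | last =>
          rw [Fin.sum_univ_castSucc] at hs
          rw [show u (Fin.last 7) = -∑ i : Fin 7, u i.castSucc from eq_neg_of_add_eq_zero_right hs]
          exact Submodule.neg_mem _ (Submodule.sum_mem _ fun i _ => Submodule.subset_span ⟨i, rfl⟩)
      · rintro _ ⟨i, rfl⟩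
        exact ⟨_, rfl⟩
    rw [h3, finrank_span_eq_card hli, Fintype.card_fin]
  have hO := h.finrank_orth S
  have hO1 : finrank (AlgebraicClosure F) (h.Bf.orthogonal S) = 1 := by omega
  obtain ⟨w, hw0, hw⟩ := finrank_eq_one_iff'.1 hO1
  have hw0' : (w : Fin 8 → AlgebraicClosure F) ≠ 0 := fun h0 => hw0 (Subtype.ext h0)
  refine h.fixed_of_line (by norm_num) j hw0' fun g => ?_
  have hinv : h.σ (j g) w.1 ∈ h.Bf.orthogonal S := by
    rw [LinearMap.BilinForm.mem_orthogonal_iff]
    intro s hs'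
    change h.B s (h.σ (j g) w.1) = 0
    have hs2 : h.σ (j g⁻¹) s ∈ S := by
      have : ∀ s ∈ S, h.σ (j g⁻¹) s ∈ S := by
        intro s hs
        induction hs using Submodule.span_induction with
        | mem x hx =>
          obtain ⟨i, rfl⟩ := hx
          exact Submodule.subset_span ⟨_, (hu g⁻¹ i).symm⟩
        | zero => rw [map_zero]; exact zero_mem _
        | add x y _ _ hx hy => rw [map_add]; exact add_mem hx hy
        | smul a x _ hx => rw [map_smul]; exact Submodule.smul_mem _ _ hx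
      exact this s hs'
    rw [← h.B_inv (j g⁻¹), ← mul_apply', ← map_mul, inv_mul_cancel, map_one, map_one, Module.End.one_apply]
    exact (LinearMap.BilinForm.mem_orthogonal_iff.1 w.2) _ hs2
  obtain ⟨c, hc⟩ := hw ⟨_, hinv⟩
  exact ⟨c, (congrArg Subtype.val hc).symm⟩

theorem no_A8 (h : OC F (alternatingGroup (Fin 8))) (h2 : (2 : F) ≠ 0) : False :=
  h.not_hasFix (h.hasFix_eight h2 (MonoidHom.id _))

/-- `V^{A₉} ≠ 0`, `p = 3` -/
theorem hasFix_nine (h3 : (3 : F) = 0) (j : alternatingGroup (Fin 9) →* T) : h.HasFix j := by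
  have h2 : (2 : F) ≠ 0 := by
    intro h0
    apply one_ne_zero (α := F)
    linear_combination h3 - h0
  have h2' : (2 : AlgebraicClosure F) ≠ 0 := by
    have := cast_ne_zero_ac (F := F) (n := 2) (by exact_mod_cast h2)
    exact_mod_cast this
  have h3' : (3 : AlgebraicClosure F) = 0 := by
    have := congrArg (algebraMap F (AlgebraicClosure F)) h3
    rwa [map_ofNat, map_zero] at this
  obtain ⟨u, hu0, hu⟩ := h.translates (n := 8) (by norm_num) j (h.hasFix_eight h2 (j.comp (up 8)))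
  rcases dichotomy (by norm_num) h2' hu (by rw [Module.finrank_fin_fun]; norm_num) with he | ⟨hs, -, hrel⟩
  · exact h.hasFix_of_eq j hu0 hu he
  exfalso
  -- Gram matrix
  have hB : ∀ (g : alternatingGroup (Fin 9)) i k, h.B (u ((g : Perm (Fin 9)) i)) (u ((g : Perm (Fin 9)) k)) = h.B (u i) (u k) := by
    intro g i k
    rw [← hu, ← hu]
    exact h.B_inv (j g) _ _
  have hd : ∀ i k, h.B (u i) (u i) = h.B (u k) (u k) := by
    intro i k
    obtain ⟨g, hg⟩ := exists_map (n := 9) (by norm_num) i k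
    rw [← hB g i i, hg]
  have ho : ∀ i k l, i ≠ k → i ≠ l → h.B (u i) (u k) = h.B (u i) (u l) := by
    intro i k l hik hil
    by_cases hkl : k = l
    · rw [hkl]
    -- a 3-cycle on k, l and a further point different from i
    obtain ⟨m, hm⟩ : ∃ m, m ∉ ({i, k, l} : Finset (Fin 9)) := by
      by_contra hno
      push Not at hno
      have h1 : (Finset.univ : Finset (Fin 9)) ⊆ {i, k, l} := fun x _ => hno x
      have h4 := Finset.card_le_card h1
      rw [Finset.card_univ, Fintype.card_fin] at h4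
      have h5 : ({i, k, l} : Finset (Fin 9)).card ≤ 3 := Finset.card_le_three
      omega
    simp only [Finset.mem_insert, Finset.mem_singleton, not_or] at hm
    let g : alternatingGroup (Fin 9) := ⟨swap k m * swap k l, by
      rw [Equiv.Perm.mem_alternatingGroup, Equiv.Perm.sign_mul, sign_swap (Ne.symm hm.2.1), sign_swap hkl]; rfl⟩
    have g1 : (g : Perm (Fin 9)) k = l := by
      change (swap k m * swap k l) k = l
      rw [Equiv.Perm.mul_apply, swap_apply_left, swap_apply_of_ne_of_ne (Ne.symm hkl) (Ne.symm hm.2.2)]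
    have g2 : (g : Perm (Fin 9)) i = i := by
      change (swap k m * swap k l) i = i
      rw [Equiv.Perm.mul_apply, swap_apply_of_ne_of_ne hik hil, swap_apply_of_ne_of_ne hik (Ne.symm hm.1)]
    rw [← hB g i k, g1, g2]
  have hall : ∀ i k, h.B (u i) (u k) = h.B (u i) (u i) := by
    intro i k
    by_cases hik : i = k
    · rw [hik]
    have h1 : h.B (u i) (∑ l, u l) = 0 := by
      rw [hs]
      exact (h.Bf (u i)).map_zero
    have h4 : h.B (u i) (∑ l, u l) = ∑ l, h.B (u i) (u l) := by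
      change h.Bf (u i) _ = _
      rw [map_sum]
      rfl
    rw [h4, ← Finset.add_sum_erase _ _ (Finset.mem_univ i), Finset.sum_congr rfl (g := fun _ => h.B (u i) (u k))] at h1
    · rw [Finset.sum_const, Finset.card_erase_of_mem (Finset.mem_univ i), Finset.card_univ, Fintype.card_fin,
        nsmul_eq_mul] at h1
      push_cast at h1
      linear_combination -h1 + 3 * h.B (u i) (u k) * h3'
    · intro l hl
      exact ho i l k (Ne.symm (Finset.ne_of_mem_erase hl)) hik
  -- the `u i` span `V`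
  have hli : LinearIndependent (AlgebraicClosure F) (fun j : Fin 8 => u j.castSucc) := by
    rw [Fintype.linearIndependent_iff]
    intro y hy k
    let y' : Fin 9 → AlgebraicClosure F := Fin.lastCases 0 y
    have h1 : ∑ k, y' k • u k = 0 := by
      rw [Fin.sum_univ_castSucc]
      simp only [y', Fin.lastCases_castSucc, Fin.lastCases_last, zero_smul, add_zero]
      exact hy
    have h3 := hrel y' h1 k.castSucc (Fin.last 8)
    simpa only [y', Fin.lastCases_castSucc, Fin.lastCases_last] using h3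
  have hspan : Submodule.span (AlgebraicClosure F) (Set.range fun j : Fin 8 => u j.castSucc) = ⊤ := by
    apply Submodule.eq_top_of_finrank_eq
    rw [finrank_span_eq_card hli, Fintype.card_fin, Module.finrank_fin_fun]
  have hz : u 0 - u 1 = 0 := by
    apply h.B_nondeg
    intro x
    have hx : x ∈ Submodule.span (AlgebraicClosure F) (Set.range fun j : Fin 8 => u j.castSucc) := by rw [hspan]; trivial
    have key : ∀ k, h.B (u k) (u 0 - u 1) = 0 := by
      intro k
      have h1 : h.B (u k) (u 0 - u 1) = h.B (u k) (u 0) - h.B (u k) (u 1) := (h.Bf (u k)).map_sub _ _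
      rw [h1, hall k 0, hall k 1, sub_self]
    induction hx using Submodule.span_induction with
    | mem x hx =>
      obtain ⟨i, rfl⟩ := hx
      exact key _
    | zero =>
      rw [h.B_comm]
      exact (h.Bf _).map_zero
    | add x y _ _ hx hy => rw [h.B_add_left, hx, hy, add_zero]
    | smul a x _ hx => rw [h.B_smul_left, hx, mul_zero]
  have h5 := hrel (fun i => if i = 0 then 1 else if i = 1 then -1 else 0) (by
    rw [Finset.sum_eq_add (0 : Fin 9) 1 (by decide)]
    · simp only [if_true, one_smul, if_neg (show (1 : Fin 9) ≠ 0 by decide), neg_smul]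
      rw [← sub_eq_add_neg]
      exact hz
    · rintro i - ⟨h0, h1⟩
      simp [h0, h1]
    · simp
    · simp) 0 2
  simp at h5

/-- chain of point stabilizers -/
theorem hasFix_succ (h2 : (2 : F) ≠ 0) {n : ℕ} (hn : 9 ≤ n) (IH : ∀ j : alternatingGroup (Fin n) →* T, h.HasFix j)
    (j : alternatingGroup (Fin (n + 1)) →* T) : h.HasFix j := by
  have h2' : (2 : AlgebraicClosure F) ≠ 0 := by
    have := cast_ne_zero_ac (F := F) (n := 2) (by exact_mod_cast h2)
    exact_mod_cast this
  obtain ⟨u, hu0, hu⟩ := h.translates (n := n) (by omega) j (IH _)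
  rcases dichotomy (by omega) h2' hu (by rw [Module.finrank_fin_fun]; omega) with he | ⟨-, hs, -⟩
  · exact h.hasFix_of_eq j hu0 hu he
  · rw [Module.finrank_fin_fun] at hs
    omega

theorem hasFix_all (h3 : (3 : F) = 0) {n : ℕ} (hn : 9 ≤ n) (j : alternatingGroup (Fin n) →* T) : h.HasFix j := by
  have h2 : (2 : F) ≠ 0 := by
    intro h0
    apply one_ne_zero (α := F)
    linear_combination h3 - h0
  induction n, hn using Nat.le_induction with
  | base => exact h.hasFix_nine h3 j
  | succ n hn IH => exact h.hasFix_succ h2 hn IH j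

/-! ### Frobenius subgroups -/

/-- **No `3²:Q₈`**, `p ≠ 3`. -/
theorem not_quat9 [Fintype F] (h : OC F T) (h3 : (3 : F) ≠ 0) (hT : Quat9 T) : False := by
  obtain ⟨a, b, i, j, ha3, ha1, hab, hi1, hi2, hj1, hj2, -, -⟩ := hT
  have h3' : ((3 : ℕ) : AlgebraicClosure F) ≠ 0 := cast_ne_zero_ac (by exact_mod_cast h3)
  obtain ⟨ζ, hζ⟩ := exists_root (K := AlgebraicClosure F) (N := 3) h3'
  have hζ3 := hζ.pow_eq_one
  have hb3 : b ^ 3 = 1 := by rw [← hi1, conj_pow, ha3, mul_one, mul_inv_cancel]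
  let x : Fin 2 → T := ![a, b]
  have hcx : ∀ i k, x i * x k = x k * x i := by
    intro i k
    fin_cases i <;> fin_cases k <;> first | rfl | exact hab | exact hab.symm
  have hxp : ∀ k, x k ^ 3 = 1 := by
    intro k
    fin_cases k
    · exact ha3
    · exact hb3
  have hc : ∀ i k, h.σ (x i) * h.σ (x k) = h.σ (x k) * h.σ (x i) := by
    intro i k
    rw [← map_mul, ← map_mul, hcx]
  have hf : ∀ k, h.σ (x k) ^ 3 = 1 := by
    intro k
    rw [← map_pow, hxp, map_one]
  have hind := indep_W h3' hζ (f := fun k => h.σ (x k)) hc hf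
  have hsum := sum_W h3' hζ (f := fun k => h.σ (x k)) hc hf
  set D : ZMod 3 → ZMod 3 → ℕ := fun c d =>
    finrank (AlgebraicClosure F) (W 3 ζ (fun k => h.σ (x k)) ![c, d]) with hD
  have inv_smul : ∀ (g : T) (c : ZMod 3) (w : Fin 8 → AlgebraicClosure F), h.σ g w = ζ ^ c.val • w →
      h.σ g⁻¹ w = ζ ^ (-c).val • w := by
    intro g c w hw
    have h1 : h.σ g⁻¹ (h.σ g w) = w := by
      rw [← mul_apply', inv_mul_cancel, map_one, Module.End.one_apply]
    rw [hw, map_smul] at h1
    have h4 : ζ ^ (-c).val * ζ ^ c.val = 1 := by rw [← pow_val_add hζ3, neg_add_cancel, ZMod.val_zero, pow_zero]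
    calc h.σ g⁻¹ w = (ζ ^ (-c).val * ζ ^ c.val) • h.σ g⁻¹ w := by rw [h4, one_smul]
      _ = ζ ^ (-c).val • w := by rw [mul_smul, h1]
  have hi : ∀ c d, D c d ≤ D (-d) c := by
    intro c d
    refine finrank_W_le i fun w hw k => ?_
    rw [mem_W] at hw
    have e1 : h.σ a w = ζ ^ c.val • w := hw 0
    have e2 : h.σ b w = ζ ^ d.val • w := hw 1
    fin_cases k
    · change h.σ (i⁻¹ * a * i) w = ζ ^ (-d).val • w
      rw [show i⁻¹ * a * i = b⁻¹ by
        rw [show i⁻¹ * a * i = (i⁻¹ * a⁻¹ * i)⁻¹ by group, ← hi2]; group]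
      exact inv_smul _ _ _ e2
    · change h.σ (i⁻¹ * b * i) w = ζ ^ c.val • w
      rw [show i⁻¹ * b * i = a by rw [← hi1]; group, e1]
  have hj : ∀ c d, D c d ≤ D (-(c + d)) (-(c - d)) := by
    intro c d
    have k1 : j * (a * b) * j⁻¹ = a⁻¹ := by
      have : j * (a * b) * j⁻¹ = (j * a * j⁻¹) * (j * b * j⁻¹) := by group
      rw [this, hj1, hj2]
      have e : a * b * (a * b⁻¹) = a * a := by
        rw [mul_assoc, ← mul_assoc b, ← hab, mul_assoc a b, mul_inv_cancel, mul_one]
      rw [e, eq_inv_iff_mul_eq_one, ← pow_two, ← pow_succ, ha3]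
    have k2 : j * (a * b⁻¹) * j⁻¹ = b⁻¹ := by
      have : j * (a * b⁻¹) * j⁻¹ = (j * a * j⁻¹) * (j * b * j⁻¹)⁻¹ := by group
      rw [this, hj1, hj2]
      have hc' : Commute a b := hab
      have e : a * b * (a * b⁻¹)⁻¹ = b * b := by
        rw [mul_inv_rev, inv_inv]
        calc a * b * (b * a⁻¹) = a * (b * b) * a⁻¹ := by group
          _ = b * b := by rw [(hc'.mul_right hc').eq]; group
      rw [e, eq_inv_iff_mul_eq_one, ← pow_two, ← pow_succ, hb3]
    refine finrank_W_le j fun w hw k => ?_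
    rw [mem_W] at hw
    have e1 : h.σ a w = ζ ^ c.val • w := hw 0
    have e2 : h.σ b w = ζ ^ d.val • w := hw 1
    fin_cases k
    · change h.σ (j⁻¹ * a * j) w = ζ ^ (-(c + d)).val • w
      rw [show j⁻¹ * a * j = (a * b)⁻¹ by
        rw [show j⁻¹ * a * j = (j⁻¹ * a⁻¹ * j)⁻¹ by group, ← k1]; group]
      refine inv_smul _ _ _ ?_
      rw [act_mul e1 e2, pow_val_add hζ3]
    · change h.σ (j⁻¹ * b * j) w = ζ ^ (-(c - d)).val • w
      rw [show j⁻¹ * b * j = (a * b⁻¹)⁻¹ by
        calc j⁻¹ * b * j = (j⁻¹ * b⁻¹ * j)⁻¹ := by group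
          _ = (j⁻¹ * (j * (a * b⁻¹) * j⁻¹) * j)⁻¹ := by rw [k2]
          _ = (a * b⁻¹)⁻¹ := by group]
      refine inv_smul _ _ _ ?_
      rw [act_mul e1 (inv_smul _ _ _ e2), sub_eq_add_neg, pow_val_add hζ3]
  have hs : (D 0 0 + D 0 1 + D 0 2) + (D 1 0 + D 1 1 + D 1 2) + (D 2 0 + D 2 1 + D 2 2) = 8 := by
    rw [← Module.finrank_fin_fun (AlgebraicClosure F) (n := 8), ← hsum]
    simp only [sum_cons]
    change _ = ∑ i : Fin 3, ∑ i' : Fin 3, _
    simp only [Fin.sum_univ_three, Finset.univ_unique, Finset.sum_singleton]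
    rfl
  -- fixed vector
  have h0 : 1 ≤ D 0 0 := by
    obtain ⟨v, hv0, hva, hvb⟩ := h.fixed_three h3 ha3 hb3 hab
    have hv : v ∈ W 3 ζ (fun k => h.σ (x k)) ![0, 0] := by
      rw [mem_W]
      intro k
      fin_cases k
      · change h.σ a v = ζ ^ (0 : ZMod 3).val • v
        rw [ZMod.val_zero, pow_zero, one_smul, hva]
      · change h.σ b v = ζ ^ (0 : ZMod 3).val • v
        rw [ZMod.val_zero, pow_zero, one_smul, hvb]
    have : Nontrivial (W 3 ζ (fun k => h.σ (x k)) ![0, 0]) := ⟨⟨v, hv⟩, 0, fun h0 => hv0 (congrArg Subtype.val h0)⟩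
    exact Module.finrank_pos
  have ht : D 0 0 ≠ 8 := by
    intro h8
    have htop : W 3 ζ (fun k => h.σ (x k)) ![0, 0] = ⊤ := by
      apply Submodule.eq_top_of_finrank_eq
      rw [Module.finrank_fin_fun]
      exact h8
    apply ha1
    apply h.σ_injective
    rw [map_one]
    refine LinearMap.ext fun v => ?_
    have hv : v ∈ W 3 ζ (fun k => h.σ (x k)) ![0, 0] := by rw [htop]; trivial
    have h4 : h.σ a v = ζ ^ (0 : ZMod 3).val • v := mem_W.1 hv 0
    rw [h4, ZMod.val_zero, pow_zero, one_smul, Module.End.one_apply]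
  clear_value D
  have a1 : D 0 1 ≤ D 2 0 := hi 0 1
  have a2 : D 2 0 ≤ D 0 2 := hi 2 0
  have a3 : D 0 2 ≤ D 1 0 := hi 0 2
  have a4 : D 1 0 ≤ D 0 1 := hi 1 0
  have a5 : D 1 1 ≤ D 2 1 := hi 1 1
  have a6 : D 2 1 ≤ D 2 2 := hi 2 1
  have a7 : D 2 2 ≤ D 1 2 := hi 2 2
  have a8 : D 1 2 ≤ D 1 1 := hi 1 2
  have b1 : D 1 0 ≤ D 2 2 := hj 1 0
  have b2 : D 2 2 ≤ D 2 0 := hj 2 2
  omega

/-- **No `11:5`**, `p ≠ 11`. -/
theorem not_frob11 (h : OC F T) (h11 : (11 : F) ≠ 0) (hT : Frob11 T) : False := by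
  obtain ⟨a, y, ha, ha1, hy⟩ := hT
  have h11' : ((11 : ℕ) : AlgebraicClosure F) ≠ 0 := cast_ne_zero_ac (by exact_mod_cast h11)
  obtain ⟨ζ, hζ⟩ := exists_root (K := AlgebraicClosure F) (N := 11) h11'
  let x : Fin 1 → T := ![a]
  have hcx : ∀ i k, x i * x k = x k * x i := by
    intro i k
    rw [Subsingleton.elim i k]
  have hxp : ∀ k, x k ^ 11 = 1 := by
    intro k
    rw [Subsingleton.elim k 0]
    exact ha
  have hc : ∀ i k, h.σ (x i) * h.σ (x k) = h.σ (x k) * h.σ (x i) := by
    intro i k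
    rw [← map_mul, ← map_mul, hcx]
  have hf : ∀ k, h.σ (x k) ^ 11 = 1 := by
    intro k
    rw [← map_pow, hxp, map_one]
  have hsum := sum_W h11' hζ (f := fun k => h.σ (x k)) hc hf
  set D : ZMod 11 → ℕ := fun c => finrank (AlgebraicClosure F) (W 11 ζ (fun k => h.σ (x k)) ![c]) with hD
  have hs : ∑ c, D c = 8 := by
    rw [← Module.finrank_fin_fun (AlgebraicClosure F) (n := 8), ← hsum]
    simp only [sum_cons]
    simp only [Finset.univ_unique, Finset.sum_singleton]
    rfl
  have hneg : ∀ c, D (-c) = D c := by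
    intro c
    have := h.finrank_W_neg h11' hζ (x := x) hcx hxp ![c]
    rwa [show -![c] = ![-c] from by ext i; fin_cases i; rfl] at this
  have h3 : ∀ c, D c ≤ D (4 * c) := by
    intro c
    refine finrank_W_le y fun w hw k => ?_
    rw [mem_W] at hw
    have e1 : h.σ a w = ζ ^ c.val • w := hw 0
    rw [Subsingleton.elim k 0]
    change h.σ (y⁻¹ * a * y) w = ζ ^ (4 * c).val • w
    have e2 : y⁻¹ * a * y = a ^ 4 := by
      have e3 : a = a ^ 12 := by rw [show 12 = 11 + 1 from rfl, pow_succ, ha, one_mul]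
      have e4 : y⁻¹ * (a ^ 3) * y = a := by rw [← hy]; group
      calc y⁻¹ * a * y = y⁻¹ * a ^ 12 * y := by rw [← e3]
        _ = (y⁻¹ * (a ^ 3) * y) ^ 4 := by
          have := conj_pow (i := 4) (a := y⁻¹) (b := a ^ 3)
          rw [inv_inv, ← pow_mul] at this
          exact this.symm
        _ = a ^ 4 := by rw [e4]
    rw [e2, map_pow, pow_apply e1, ← pow_mul, ← pow_mod_orderOf, ← hζ.eq_orderOf, ZMod.val_mul]
    congr 2
    rw [mul_comm]
    rfl
  have h0 : D 0 ≠ 8 := by
    intro h8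
    have htop : W 11 ζ (fun k => h.σ (x k)) ![0] = ⊤ := by
      apply Submodule.eq_top_of_finrank_eq
      rw [Module.finrank_fin_fun]
      exact h8
    apply ha1
    apply h.σ_injective
    rw [map_one]
    refine LinearMap.ext fun v => ?_
    have hv : v ∈ W 11 ζ (fun k => h.σ (x k)) ![0] := by rw [htop]; trivial
    have h4 : h.σ a v = ζ ^ (0 : ZMod 11).val • v := mem_W.1 hv 0
    rw [h4, ZMod.val_zero, pow_zero, one_smul, Module.End.one_apply]
  clear_value D
  have hs' : D 0 + D 1 + D 2 + D 3 + D 4 + D 5 + D 6 + D 7 + D 8 + D 9 + D 10 = 8 := by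
    have key : ∀ f : Fin 11 → ℕ, ∑ c, f c = f 0 + f 1 + f 2 + f 3 + f 4 + f 5 + f 6 + f 7 + f 8 + f 9 + f 10 := by
      intro f
      rw [Fin.sum_univ_castSucc, Fin.sum_univ_castSucc, Fin.sum_univ_castSucc, Fin.sum_univ_eight]
      rfl
    exact (key D).symm.trans hs
  have a1 : D 1 ≤ D 4 := h3 1
  have a2 : D 4 ≤ D 5 := h3 4
  have a3 : D 5 ≤ D 9 := h3 5
  have a4 : D 9 ≤ D 3 := h3 9
  have a5 : D 3 ≤ D 1 := h3 3
  have b1 : D 10 = D 1 := hneg 1
  have b2 : D 9 = D 2 := hneg 2
  have b3 : D 8 = D 3 := hneg 3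
  have b4 : D 7 = D 4 := hneg 4
  have b5 : D 6 = D 5 := hneg 5
  omega

theorem no_Am [Fintype F] {m : ℕ} (hm : 9 ≤ m) (h : OC F (alternatingGroup (Fin m))) : False := by
  by_cases h3 : (3 : F) = 0
  · exact h.not_hasFix (h.hasFix_all h3 hm (MonoidHom.id _))
  · exact h.not_quat9 h3 (quat9_alt hm)

end OC

end Cfsg.Agent.H917.Om
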