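import Cfsg.Agent.H917.OmBase
import Cfsg.Agent.H915.LD

/-!
# The core of a subgroup of `Ω₈⁻(q)` in the residual class is simple (helper917, row S5827)

* `neg_one_not_mem` : `-1 ∉ Ω₈⁻(q)`, `q` odd;
* `scalars_bot` : subgroups of `Ω₈⁻(q)` contain no non-trivial scalars;
* `toOC` : the context `OC F T`.
-/

set_option autoImplicit false
set_option linter.unusedSectionVars false

namespace Cfsg.Agent.H917.Om

open Cfsg Cfsg.Geo Module Matrix Cfsg.Agent.H915.LD

universe u v

variable {F : Type u} [Field F] [Fintype F] {Q : (Fin 8 → F) → F}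

theorem card_one_of_minus (nd : IsNondegenerateQuadraticForm Q) (minus : ¬ IsPlusTypeOn Q ⊤) :
    Fintype.card F * Nat.card {v : Fin 8 → F // Q v = 1} = Fintype.card F ^ 8 + Fintype.card F ^ 4 := by
  have hnd : LieClassical.OrthCore.Nondeg (H925.qf nd) := by
    intro x hx
    by_contra h0
    obtain ⟨-, y, hxy⟩ := nd.nondegenerate x h0
    exact hxy (hx y)
  have hP : ¬ H955.IsPlus (H925.qf nd) := by
    rintro ⟨U, hU, hd⟩
    exact minus ⟨U, le_top, hU, by rw [finrank_top]; exact hd⟩
  have h1 := H955.card_eq_one_of_not_isPlus hnd (m := 4) (by rw [Module.finrank_fin_fun]) hP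
  rw [Nat.card_eq_fintype_card] at h1
  exact h1

/-- `-1 ∉ Ω₈⁻(q)` -/
theorem neg_one_not_mem (h2 : (2 : F) ≠ 0) (nd : IsNondegenerateQuadraticForm Q) (minus : ¬ IsPlusTypeOn Q ⊤)
    {g : GL (Fin 8) F} (hg : g ∈ omegaGL Q) (hg1 : (g : Matrix (Fin 8) (Fin 8) F) = -1) : False := by
  classical
  obtain ⟨w, hw, rfl⟩ := hg
  have h0 : Q 0 = 0 := by
    have h1 := nd.smul 0 0
    rw [zero_smul] at h1
    simpa using h1
  have h1 := ClassicalGeometry.NegOneOmega.four_dvd_card_of_mem_Omega h2 Q 1 (by rw [h0]; exact zero_ne_one)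
    ⟨w, hw, hg1⟩
  have h3 := card_one_of_minus nd minus
  rw [Nat.card_eq_fintype_card] at h3
  obtain ⟨c, hc⟩ := h1
  have hq : Fintype.card F % 2 = 1 := FiniteField.odd_card_of_char_ne_two (by
    intro h4
    apply h2
    have := CharP.cast_eq_zero F (ringChar F)
    rw [h4] at this
    exact_mod_cast this)
  set q := Fintype.card F with hqdef
  have h4 : q * (4 * c) = q ^ 8 + q ^ 4 := by rw [← h3, ← hc]
  have h5 : (q * (4 * c)) % 4 = 0 := by
    rw [show q * (4 * c) = 4 * (q * c) by ring]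
    exact Nat.mul_mod_right 4 _
  rw [h4] at h5
  have h6 : q % 4 = 1 ∨ q % 4 = 3 := by omega
  have h7 : (q ^ 8 + q ^ 4) % 4 = 2 := by
    rcases h6 with h6 | h6 <;> simp [Nat.add_mod, Nat.pow_mod, h6]
  omega

/-- subgroups of `Ω₈⁻(q)` contain no non-trivial scalars -/
theorem scalars_bot (nd : IsNondegenerateQuadraticForm Q) (minus : ¬ IsPlusTypeOn Q ⊤)
    {P : Subgroup (GL (Fin 8) F)} (hP : P ≤ omegaGL Q) : (scalars (Fin 8) F).subgroupOf P = ⊥ := by
  rw [Subgroup.eq_bot_iff_forall]
  intro z hz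
  rw [Subgroup.mem_subgroupOf, mem_scalars_iff] at hz
  obtain ⟨c, hc⟩ := hz
  obtain ⟨v, hv⟩ : ∃ v, Q v = 1 := by
    have h1 := card_one_of_minus nd minus
    by_contra hno
    push Not at hno
    have h2 : Nat.card {v : Fin 8 → F // Q v = 1} = 0 := by
      rw [Nat.card_eq_zero]
      left
      exact ⟨fun v => hno v.1 v.2⟩
    rw [h2, mul_zero] at h1
    have : 0 < Fintype.card F ^ 8 := pow_pos Fintype.card_pos 8
    omega
  have h1 := mem_omegaGL_fix (hP z.2) v
  rw [hc, Matrix.smul_mulVec, Matrix.one_mulVec, nd.smul, hv, mul_one] at h1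
  have h2 : (c : F) = 1 ∨ (c : F) = -1 := by
    have : ((c : F) - 1) * ((c : F) + 1) = 0 := by linear_combination h1
    rcases mul_eq_zero.1 this with h | h
    · exact Or.inl (sub_eq_zero.1 h)
    · exact Or.inr (eq_neg_of_add_eq_zero_left h)
  have key : (c : F) = 1 := by
    rcases h2 with h2 | h2
    · exact h2
    · by_cases h3 : (2 : F) = 0
      · have h4 : (-1 : F) = 1 := by linear_combination -h3
        rw [h2, h4]
      · exfalso
        refine neg_one_not_mem h3 nd minus (hP z.2) ?_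
        rw [hc, h2, neg_one_smul]
  apply Subtype.ext
  apply Units.ext
  rw [hc, key, one_smul]
  rfl

/-- **The context.** -/
noncomputable def toOC {T : Type v} [Group T] (nd : IsNondegenerateQuadraticForm Q) (minus : ¬ IsPlusTypeOn Q ⊤)
    {P : Subgroup (GL (Fin 8) F)} (hP : P ≤ omegaGL Q) (hirr : ActsAbsolutelyIrreducibly (matrixSet P))
    (e : Soc P ≃* T) : OC F T :=
  let e' : P ≃* T := (MulEquiv.ofBijective (toSoc P) ⟨by
    rw [← MonoidHom.ker_eq_bot_iff, ker_toSoc]
    exact scalars_bot nd minus hP, toSoc_surjective P⟩).trans e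
  { ρ := P.subtype.comp e'.symm.toMonoidHom
    Q := Q
    nd := nd
    minus := minus
    mem := fun g => hP (e'.symm g).2
    irr := by
      have h1 : (P.subtype.comp e'.symm.toMonoidHom).range = P := by
        ext x
        constructor
        · rintro ⟨y, rfl⟩
          exact (e'.symm y).2
        · intro hx
          refine ⟨e' ⟨x, hx⟩, ?_⟩
          change ((e'.symm (e' ⟨x, hx⟩) : P) : GL (Fin 8) F) = x
          rw [MulEquiv.symm_apply_apply]
      rw [h1]
      exact hirr
    inj := P.subtype_injective.comp e'.symm.injective }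

end Cfsg.Agent.H917.Om
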