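import Cfsg.Agent.H917.OmL27d

/-!
# `PSL₂(7)` in `Ω₈⁻(q)`, `p ≥ 5`: conclusion (helper917, row S5827)

* `rigid` : a hom `PSL₂(7) → PSL₂(7)` fixing an element of order seven is conjugation by a power of it;
* `no_l27` : `PSL₂(7)` is not the core of a maximal subgroup of `Ω₈⁻(q)`, `p ≠ 2, 3, 7`.
-/

set_option autoImplicit false
set_option linter.unusedSectionVars false

namespace Cfsg.Agent.H917.L27

open Cfsg Cfsg.Geo Matrix Module
open Cfsg.Agent.H917.Om Cfsg.Agent.H637.JW Cfsg.Agent.H917.Form3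
open Cfsg.Agent.H24.Om (tau uu weights_l27 no_borel_fixed four_ne_zero' uu_pow)
open Cfsg.Agent.H917.SL7 (ux dt NN ell pt)

universe u v w

/-! ### Rigidity -/

abbrev mk7 : SL7.Γ →* T7 := QuotientGroup.mk' (Subgroup.center SL7.Γ)

/-- equality modulo the centre -/
theorem eq_of_mk {x y : SL7.Γ} (hxy : mk7 x = mk7 y) : ∃ ε : ZMod 7, ε * ε = 1 ∧
    ∀ i j, (x : Matrix (Fin 2) (Fin 2) (ZMod 7)) i j = ε * (y : Matrix (Fin 2) (Fin 2) (ZMod 7)) i j := by
  have h1 : y⁻¹ * x ∈ Subgroup.center SL7.Γ := QuotientGroup.eq.1 hxy.symm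
  rw [Matrix.SpecialLinearGroup.mem_center_iff] at h1
  obtain ⟨r, hr, hr2⟩ := h1
  rw [Fintype.card_fin, pow_two] at hr
  refine ⟨r, hr, fun i j => ?_⟩
  have h2 : (x : Matrix (Fin 2) (Fin 2) (ZMod 7)) = (y : Matrix (Fin 2) (Fin 2) (ZMod 7)) * Matrix.scalar (Fin 2) r := by
    rw [hr2, ← Matrix.SpecialLinearGroup.coe_mul, mul_inv_cancel_left]
  rw [h2, Matrix.scalar_apply, Matrix.mul_diagonal, mul_comm]

theorem mk_eq_of {x y : SL7.Γ} {ε : ZMod 7} (hε : ε * ε = 1)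
    (hxy : ∀ i j, (x : Matrix (Fin 2) (Fin 2) (ZMod 7)) i j = ε * (y : Matrix (Fin 2) (Fin 2) (ZMod 7)) i j) :
    mk7 x = mk7 y := by
  refine (QuotientGroup.eq.2 ?_).symm
  rw [Matrix.SpecialLinearGroup.mem_center_iff]
  refine ⟨ε, by rw [Fintype.card_fin, pow_two]; exact hε, ?_⟩
  have h2 : (x : Matrix (Fin 2) (Fin 2) (ZMod 7)) = (y : Matrix (Fin 2) (Fin 2) (ZMod 7)) * Matrix.scalar (Fin 2) ε := by
    ext i j
    rw [Matrix.scalar_apply, Matrix.mul_diagonal, mul_comm]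
    exact hxy i j
  rw [Matrix.SpecialLinearGroup.coe_mul, h2, ← mul_assoc, ← Matrix.SpecialLinearGroup.coe_mul, inv_mul_cancel,
    Matrix.SpecialLinearGroup.coe_one, one_mul]

theorem seven0 : (7 : ZMod 7) = 0 := rfl

theorem arith1 : ∀ ε r s : ZMod 7, ε * ε = 1 → r = ε * r → r + s = ε * s → (r = 0 ∧ (s = 0 ∨ ε = 1)) := by decide

theorem arith2 : ∀ p s : ZMod 7, p = 2 * s → p * s = 1 → (p = 4 ∧ s = 2) ∨ (p = 3 ∧ s = 5) := by decide

/-- the image of the torus element -/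
theorem image_s {x : SL7.Γ} (hx : mk7 (x * ux 1) = mk7 (ux 2 * x)) : ∃ y : ZMod 7, mk7 x = mk7 (dt 4 z4 * ux y) := by
  obtain ⟨ε, hε, he⟩ := eq_of_mk hx
  have hd := x.2
  rw [Matrix.det_fin_two] at hd
  set p := (x : Matrix (Fin 2) (Fin 2) (ZMod 7)) 0 0
  set q := (x : Matrix (Fin 2) (Fin 2) (ZMod 7)) 0 1
  set r := (x : Matrix (Fin 2) (Fin 2) (ZMod 7)) 1 0
  set s := (x : Matrix (Fin 2) (Fin 2) (ZMod 7)) 1 1
  have e00 : p * 1 + q * 0 = ε * (1 * p + 2 * r) := by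
    have := he 0 0
    rwa [Matrix.SpecialLinearGroup.coe_mul, Matrix.SpecialLinearGroup.coe_mul, Matrix.mul_apply, Matrix.mul_apply,
      Fin.sum_univ_two, Fin.sum_univ_two] at this
  have e01 : p * 1 + q * 1 = ε * (1 * q + 2 * s) := by
    have := he 0 1
    rwa [Matrix.SpecialLinearGroup.coe_mul, Matrix.SpecialLinearGroup.coe_mul, Matrix.mul_apply, Matrix.mul_apply,
      Fin.sum_univ_two, Fin.sum_univ_two] at this
  have e10 : r * 1 + s * 0 = ε * (0 * p + 1 * r) := by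
    have := he 1 0
    rwa [Matrix.SpecialLinearGroup.coe_mul, Matrix.SpecialLinearGroup.coe_mul, Matrix.mul_apply, Matrix.mul_apply,
      Fin.sum_univ_two, Fin.sum_univ_two] at this
  have e11 : r * 1 + s * 1 = ε * (0 * q + 1 * s) := by
    have := he 1 1
    rwa [Matrix.SpecialLinearGroup.coe_mul, Matrix.SpecialLinearGroup.coe_mul, Matrix.mul_apply, Matrix.mul_apply,
      Fin.sum_univ_two, Fin.sum_univ_two] at this
  obtain ⟨hr, hs⟩ := arith1 ε r s hε (by linear_combination e10) (by linear_combination e11)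
  have hs1 : ε = 1 := by
    rcases hs with hs | hs
    · rw [hr, hs, mul_zero, mul_zero, sub_zero] at hd
      exact absurd hd (by decide)
    · exact hs
  rw [hs1] at e01
  rw [hr, mul_zero, sub_zero] at hd
  rcases arith2 p s (by linear_combination e01) hd with ⟨hp, hs'⟩ | ⟨hp, hs'⟩
  · refine ⟨2 * q, mk_eq_of (ε := 1) (by decide) fun i j => ?_⟩
    rw [one_mul, Matrix.SpecialLinearGroup.coe_mul, Matrix.mul_apply, Fin.sum_univ_two]
    fin_cases i <;> fin_cases j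
    · change p = 4 * 1 + 0 * 0
      rw [hp]; decide
    · change q = 4 * (2 * q) + 0 * 1
      linear_combination (-q) * seven0
    · change r = 0 * 1 + 2 * 0
      rw [hr]; decide
    · change s = 0 * (2 * q) + 2 * 1
      rw [hs']; ring
  · refine ⟨-(2 * q), mk_eq_of (ε := -1) (by decide) fun i j => ?_⟩
    rw [Matrix.SpecialLinearGroup.coe_mul, Matrix.mul_apply, Fin.sum_univ_two]
    fin_cases i <;> fin_cases j
    · change p = -1 * (4 * 1 + 0 * 0)
      rw [hp]; decide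
    · change q = -1 * (4 * (-(2 * q)) + 0 * 1)
      linear_combination (-q) * seven0
    · change r = -1 * (0 * 1 + 2 * 0)
      rw [hr]; decide
    · change s = -1 * (0 * (-(2 * q)) + 2 * 1)
      rw [hs']
      linear_combination seven0

theorem arith3a : ∀ q r t : ZMod 7, q * t = 0 → r * t = 0 → t = 0 ∨ (q = 0 ∧ r = 0) := by decide

theorem arith3b : ∀ p s : ZMod 7, p * s = 1 → p * p = s * s → 2 * (p * p) = 4 * (s * s) → False := by decide

theorem arith3c : ∀ p q r : ZMod 7, -(p * p) - q * r = 1 → q * p = 0 → r * p = 0 → p = 0 ∧ q * r = -1 := by decide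

theorem arith3 (p q r s : ZMod 7) (h1 : p * s - q * r = 1) (h2 : p * p + q * r = r * q + s * s) (h3 : q * (p + s) = 0)
    (h4 : r * (p + s) = 0) (h5 : (4 * p) * (4 * p) + (4 * q) * (2 * r) = (2 * r) * (4 * q) + (2 * s) * (2 * s))
    (h6 : (4 * q) * (4 * p + 2 * s) = 0) (h7 : (2 * r) * (4 * p + 2 * s) = 0) : p = 0 ∧ s = 0 ∧ q * r = -1 := by
  rcases arith3a q r (p + s) h3 h4 with h | ⟨hq, hr⟩
  · have hs : s = -p := eq_neg_of_add_eq_zero_right h
    subst hs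
    obtain ⟨hp, hqr⟩ := arith3c p q r (by linear_combination h1) (by linear_combination h6 - q * p * seven0)
      (by linear_combination 2 * h7 - r * p * seven0)
    exact ⟨hp, by rw [hp, neg_zero], hqr⟩
  · subst hq
    subst hr
    exact (arith3b p s (by linear_combination h1) (by linear_combination h2) (by linear_combination h5 - 2 * p * p * seven0)).elim

theorem arith5 : ∀ q r : ZMod 7, q * r = -1 → r * (r * r - 1) = 0 → r * r = 1 ∧ q = -r := by decide

/-- entries of the identity modulo the centre -/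
theorem eq_of_mk_one {x : SL7.Γ} (hx : mk7 x = 1) :
    (x : Matrix (Fin 2) (Fin 2) (ZMod 7)) 0 0 = (x : Matrix (Fin 2) (Fin 2) (ZMod 7)) 1 1 ∧
    (x : Matrix (Fin 2) (Fin 2) (ZMod 7)) 0 1 = 0 ∧ (x : Matrix (Fin 2) (Fin 2) (ZMod 7)) 1 0 = 0 := by
  rw [← map_one mk7] at hx
  obtain ⟨ε, -, he⟩ := eq_of_mk hx
  have h00 := he 0 0
  have h01 := he 0 1
  have h10 := he 1 0
  have h11 := he 1 1
  rw [Matrix.SpecialLinearGroup.coe_one] at h00 h01 h10 h11
  rw [h00, h01, h10, h11]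
  simp

/-- the image of the Weyl element -/
theorem image_w {x : SL7.Γ} (h1 : mk7 (x * x) = 1) (h2 : mk7 ((dt 4 z4 * x) * (dt 4 z4 * x)) = 1)
    (h3 : mk7 ((ux 1 * x) * ((ux 1 * x) * (ux 1 * x))) = 1) : mk7 x = mk7 (NN 0) := by
  have hd := x.2
  rw [Matrix.det_fin_two] at hd
  have e1 := eq_of_mk_one h1
  have e2 := eq_of_mk_one h2
  have e3 := eq_of_mk_one h3
  simp only [Matrix.SpecialLinearGroup.coe_mul, Matrix.mul_apply, Fin.sum_univ_two] at e1 e2 e3
  set p := (x : Matrix (Fin 2) (Fin 2) (ZMod 7)) 0 0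
  set q := (x : Matrix (Fin 2) (Fin 2) (ZMod 7)) 0 1
  set r := (x : Matrix (Fin 2) (Fin 2) (ZMod 7)) 1 0
  set s := (x : Matrix (Fin 2) (Fin 2) (ZMod 7)) 1 1
  have d00 : ((dt 4 z4 : SL7.Γ) : Matrix (Fin 2) (Fin 2) (ZMod 7)) 0 0 = 4 := rfl
  have d01 : ((dt 4 z4 : SL7.Γ) : Matrix (Fin 2) (Fin 2) (ZMod 7)) 0 1 = 0 := rfl
  have d10 : ((dt 4 z4 : SL7.Γ) : Matrix (Fin 2) (Fin 2) (ZMod 7)) 1 0 = 0 := rfl
  have d11 : ((dt 4 z4 : SL7.Γ) : Matrix (Fin 2) (Fin 2) (ZMod 7)) 1 1 = 2 := rfl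
  have u00 : ((ux 1 : SL7.Γ) : Matrix (Fin 2) (Fin 2) (ZMod 7)) 0 0 = 1 := rfl
  have u01 : ((ux 1 : SL7.Γ) : Matrix (Fin 2) (Fin 2) (ZMod 7)) 0 1 = 1 := rfl
  have u10 : ((ux 1 : SL7.Γ) : Matrix (Fin 2) (Fin 2) (ZMod 7)) 1 0 = 0 := rfl
  have u11 : ((ux 1 : SL7.Γ) : Matrix (Fin 2) (Fin 2) (ZMod 7)) 1 1 = 1 := rfl
  simp only [d00, d01, d10, d11] at e2
  simp only [u00, u01, u10, u11] at e3
  obtain ⟨hp, hs, hqr⟩ := arith3 p q r s hd (by linear_combination e1.1) (by linear_combination e1.2.1)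
    (by linear_combination e1.2.2) (by linear_combination e2.1) (by linear_combination e2.2.1)
    (by linear_combination e2.2.2)
  have h4 := e3.2.2
  obtain ⟨hr, hq⟩ := arith5 q r hqr (by rw [hp, hs] at h4; linear_combination h4 - r * hqr)
  refine mk_eq_of (ε := r) hr fun i j => ?_
  fin_cases i <;> fin_cases j
  · change p = r * 0
    rw [hp, mul_zero]
  · change q = r * -1
    rw [hq]; ring
  · change r = r * 1
    rw [mul_one]
  · change s = r * 0
    rw [hs, mul_zero]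

theorem g1 : ∀ y : ZMod 7, ux (2 * y) * (dt 4 z4 * ux y) = dt 4 z4 * ux (2 * y) := by decide
theorem g2 : ∀ y : ZMod 7, ux y * ux 1 = ux 1 * ux y := by decide
theorem g3 : NN 0 * NN 0 = dt 6 z6 := by decide
theorem g4 : (dt 4 z4 * NN 0) * (dt 4 z4 * NN 0) = dt 6 z6 := by decide
theorem g5 : (ux 1 * NN 0) * ((ux 1 * NN 0) * (ux 1 * NN 0)) = dt 6 z6 := by decide
theorem g6 : ∀ i : Fin 8, i ≠ 7 → NN i = ux (pt i).1 * NN 0 := by decide
theorem g7 : NN 7 = 1 := by decide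
theorem g8 : dt 4 z4 * ux 1 = ux 2 * dt 4 z4 := by decide

theorem mk_six : mk7 (dt 6 z6) = 1 := by
  refine (QuotientGroup.eq_one_iff _).2 ?_
  rw [dt_eq]
  exact H24.Om.dg_neg_one_mem

theorem uu_eq : (uu : T7) = mk7 (ux 1) := rfl

theorem mk_ux (y : ZMod 7) : mk7 (ux y) = uu ^ y.val := by
  rw [uu_eq, ← map_pow]
  congr 1
  rw [ux_eq, ux_eq, H24.Om.ut_pow, mul_one, ZMod.natCast_val, ZMod.cast_id]

/-- **Rigidity**: a homomorphism fixing the element of order seven is conjugation by a power of it. -/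
theorem rigid (ψ : T7 →* T7) (hu : ψ uu = uu) : ∃ k : ℕ, ∀ g, uu ^ k * ψ g * (uu ^ k)⁻¹ = g := by
  obtain ⟨x, hx⟩ := QuotientGroup.mk_surjective (ψ (mk7 (dt 4 z4)))
  have hx : mk7 x = ψ (mk7 (dt 4 z4)) := hx
  obtain ⟨y, hy⟩ := image_s (x := x) (by
    have h2 : mk7 (ux 2) = uu ^ 2 := mk_ux 2
    rw [map_mul, map_mul, hx, ← uu_eq, h2, ← hu, ← map_pow, ← map_mul, ← map_mul]
    congr 1
    rw [← h2, uu_eq, ← map_mul, ← map_mul, g8])
  refine ⟨(2 * y).val, ?_⟩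
  rw [← mk_ux]
  set c := mk7 (ux (2 * y)) with hc
  let ψ' : T7 →* T7 := (MulAut.conj c).toMonoidHom.comp ψ
  have hψ : ∀ g, ψ' g = c * ψ g * c⁻¹ := fun g => rfl
  change ∀ g, ψ' g = g
  have hu' : ψ' uu = uu := by
    rw [hψ, hu, hc, uu_eq, ← map_mul, g2, map_mul, mul_inv_cancel_right]
  have hs' : ψ' (mk7 (dt 4 z4)) = mk7 (dt 4 z4) := by
    rw [hψ, ← hx, hy, hc, ← map_mul, g1, map_mul, mul_inv_cancel_right]
  have hw' : ψ' (mk7 (NN 0)) = mk7 (NN 0) := by
    obtain ⟨x', hx'⟩ := QuotientGroup.mk_surjective (ψ' (mk7 (NN 0)))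
    have hx' : mk7 x' = ψ' (mk7 (NN 0)) := hx'
    rw [← hx']
    apply image_w
    · rw [map_mul, hx', ← map_mul, ← map_mul, g3, mk_six, map_one]
    · rw [map_mul, map_mul, hx', ← hs', ← map_mul, ← map_mul, ← map_mul, ← map_mul, g4, mk_six, map_one]
    · have e : mk7 (ux 1 * x') = ψ' (mk7 (ux 1 * NN 0)) := by
        rw [map_mul, map_mul, map_mul, hx', ← uu_eq, hu']
      have e' : mk7 ((ux 1 * x') * ((ux 1 * x') * (ux 1 * x'))) = mk7 (ux 1 * x') * (mk7 (ux 1 * x') * mk7 (ux 1 * x')) := by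
        rw [map_mul mk7 (ux 1 * x'), map_mul mk7 (ux 1 * x') (ux 1 * x')]
      rw [e', e, ← map_mul, ← map_mul, ← map_mul, ← map_mul, g5, mk_six, map_one]
  let S : Subgroup T7 := ψ'.eqLocus (MonoidHom.id T7)
  have hS : ∀ g, g ∈ S ↔ ψ' g = g := fun g => Iff.rfl
  have hux : ∀ y, mk7 (ux y) ∈ S := by
    intro y
    rw [mk_ux]
    exact pow_mem ((hS _).2 hu') _
  have h4 : mk7 (dt 4 z4) ∈ S := (hS _).2 hs'
  have h6 : mk7 (dt 6 z6) ∈ S := by rw [mk_six]; exact one_mem _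
  have h2 : mk7 (dt 2 z2) ∈ S := by rw [e3, map_mul]; exact mul_mem h4 h4
  have hdt : ∀ t (ht : t ≠ 0), mk7 (dt t ht) ∈ S := by
    intro t ht
    have key : ∀ t : ZMod 7, t ≠ 0 → t = 1 ∨ t = 2 ∨ t = 3 ∨ t = 4 ∨ t = 5 ∨ t = 6 := by decide
    rcases key t ht with rfl | rfl | rfl | rfl | rfl | rfl
    · rw [e4, map_one]; exact one_mem _
    · exact h2
    · rw [e5, map_mul]; exact mul_mem h6 h4
    · exact h4
    · rw [e6, map_mul]; exact mul_mem h6 h2
    · exact h6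
  have hNN : ∀ i, mk7 (NN i) ∈ S := by
    intro i
    by_cases hi : i = 7
    · rw [hi, g7, map_one]; exact one_mem _
    · rw [g6 i hi, map_mul]
      exact mul_mem (hux _) ((hS _).2 hw')
  intro g
  obtain ⟨x, rfl⟩ := QuotientGroup.mk_surjective g
  have hne : ((x : Matrix (Fin 2) (Fin 2) (ZMod 7)) 0 0, (x : Matrix (Fin 2) (Fin 2) (ZMod 7)) 1 0) ≠ (0, 0) := by
    intro h0
    have hd := x.2
    rw [Matrix.det_fin_two] at hd
    have z0 := congrArg Prod.fst h0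
    have z1 := congrArg Prod.snd h0
    simp only at z0 z1
    rw [z0, z1, zero_mul, mul_zero, sub_zero] at hd
    exact absurd hd (by decide)
  obtain ⟨i, r, hr, a0, a1⟩ := SL7.exists_pt _ _ hne
  obtain ⟨x', rfl⟩ := SL7.eq_of_col hr a0 a1
  have hmem : mk7 (NN i * dt r hr * ux x') ∈ S := by
    rw [map_mul, map_mul]
    exact mul_mem (mul_mem (hNN i) (hdt r hr)) (hux x')
  exact hmem

/-! ### Conclusion -/

/-- **`PSL₂(7)` is not the core of a maximal subgroup of `Ω₈⁻(q)`**, `p ≠ 2, 3, 7`. -/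
theorem no_l27 {F : Type u} [Field F] [Fintype F] (h : OC F T7) (h2 : (2 : F) ≠ 0) (h3 : (3 : F) ≠ 0) (h7 : (7 : F) ≠ 0)
    {H : Subgroup (GL (Fin 8) F)} (hmax : IsMaximalIn (omegaGL h.Q) H)
    (hnorm : ∀ x ∈ H, ∀ t, ∃ t', x * h.ρ t * x⁻¹ = h.ρ t') : False := by
  obtain ⟨f, hf0, hf, hu⟩ := exists_form h h2 h3 h7
  have h7' : ((7 : ℕ) : AlgebraicClosure F) ≠ 0 := H24.Om.cast_ne_zero (by exact_mod_cast h7)
  obtain ⟨ζ, hζ⟩ := exists_root (K := AlgebraicClosure F) (N := 7) h7'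
  have hζ7 := hζ.pow_eq_one
  obtain ⟨a, ha, hk⟩ := Tor7.exists_a (algebraMap F (AlgebraicClosure F)) hζ h2 h3
  have ht := form_tt h ha h7 hf
  have ht2 : f.compLinearMap (ac (tt h ha * tt h ha)) = f := by rw [← comp_comp, ht, ht]
  have htH := mem_of_form h h2 hmax hnorm hf0 hf hu (tt_sq_mem h ha h2) ht2
  set t2 := tt h ha * tt h ha with ht2def
  -- the automorphism
  choose φ hφ using hnorm t2 htH
  let ψ : T7 →* T7 :=
    { toFun := φ
      map_one' := by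
        apply h.inj
        rw [← hφ, map_one, mul_one, mul_inv_cancel]
      map_mul' := fun x y => by
        apply h.inj
        rw [map_mul, ← hφ, ← hφ, ← hφ, map_mul]
        group }
  have hcomm : t2 * h.ρ uu = h.ρ uu * t2 := by
    have c : Commute (tt h ha) (h.ρ uu) := tt_uu h ha
    exact (c.mul_left c).eq
  have hψu : ψ uu = uu := by
    apply h.inj
    change h.ρ (φ uu) = h.ρ uu
    rw [← hφ, hcomm, mul_inv_cancel_right]
  obtain ⟨k, hk'⟩ := rigid ψ hψu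
  -- `A ^ k t2` is central, so it is one
  set c := h.ρ (uu ^ k) * t2 with hcdef
  have hcc : ∀ g, c * h.ρ g = h.ρ g * c := by
    intro g
    have h5 : t2 * h.ρ g = h.ρ (ψ g) * t2 := by
      change _ = h.ρ (φ g) * t2
      rw [← hφ, inv_mul_cancel_right]
    rw [hcdef, mul_assoc, h5, ← mul_assoc, ← map_mul]
    have h6 : uu ^ k * ψ g = g * uu ^ k := by
      have := hk' g
      rw [mul_inv_eq_iff_eq_mul] at this
      exact this
    rw [h6, map_mul, mul_assoc]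
  -- a fixed vector
  obtain ⟨v, hv, hv0⟩ := exists_fix_of_pos (U := W 7 ζ (fun k => h.σ ((![uu] : Fin 1 → T7) k)) ![0]) (by
    rw [(weights_l27 (ZMod.card 7) h h7 hζ).2]; norm_num)
  have hvu : h.σ uu v = (1 : AlgebraicClosure F) • v := by
    have := mem_W.1 hv 0
    change h.σ uu v = ζ ^ (0 : ZMod 7).val • v at this
    rwa [ZMod.val_zero, pow_zero] at this
  have hpowu : ∀ (z : AlgebraicClosure F) (w : Fin 8 → AlgebraicClosure F), h.σ uu w = z • w → ∀ k : ℕ,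
      h.σ (uu ^ k) w = z ^ k • w := by
    intro z w hw k
    rw [map_pow]
    exact pow_apply hw k
  have hct : ∀ (z : AlgebraicClosure F) (w : Fin 8 → AlgebraicClosure F), z ^ 7 = 1 → h.σ uu w = z • w →
      ac c w = (cc a z * cc a z * z ^ k) • w := by
    intro z w hz hw
    rw [hcdef, map_mul, Module.End.mul_apply, ht2def, map_mul, Module.End.mul_apply, ac_tt h ha hz hw, map_smul,
      ac_tt h ha hz hw, smul_smul, map_smul, ac_rho, hpowu z w hw k, smul_smul]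
  have hcv : ac c v = v := by
    rw [hct 1 v (one_pow 7) hvu, cc_one ha, one_pow, mul_one, mul_one, one_smul]
  have hall : ∀ w, ac c w = w := by
    let E : Submodule (AlgebraicClosure F) (Fin 8 → AlgebraicClosure F) := LinearMap.ker (ac c - 1)
    have hE : ∀ w, w ∈ E ↔ ac c w = w := by
      intro w
      rw [LinearMap.mem_ker, LinearMap.sub_apply, Module.End.one_apply, sub_eq_zero]
    have htop : E = ⊤ := by
      refine h.eq_top_of_inv E ?_ ((hE v).2 hcv) hv0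
      intro g w hw
      rw [hE] at hw ⊢
      rw [← ac_rho, ← Module.End.mul_apply, ← map_mul, hcc, map_mul, Module.End.mul_apply, hw]
    intro w
    exact (hE w).1 (by rw [htop]; trivial)
  -- the weights
  obtain ⟨j, hj⟩ := hk ((7 - k % 7) % 7) (Nat.mod_lt _ (by norm_num))
  apply hj
  set z := ζ ^ j with hz
  have hz7 : z ^ 7 = 1 := by rw [hz, ← pow_mul, mul_comm, pow_mul, hζ7, one_pow]
  obtain ⟨w, hw, hw0⟩ : ∃ w : Fin 8 → AlgebraicClosure F, h.σ uu w = z • w ∧ w ≠ 0 := by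
    have hfr : 0 < finrank (AlgebraicClosure F) (W 7 ζ (fun k => h.σ ((![uu] : Fin 1 → T7) k)) ![(j : ZMod 7)]) := by
      by_cases h0 : (j : ZMod 7) = 0
      · rw [h0, (weights_l27 (ZMod.card 7) h h7 hζ).2]; norm_num
      · rw [(weights_l27 (ZMod.card 7) h h7 hζ).1 _ h0]; norm_num
    obtain ⟨w, hw, hw0⟩ := exists_fix_of_pos hfr
    refine ⟨w, ?_, hw0⟩
    have h5 := mem_W.1 hw 0
    change h.σ uu w = ζ ^ (j : ZMod 7).val • w at h5
    rw [h5, ZMod.val_natCast, pow_mod_of_pow_eq_one hζ7]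
  have h5 := hall w
  rw [hct z w hz7 hw] at h5
  have h6 : cc a z * cc a z * z ^ k = 1 := by
    have h8 : (cc a z * cc a z * z ^ k - 1) • w = 0 := by rw [sub_smul, h5, one_smul, sub_self]
    exact sub_eq_zero.1 ((smul_eq_zero.1 h8).resolve_right hw0)
  have hpow : ∀ j : ℕ, (z ^ j) ^ 7 = 1 := fun j => by rw [← pow_mul, mul_comm, pow_mul, hz7, one_pow]
  have n1 := sub_ne ha hz7
  have n3 := sub_ne ha (hpow 3)
  have h8 : z ^ k * z ^ ((7 - k % 7) % 7) = 1 := by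
    rw [← pow_add, ← pow_mod_of_pow_eq_one hz7, show (k + (7 - k % 7) % 7) % 7 = 0 by omega, pow_zero]
  have h9 : cc a z * cc a z = z ^ ((7 - k % 7) % 7) := by
    calc cc a z * cc a z = cc a z * cc a z * z ^ k * z ^ ((7 - k % 7) % 7) := by rw [mul_assoc, h8, mul_one]
      _ = z ^ ((7 - k % 7) % 7) := by rw [h6, one_mul]
  rw [← h9, cc]
  field_simp

end Cfsg.Agent.H917.L27
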