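import Cfsg.Agent.H917.OmCore
import Cfsg.Agent.H917.OmAlt3
import Cfsg.Agent.H917.OmL27e
import Cfsg.Agent.H936.List12b
import Cfsg.Agent.H936.OmA7
import Cfsg.Agent.H936.U33Two
import Cfsg.Agent.H937.T2Rep
import Cfsg.Agent.H464.L2StageOne
import Cfsg.Agent.H219.OmL217
import Cfsg.Agent.H24.Om.L28
import Cfsg.Agent.H24.Om.L27
import Cfsg.Agent.H659.U3Stage
import Cfsg.Agent.H659.Sp4Stage
import Cfsg.Agent.H36.U52.Main
import Cfsg.Agent.H814.SzEightCore
import Cfsg.Agent.H916.NegOne
import Cfsg.Agent.H921.SporJ2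
import Cfsg.Agent.H4.JT.Two
import Cfsg.Agent.H871.Par6
import Cfsg.Agent.H871.Par7
import Cfsg.Agent.H95.JT.Core
import Cfsg.Agent.H806.LsFiLe
import Cfsg.Agent.H659.J1Not11
import Cfsg.Agent.H179.JoneL
import Cfsg.Agent.H878.Sz.MainThree
import Cfsg.Agent.H878.Sz.MainP3
import Cfsg.Agent.H937.G24.Row

/-!
# `Ω₈⁻(q)`: the residual class, cross characteristic (helper917, row S5827)
-/

set_option autoImplicit false
set_option linter.unusedSectionVars false

namespace Cfsg.Agent.H917.Om

open Cfsg Cfsg.Geo Module Matrix Cfsg.Agent.H915.LD Cfsg.Agent.H936.List12 Cfsg.Agent.H912.Bd Cfsg.Agent.H912.Five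

universe u v

variable {F : Type u} [Field F] [Fintype F] {Q : (Fin 8 → F) → F} {H P : Subgroup (GL (Fin 8) F)}

theorem toOC_mem {T : Type v} [Group T] (nd : IsNondegenerateQuadraticForm Q) (minus : ¬ IsPlusTypeOn Q ⊤)
    (hP : P ≤ omegaGL Q) (hirr : ActsAbsolutelyIrreducibly (matrixSet P)) (e : Soc P ≃* T) (t : T) :
    (toOC nd minus hP hirr e).ρ t ∈ P :=
  Subtype.property _

theorem toOC_ex {T : Type v} [Group T] (nd : IsNondegenerateQuadraticForm Q) (minus : ¬ IsPlusTypeOn Q ⊤)
    (hP : P ≤ omegaGL Q) (hirr : ActsAbsolutelyIrreducibly (matrixSet P)) (e : Soc P ≃* T) {x : GL (Fin 8) F}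
    (hx : x ∈ P) : ∃ t, x = (toOC nd minus hP hirr e).ρ t := by
  refine ⟨e (toSoc P ⟨x, hx⟩), ?_⟩
  have hb : Function.Bijective (toSoc P) := ⟨by
    rw [← MonoidHom.ker_eq_bot_iff, ker_toSoc]
    exact scalars_bot nd minus hP, toSoc_surjective P⟩
  let e' : P ≃* T := (MulEquiv.ofBijective (toSoc P) hb).trans e
  have h1 : e'.symm (e (toSoc P ⟨x, hx⟩)) = ⟨x, hx⟩ := by
    rw [MulEquiv.symm_apply_eq]
    rfl
  change x = ((e'.symm (e (toSoc P ⟨x, hx⟩)) : P) : GL (Fin 8) F)
  rw [h1]

theorem toOC_norm {T : Type v} [Group T] (nd : IsNondegenerateQuadraticForm Q) (minus : ¬ IsPlusTypeOn Q ⊤)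
    (hP : P ≤ omegaGL Q) (hc : IsResidualCore H P) (e : Soc P ≃* T) :
    ∀ x ∈ H, ∀ t, ∃ t', x * (toOC nd minus hP hc.absIrred e).ρ t * x⁻¹ = (toOC nd minus hP hc.absIrred e).ρ t' :=
  fun x hx t => toOC_ex nd minus hP hc.absIrred e (hc.normal x hx _ (toOC_mem nd minus hP hc.absIrred e t))

section main

variable (p : ℕ) [hp : Fact p.Prime] [CharP F p] (nd : IsNondegenerateQuadraticForm Q)
  (minus : ¬ IsPlusTypeOn Q ⊤) (hH : IsMaximalIn (omegaGL Q) H) (hc : IsResidualCore H P)
include nd minus hH hc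

theorem le_omega : P ≤ omegaGL Q := hc.le.trans hH.1.le

theorem fixes : FixesQuadForm (matrixSet P) Q := by
  rintro _ ⟨x, hx, rfl⟩ v
  exact mem_omegaGL_fix (le_omega nd minus hH hc hx) v

theorem neg_one_not (h2 : (2 : F) ≠ 0) : (-1 : GL (Fin 8) F) ∉ P := by
  intro h
  exact neg_one_not_mem h2 nd minus (le_omega nd minus hH hc h) (by rw [Units.val_neg, Units.val_one])

theorem oc {T : Type v} [Group T] (h : Nonempty (Soc P ≃* T)) : Nonempty (OC F T) :=
  h.map fun e => toOC nd minus (le_omega nd minus hH hc) hc.absIrred e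

theorem oc_fields {T : Type v} [Group T] (h : Nonempty (Soc P ≃* T)) :
    ∃ h : OC F T, h.Q = Q ∧ ∀ x ∈ H, ∀ t, ∃ t', x * h.ρ t * x⁻¹ = h.ρ t' := by
  obtain ⟨e⟩ := h
  exact ⟨toOC nd minus (le_omega nd minus hH hc) hc.absIrred e, rfl, toOC_norm nd minus (le_omega nd minus hH hc) hc e⟩

include hp

omit hH hc nd minus [CharP F p] in
theorem charP_of_dvd_card {K : Type} [Field K] [Fintype K] (h : p ∣ Fintype.card K) : CharP K p :=
  charP_of_dvd hp.out h

theorem two_ne (h2 : p ≠ 2) : (2 : F) ≠ 0 := by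
  have := cast_ne (F := F) (p := p) Nat.prime_two (Ne.symm h2)
  exact_mod_cast this

theorem three_ne (h3 : p ≠ 3) : (3 : F) ≠ 0 := by
  have := cast_ne (F := F) (p := p) Nat.prime_three (Ne.symm h3)
  exact_mod_cast this

theorem three_eq (h3 : p = 3) : (3 : F) = 0 := by
  subst h3
  have := CharP.cast_eq_zero F 3
  exact_mod_cast this

/-- **The alternating groups.** -/
theorem no_alt (hL : ¬ IsLieTypeChar p (Soc P)) {m : ℕ} (h5 : 5 ≤ m)
    (e : Nonempty (Soc P ≃* alternatingGroup (Fin m))) : False := by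
  have hC := core_of_residual hc
  have hoc := oc nd minus hH hc e
  rcases (show m = 5 ∨ m = 6 ∨ m = 7 ∨ m = 8 ∨ 9 ≤ m by omega) with rfl | rfl | rfl | rfl | h9
  · obtain ⟨e⟩ := e
    by_cases h5 : p = 5
    · subst h5
      apply hL
      have : Fact (Nat.Prime 5) := ⟨by norm_num⟩
      obtain ⟨f⟩ := Cfsg.Agent.S0253.result (F := ZMod 5) (ZMod.card 5)
      exact lie_of_isL (m := 2) (q := 5) Nat.prime_five (dvd_refl 5) le_rfl (fun _ => by norm_num)
        ⟨ZMod 5, inferInstance, inferInstance, ZMod.card 5, ⟨e.trans f.symm⟩⟩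
    · have := H937.T2.a5_dims p hC e h5
      simp at this
  · obtain ⟨e⟩ := e
    by_cases h3 : p = 3
    · subst h3
      obtain ⟨K, iK, iKf, hK, hK3, f⟩ := H937.T2.exists_nine e
      exact hL (lie_of_isL (m := 2) (q := 9) Nat.prime_three (by norm_num) le_rfl (fun _ => by norm_num)
        ⟨K, iK, iKf, hK, f⟩)
    · exact no_A6 (three_ne p nd minus hH hc h3) hoc.some
  · by_cases h3 : p = 3
    · exact H936.OmA7.no_A7_three (three_eq p nd minus hH hc h3) hoc.some
    · exact no_A7 (three_ne p nd minus hH hc h3) hoc.some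
  · obtain ⟨e⟩ := e
    by_cases h2 : p = 2
    · subst h2
      obtain ⟨f⟩ := Cfsg.Agent.S0256.result (F := ZMod 2) (ZMod.card 2)
      exact hL (lie_of_isL (m := 4) (q := 2) Nat.prime_two (dvd_refl 2) (by norm_num) (fun h => by omega)
        ⟨ZMod 2, inferInstance, inferInstance, ZMod.card 2, ⟨e.trans f.symm⟩⟩)
    · exact OC.no_A8 hoc.some (two_ne p nd minus hH hc h2)
  · exact OC.no_Am h9 hoc.some

/-- **`L₂(q)`**, cross characteristic. -/
theorem no_l2 (hL : ¬ IsLieTypeChar p (Soc P)) {q : ℕ} (hq : q ∈ ({7, 8, 11, 13, 17, 19, 23, 25} : Finset ℕ))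
    (hpq : ¬ p ∣ q) (hle : (q - 1) / Nat.gcd 2 (q - 1) ≤ 8) (h : IsL 2 q (Soc P)) : False := by
  have hC := core_of_residual hc
  have h' := h
  obtain ⟨K, iK, iKf, hK, e⟩ := h
  have hoc := oc nd minus hH hc e
  have hdeg := fun (h5 : 5 ≤ Fintype.card K) (h9 : Fintype.card K ≠ 9) (h6 : ¬ p ∣ Fintype.card K) =>
    H464.Sl2.l2_degrees p hC h5 h9 h6 e.some (by simp)
  simp only [Fintype.card_fin] at hdeg
  simp only [Finset.mem_insert, Finset.mem_singleton] at hq
  rcases hq with rfl | rfl | rfl | rfl | rfl | rfl | rfl | rfl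
  · by_cases h2 : p = 2
    · subst h2
      exact hL (lie_of_isL (m := 3) (q := 2) Nat.prime_two (dvd_refl 2) (by norm_num) (fun h => by omega)
        (l32_of_l27 h'))
    by_cases h3 : p = 3
    · exact H24.Om.no_l27_three (three_eq p nd minus hH hc h3) hK hoc.some
    have e7 : Nonempty (Soc P ≃* L27.T7) := ⟨e.some.trans (LieClassical.FieldTransfer.pslCongr (ι := Fin 2)
      (ZMod.ringEquivOfPrime K (show Nat.Prime 7 by norm_num) hK)).symm⟩
    obtain ⟨h, hQ, hn⟩ := oc_fields nd minus hH hc e7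
    refine L27.no_l27 h (two_ne p nd minus hH hc h2) (three_ne p nd minus hH hc h3) ?_ (H := H) (hQ ▸ hH) hn
    have h7 : p ≠ 7 := by rintro rfl; exact hpq (dvd_refl 7)
    have := cast_ne (F := F) (p := p) (show Nat.Prime 7 by norm_num) (Ne.symm h7)
    exact_mod_cast this
  · refine H24.Om.no_l28 (two_ne p nd minus hH hc ?_) hK hoc.some
    rintro rfl
    exact hpq (by norm_num)
  · have := hdeg (by omega) (by omega) (by rw [hK]; exact hpq)
    simp [hK] at this
  · have := hdeg (by omega) (by omega) (by rw [hK]; exact hpq)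
    simp [hK] at this
  · refine H219.OmL217.no_l217 ?_ hK hoc.some
    have h7 : p ≠ 17 := by rintro rfl; exact hpq (dvd_refl 17)
    have := cast_ne (F := F) (p := p) (show Nat.Prime 17 by norm_num) (Ne.symm h7)
    exact_mod_cast this
  · norm_num at hle
  · norm_num at hle
  · norm_num at hle

/-- **Classical groups**, cross characteristic. -/
theorem no_lie (hL : ¬ IsLieTypeChar p (Soc P)) (h : LieC p 8 (Soc P)) : False := by
  have hC := core_of_residual hc
  rcases h with ⟨q, hq, h1, h2, h3⟩ | ⟨h3, -, h⟩ | ⟨h3, -, h⟩ | ⟨-, h, -⟩ | ⟨h2, h3, -, h⟩ | ⟨h2, -, h⟩ | ⟨-, h, -⟩ |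
    ⟨h2, -, h⟩ | ⟨h2, -, h⟩
  · exact no_l2 p nd minus hH hc hL hq h1 h2 h3
  · obtain ⟨K, iK, iKf, hK, e⟩ := h
    have : CharP K 3 := charP_of_dvd Nat.prime_three (by rw [hK])
    exact OC.not_quat9 (oc nd minus hH hc e).some (three_ne p nd minus hH hc h3) H871.Par.quat9_psl3
  · obtain ⟨K, iK, iKf, hK, e⟩ := h
    have hK9 : Fintype.card K = 9 := by rw [hK]; norm_num
    by_cases h2 : p = 2
    · subst h2
      have := (H936.U33Two.u33_two hC hK9 e (by simp)).1
      simp at this
    · have := (H659.U3.u33_stage hC p h2 h3 (by simp) hK9 e.some).2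
      simp at this
  · omega
  · obtain ⟨K, iK, iKf, hK, e⟩ := h
    have hK4 : Fintype.card K = 4 := by rw [hK]; norm_num
    have := H659.Sp4.u42_stage' hC p h2 h3 (by simp) hK4 e.some
    simp at this
  · obtain ⟨K, iK, iKf, hK, e⟩ := h
    have hK4 : Fintype.card K = 4 := by rw [hK]; norm_num
    have := H36.U52.t6 hC p h2 (by norm_num) hK4 e.some
    omega
  · omega
  · obtain ⟨K, iK, iKf, hK, e⟩ := h
    exact neg_one_not nd minus hH hc (two_ne p nd minus hH hc h2)
      (H916.T8.sp_neg hK hC e.some (two_ne p nd minus hH hc h2) (by simp))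
  · obtain ⟨K, iK, iKf, hK, e⟩ := h
    exact neg_one_not nd minus hH hc (two_ne p nd minus hH hc h2)
      (H916.T8.om_neg hK hC e.some (two_ne p nd minus hH hc h2) (by simp))

/-- **Exceptional multipliers.** -/
theorem no_mult (hL : ¬ IsLieTypeChar p (Soc P)) (h : MultD p 8 (Soc P)) : False := by
  have hC := core_of_residual hc
  rcases h with ⟨h2, -, h⟩ | ⟨-, h, -⟩
  · have h2' := two_ne p nd minus hH hc h2
    rcases h with h | h | ⟨h3, h⟩ | h | h | h
    · refine no_l2 p nd minus hH hc hL (q := 7) (by simp) ?_ (by norm_num) h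
      intro h7
      exact hL (lie_of_isL (m := 2) (q := 7) hp.out h7 le_rfl (fun _ => by norm_num) h)
    · obtain ⟨K, iK, iKf, hK, ⟨e⟩⟩ := h
      have : CharP K 2 := charP_of_dvd Nat.prime_two (by rw [hK]; norm_num)
      have hb := (bd_psl (F := F) (r := 2) Nat.prime_two (by exact_mod_cast h2') (m := 3) le_rfl
        (K := K) inferInstance)
      have hpr := hC.pr (r := 2) e (by
        rw [scalars_bot nd minus (le_omega nd minus hH hc), Subgroup.card_bot]
        exact Nat.coprime_one_left 2)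
      have := hb 8 hpr
      rw [hK] at this
      norm_num at this
    · exact no_lie p nd minus hH hc hL (Or.inr (Or.inr (Or.inr (Or.inr (Or.inl ⟨h2, h3, by norm_num, h⟩)))))
    · exact no_lie p nd minus hH hc hL (Or.inr (Or.inr (Or.inr (Or.inr (Or.inr (Or.inr (Or.inr (Or.inl
        ⟨h2, by norm_num, h⟩))))))))
    · exact no_lie p nd minus hH hc hL (Or.inr (Or.inr (Or.inr (Or.inr (Or.inr (Or.inr (Or.inr (Or.inr
        ⟨h2, by norm_num, h⟩))))))))
    · have := (H937.G24.row hC h p h2 (by simp)).1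
      simp at this
  · omega

theorem no_sz8 (h2 : p ≠ 2) (h : IsSz8 (Soc P)) : False :=
  minus ((H814.Sz8.core_sz8 (core_of_residual hc) (two_ne p nd minus hH hc h2) (by simp) h).2.2.2.2 Q nd
    (fixes nd minus hH hc))

/-- **Sporadic groups.** -/
theorem no_spor (h : SporC (Soc P)) : False := by
  have hC := core_of_residual hc
  have key : ∀ {T : Type} [Group T], Nonempty (Soc P ≃* T) → H871.Par.Quat9 T → H871.Par.Frob11 T → False := by
    intro T _ e h9 h11
    have hoc := oc nd minus hH hc e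
    by_cases h3 : p = 3
    · refine OC.not_frob11 hoc.some ?_ h11
      have := cast_ne (F := F) (p := p) (show Nat.Prime 11 by norm_num) (by omega)
      exact_mod_cast this
    · exact OC.not_quat9 hoc.some (three_ne p nd minus hH hc h3) h9
  rcases h with h | h | h | h | h | h | h | h | h
  · exact key h H871.Par.quat9_M11 H871.Par.frob11_M11
  · exact key h H871.Par.quat9_M12 H871.Par.frob11_M12
  · exact key h H871.Par.quat9_M22 H871.Par.frob11_M22
  · exact key h H871.Par.quat9_M23 H871.Par.frob11_M23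
  · exact key h H871.Par.quat9_M24 H871.Par.frob11_M24
  · by_cases h11 : p = 11
    · subst h11
      have := H179.JOne.j1_le12_iso hC h (by exact_mod_cast CharP.cast_eq_zero F 11) (by simp)
      simp at this
    · exact H659.J1.not_core hC h p h11 (by simp)
  · by_cases h2 : p = 2
    · subst h2
      refine H4.JT.j2_two_eight_irr (G := P) ?_ (Or.inr rfl) P.subtype ?_
      · obtain ⟨e⟩ := h
        exact ⟨(MulEquiv.ofBijective (toSoc P) ⟨by
          rw [← MonoidHom.ker_eq_bot_iff, ker_toSoc]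
          exact scalars_bot nd minus (le_omega nd minus hH hc), toSoc_surjective P⟩).trans e⟩
      · rw [Subgroup.range_subtype]
        exact hc.absIrred.1
    · obtain ⟨e⟩ := h
      have hpr := hC.pr (r := 2) e (by
        rw [scalars_bot nd minus (le_omega nd minus hH hc), Subgroup.card_bot]
        exact Nat.coprime_one_left 2)
      have := (H921.Spor.J2.J2_two.bd (F := F) Nat.prime_two (by exact_mod_cast two_ne p nd minus hH hc h2)) 8 hpr
      omega
  · have := (H95.JT.j3 p hC h (by simp)).2.1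
    simp at this
  · obtain ⟨e⟩ := h
    by_cases h3 : p = 3
    · subst h3
      have := (H878.Sz.core_Suz_three hC e (by simp)).1
      simp at this
    · have := (H878.Sz.core_Suz hC e (by simp) p h3).1
      simp at this

/-- **Cross characteristic.** -/
theorem cross (hk : IsKnownSimple' (Soc P)) (hL : ¬ IsLieTypeChar p (Soc P)) : False := by
  have hC := core_of_residual hc
  rcases list₁ (p := p) (n := 8) (by norm_num) hC hk hL with (h | h | h | h | h) | h
  · obtain ⟨m, h5, -, -, -, -, e⟩ := h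
    exact no_alt p nd minus hH hc hL h5 e
  · exact no_lie p nd minus hH hc hL h
  · exact no_mult p nd minus hH hc hL h
  · exact no_sz8 p nd minus hH hc h.1 h.2.2
  · exact no_spor p nd minus hH hc h
  · obtain ⟨-, ⟨⟨e⟩⟩ | ⟨⟨e⟩⟩ | ⟨⟨e⟩⟩ | ⟨⟨e⟩⟩⟩ := h
    · have := H806.Ls.fi22_le hp.out hC e
      omega
    · have := H806.Ls.fi23_le hp.out hC e
      omega
    · have := H806.Ls.b_le hp.out hC e
      omega
    · have := H806.Ls.m_le hp.out hC e
      omega

end main

end Cfsg.Agent.H917.Om
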