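import Cfsg.Agent.LieClassical.OrthFinite

/-!
# The group `Ω(Q)` fixes no alternating 3-form (helper917, row S5827)
-/

set_option autoImplicit false

namespace Cfsg.Agent.H917.Form3

open Module QuadraticMap
open Cfsg.Agent.LieClassical.OrthCore Cfsg.Agent.LieClassical.OrthTrans Cfsg.Agent.LieClassical.OrthFinite

/-- **`Ω(Q)` (odd characteristic, dimension at least six) fixes no nonzero alternating 3-form**, with values in any
vector space. -/
theorem alt_eq_zero {F V L : Type*} [Field F] [Finite F] [AddCommGroup V] [Module F V] [AddCommGroup L]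
    [Module F L] (h2 : (2 : F) ≠ 0) {Q : QuadraticForm F V} (hQ : Nondeg Q) (hdim : 6 ≤ finrank F V)
    (g : V [⋀^Fin 3]→ₗ[F] L) (hinv : ∀ σ ∈ E Q, ∀ x : Fin 3 → V, g (fun i => σ (x i)) = g x) : g = 0 := by
  classical
  have : FiniteDimensional F V := Module.finite_of_finrank_pos (by omega)
  let inst2 : Invertible (2 : F) := invertibleOfNonzero h2
  have hsymm : (polarBilin Q).IsSymm := ⟨fun x y => QuadraticMap.polar_comm _ _ _⟩
  obtain ⟨e, he⟩ := LinearMap.BilinForm.exists_orthogonal_basis hsymm
  have ho : ∀ i j, i ≠ j → polar Q (e i) (e j) = 0 := fun i j hij => LinearMap.isOrthoᵢ_def.1 he i j hij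
  have hs : ∀ i, polar Q (e i) (e i) = 2 * Q (e i) := by
    intro i
    rw [QuadraticMap.polar_self, two_nsmul, two_mul]
  have hne : ∀ i, Q (e i) ≠ 0 := by
    intro i h0
    have h1 : polarBilin Q (e i) = 0 := by
      refine e.ext fun j => ?_
      change polar Q (e i) (e j) = 0
      by_cases hij : i = j
      · subst hij
        rw [hs, h0, mul_zero]
      · exact ho i j hij
    exact e.ne_zero i (hQ _ fun y => LinearMap.congr_fun h1 y)
  refine Basis.ext_alternating e fun v hv => ?_
  rw [AlternatingMap.zero_apply]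
  -- three further indices
  obtain ⟨s, hs', hs3⟩ : ∃ s : Finset (Fin (finrank F V)), s ⊆ Finset.univ \ Finset.univ.image v ∧ s.card = 3 := by
    refine Finset.exists_subset_card_eq ?_
    rw [Finset.card_sdiff_of_subset (Finset.subset_univ _), Finset.card_univ, Fintype.card_fin,
      Finset.card_image_of_injective _ hv, Finset.card_univ, Fintype.card_fin]
    omega
  obtain ⟨l, m, n, hlm, hln, hmn, rfl⟩ := Finset.card_eq_three.1 hs3
  let k : Fin 3 → Fin (finrank F V) := ![l, m, n]
  have hk : ∀ i j, k i ≠ v j := by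
    intro i j h
    have h1 : k i ∈ ({l, m, n} : Finset _) := by
      fin_cases i <;> simp [k]
    have h3 := (Finset.mem_sdiff.1 (hs' h1)).2
    rw [h] at h3
    exact h3 (Finset.mem_image_of_mem _ (Finset.mem_univ _))
  have hkk : ∀ i j, i ≠ j → k i ≠ k j := by
    intro i j hij
    fin_cases i <;> fin_cases j <;> simp_all [k, eq_comm]
  obtain ⟨x, hx0, hx⟩ := exists_ternary_zero (Q (e (k 0))) (Q (e (k 1))) (Q (e (k 2))) 0 0 0
  obtain ⟨t, ht⟩ : ∃ t, x t ≠ 0 := by
    by_contra hno
    push Not at hno
    exact hx0 (funext hno)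
  let u : V := x 0 • e (k 0) + x 1 • e (k 1) + x 2 • e (k 2)
  have hu : Q u = 0 := by
    rw [Q_add, Q_add, QuadraticMap.map_smul, QuadraticMap.map_smul, QuadraticMap.map_smul,
      polar_add_left]
    simp only [polar_smul_left, polar_smul_right, smul_eq_mul]
    rw [ho _ _ (hkk 0 1 (by decide)), ho _ _ (hkk 0 2 (by decide)), ho _ _ (hkk 1 2 (by decide))]
    linear_combination hx
  have huv : ∀ j, polar Q u (e (v j)) = 0 := by
    intro j
    rw [polar_add_left, polar_add_left, polar_smul_left, polar_smul_left, polar_smul_left, ho _ _ (hk 0 j),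
      ho _ _ (hk 1 j), ho _ _ (hk 2 j)]
    simp
  have hut : polar Q u (e (k t)) = x t * (2 * Q (e (k t))) := by
    rw [polar_add_left, polar_add_left, polar_smul_left, polar_smul_left, polar_smul_left]
    fin_cases t
    · simp only [Fin.zero_eta, Fin.isValue] 
      rw [hs, ho _ _ (hkk 1 0 (by decide)), ho _ _ (hkk 2 0 (by decide))]
      simp
    · simp only [Fin.mk_one, Fin.isValue]
      rw [hs, ho _ _ (hkk 0 1 (by decide)), ho _ _ (hkk 2 1 (by decide))]
      simp
    · simp only [Fin.reduceFinMk, Fin.isValue]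
      rw [hs, ho _ _ (hkk 0 2 (by decide)), ho _ _ (hkk 1 2 (by decide))]
      simp
  let w : V := (x t * (2 * Q (e (k t))))⁻¹ • e (k t)
  have huw : polar Q u w = 1 := by
    rw [polar_smul_right, hut, smul_eq_mul]
    exact inv_mul_cancel₀ (mul_ne_zero ht (mul_ne_zero h2 (hne _)))
  have hvw : ∀ j, polar Q (e (v j)) w = 0 := by
    intro j
    rw [polar_smul_right, ho _ _ (hk t j).symm, smul_zero]
  -- the two Siegel elements
  have key : ∀ ε : F, g ![e (v 0), e (v 1), w] = g ![e (v 0), e (v 1), w + ε • e (v 2) - (ε * ε * Q (e (v 2))) • u] := by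
    intro ε
    have h0 : polar Q u (ε • e (v 2)) = 0 := by rw [polar_smul_right, huv, smul_zero]
    have h1 := hinv _ (siegel_mem_E hu h0) ![e (v 0), e (v 1), w]
    rw [← h1]
    congr 1
    funext i
    fin_cases i
    · change siegel Q u (ε • e (v 2)) hu h0 (e (v 0)) = e (v 0)
      rw [siegel_apply, huv, polar_smul_left, ho _ _ (fun h => absurd (hv h) (by decide))]
      simp
    · change siegel Q u (ε • e (v 2)) hu h0 (e (v 1)) = e (v 1)
      rw [siegel_apply, huv, polar_smul_left, ho _ _ (fun h => absurd (hv h) (by decide))]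
      simp
    · change siegel Q u (ε • e (v 2)) hu h0 w = _
      rw [siegel_apply, huw, polar_smul_left, hvw, QuadraticMap.map_smul]
      simp
  have k1 := key 1
  have k2 := key (-1)
  have hup : ∀ z : V, Function.update ![e (v 0), e (v 1), 0] 2 z = ![e (v 0), e (v 1), z] := by
    intro z
    funext i
    fin_cases i <;> rfl
  have hadd : ∀ a b : V, g ![e (v 0), e (v 1), a + b] = g ![e (v 0), e (v 1), a] + g ![e (v 0), e (v 1), b] := by
    intro a b
    have := g.map_update_add ![e (v 0), e (v 1), 0] 2 a b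
    rwa [hup, hup, hup] at this
  have hsmul : ∀ (c : F) (a : V), g ![e (v 0), e (v 1), c • a] = c • g ![e (v 0), e (v 1), a] := by
    intro c a
    have := g.map_update_smul ![e (v 0), e (v 1), 0] 2 c a
    rwa [hup, hup] at this
  have e1 : w + (1 : F) • e (v 2) - ((1 : F) * 1 * Q (e (v 2))) • u =
      (w + (-1 : F) • e (v 2) - ((-1 : F) * (-1) * Q (e (v 2))) • u) + (2 : F) • e (v 2) := by
    module
  rw [e1, hadd, ← k2, left_eq_add, hsmul] at k1
  have k3 := (smul_eq_zero.1 k1).resolve_left h2
  rw [← k3]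
  congr 1
  funext i
  fin_cases i <;> rfl

end Cfsg.Agent.H917.Form3
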