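import Mathlib

/-!
# The alternating 3-form on the 8-dimensional principal series of `SL₂(7)` (helper917, row S5827)

`τ : SL₂(7) → GL(V)`, `v₀` an eigenvector of the Borel subgroup with character of order three, such that the eight
translates form a basis: there is exactly one (up to scalars) invariant alternating 3-form.
-/

set_option autoImplicit false

namespace Cfsg.Agent.H917.SL7

open Module Matrix

abbrev Γ := Matrix.SpecialLinearGroup (Fin 2) (ZMod 7)

/-- discrete logarithm modulo three -/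
def ell : ZMod 7 → ℕ := ![0, 0, 2, 1, 1, 2, 0]

/-- quadratic character -/
def leg : ZMod 7 → ℤ := ![0, 1, 1, -1, 1, -1, -1]

def ux (x : ZMod 7) : Γ := ⟨!![1, x; 0, 1], by simp [Matrix.det_fin_two]⟩

def inv7 : ZMod 7 → ZMod 7 := ![0, 1, 4, 5, 2, 3, 6]

theorem mul_inv7 : ∀ t : ZMod 7, t ≠ 0 → t * inv7 t = 1 := by decide

def dt (t : ZMod 7) (ht : t ≠ 0) : Γ := ⟨!![t, 0; 0, inv7 t], by
  rw [Matrix.det_fin_two_of, mul_zero, sub_zero]
  exact mul_inv7 t ht⟩

def pt : Fin 8 → ZMod 7 × ZMod 7 := ![(0, 1), (1, 1), (2, 1), (3, 1), (4, 1), (5, 1), (6, 1), (1, 0)]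

def NN (i : Fin 8) : Γ := ⟨if i = 7 then 1 else !![(pt i).1, -1; 1, 0], by
  revert i; decide⟩

def br (p q : ZMod 7 × ZMod 7) : ZMod 7 := p.1 * q.2 - p.2 * q.1

theorem col_NN : ∀ i, ((NN i : Matrix (Fin 2) (Fin 2) (ZMod 7)) 0 0, (NN i : Matrix (Fin 2) (Fin 2) (ZMod 7)) 1 0) = pt i := by
  decide

theorem exists_pt : ∀ a c : ZMod 7, (a, c) ≠ (0, 0) → ∃ (i : Fin 8) (t : ZMod 7), t ≠ 0 ∧ a = t * (pt i).1 ∧ c = t * (pt i).2 := by
  decide

theorem br_ne : ∀ i j : Fin 8, i ≠ j → br (pt i) (pt j) ≠ 0 := by decide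

theorem exists_sq : ∀ D : ZMod 7, D ≠ 0 → ∃ d, d ≠ 0 ∧ (D = d * d ∨ D = -(d * d)) := by decide

theorem eq_mul_ux {g h : Γ} (h0 : (g : Matrix (Fin 2) (Fin 2) (ZMod 7)) 0 0 = (h : Matrix (Fin 2) (Fin 2) (ZMod 7)) 0 0)
    (h1 : (g : Matrix (Fin 2) (Fin 2) (ZMod 7)) 1 0 = (h : Matrix (Fin 2) (Fin 2) (ZMod 7)) 1 0) : ∃ x, g = h * ux x := by
  set M : Γ := h⁻¹ * g with hM
  have hc : ∀ i, (M : Matrix (Fin 2) (Fin 2) (ZMod 7)) i 0 = (1 : Matrix (Fin 2) (Fin 2) (ZMod 7)) i 0 := by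
    intro i
    have h2 : (1 : Matrix (Fin 2) (Fin 2) (ZMod 7)) = ((h⁻¹ : Γ) : Matrix (Fin 2) (Fin 2) (ZMod 7)) * (h : Matrix (Fin 2) (Fin 2) (ZMod 7)) := by
      rw [← Matrix.SpecialLinearGroup.coe_mul, inv_mul_cancel, Matrix.SpecialLinearGroup.coe_one]
    rw [h2, hM, Matrix.SpecialLinearGroup.coe_mul, Matrix.mul_apply, Matrix.mul_apply, Fin.sum_univ_two, Fin.sum_univ_two,
      h0, h1]
  have hd := M.2
  have c0 : (M : Matrix (Fin 2) (Fin 2) (ZMod 7)) 0 0 = 1 := hc 0
  have c1 : (M : Matrix (Fin 2) (Fin 2) (ZMod 7)) 1 0 = 0 := hc 1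
  rw [Matrix.det_fin_two, c0, c1, mul_zero, sub_zero, one_mul] at hd
  refine ⟨(M : Matrix (Fin 2) (Fin 2) (ZMod 7)) 0 1, ?_⟩
  have h3 : M = ux ((M : Matrix (Fin 2) (Fin 2) (ZMod 7)) 0 1) := by
    apply Subtype.ext
    ext i j
    fin_cases i <;> fin_cases j
    · exact c0
    · rfl
    · exact c1
    · exact hd
  rw [← h3, hM, mul_inv_cancel_left]

/-- the point of a column -/
theorem eq_of_col {g : Γ} {i : Fin 8} {t : ZMod 7} (ht : t ≠ 0)
    (h0 : (g : Matrix (Fin 2) (Fin 2) (ZMod 7)) 0 0 = t * (pt i).1) (h1 : (g : Matrix (Fin 2) (Fin 2) (ZMod 7)) 1 0 = t * (pt i).2) :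
    ∃ x, g = NN i * dt t ht * ux x := by
  have hN0 : (NN i : Matrix (Fin 2) (Fin 2) (ZMod 7)) 0 0 = (pt i).1 := congrArg Prod.fst (col_NN i)
  have hN1 : (NN i : Matrix (Fin 2) (Fin 2) (ZMod 7)) 1 0 = (pt i).2 := congrArg Prod.snd (col_NN i)
  refine eq_mul_ux ?_ ?_
  · rw [h0, Matrix.SpecialLinearGroup.coe_mul, Matrix.mul_apply, Fin.sum_univ_two]
    refine Eq.trans ?_ (congrArg (fun z => z * t + (NN i : Matrix (Fin 2) (Fin 2) (ZMod 7)) 0 1 * 0) hN0.symm)
    ring
  · rw [h1, Matrix.SpecialLinearGroup.coe_mul, Matrix.mul_apply, Fin.sum_univ_two]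
    refine Eq.trans ?_ (congrArg (fun z => z * t + (NN i : Matrix (Fin 2) (Fin 2) (ZMod 7)) 1 1 * 0) hN1.symm)
    ring

variable {K : Type*} [Field K]

/-- the character `χ` with `χ² = λ`, `χ(-1) = -1` -/
def chi (ω : K) (t : ZMod 7) : K := (leg t : K) * ω ^ (2 * ell t)

theorem leg_mul : ∀ a b : ZMod 7, leg (a * b) = leg a * leg b := by decide

theorem leg_neg : ∀ a : ZMod 7, leg (-a) = - leg a := by decide

theorem leg_sq : ∀ a : ZMod 7, a ≠ 0 → leg a * leg a = 1 := by decide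

theorem leg_zero : leg 0 = 0 := rfl

theorem ell_mul : ∀ a b : ZMod 7, a ≠ 0 → b ≠ 0 → (2 * ell (a * b)) % 3 = (2 * ell a + 2 * ell b) % 3 := by decide

theorem ell_neg : ∀ a : ZMod 7, ell (-a) = ell a := by decide

variable {ω : K} (hω : ω ^ 3 = 1)

include hω in
theorem pow_congr {a b : ℕ} (h : a % 3 = b % 3) : ω ^ a = ω ^ b := by
  rw [← Nat.div_add_mod a 3, ← Nat.div_add_mod b 3, pow_add, pow_add, pow_mul, pow_mul, hω, one_pow, one_pow, h]

include hω in
theorem chi_mul (a b : ZMod 7) : chi ω (a * b) = chi ω a * chi ω b := by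
  unfold chi
  by_cases ha : a = 0
  · subst ha; rw [zero_mul, leg_zero]; simp
  by_cases hb : b = 0
  · subst hb; rw [mul_zero, leg_zero]; simp
  rw [leg_mul, pow_congr hω (ell_mul a b ha hb), pow_add]
  push_cast
  ring

theorem chi_neg (a : ZMod 7) : chi ω (-a) = - chi ω a := by
  unfold chi
  rw [leg_neg, ell_neg]
  push_cast
  ring

include hω in
theorem chi_sq {a : ZMod 7} (ha : a ≠ 0) : chi ω a * chi ω a = ω ^ ell a := by
  unfold chi
  have h1 : ((leg a : ℤ) : K) * (leg a : K) = 1 := by rw [← Int.cast_mul, leg_sq a ha, Int.cast_one]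
  calc (leg a : K) * ω ^ (2 * ell a) * ((leg a : K) * ω ^ (2 * ell a))
      = ((leg a : K) * (leg a : K)) * (ω ^ (2 * ell a) * ω ^ (2 * ell a)) := by ring
    _ = ω ^ ell a := by rw [h1, one_mul, ← pow_add]; exact pow_congr hω (by omega)

include hω in
theorem chi_ne {a : ZMod 7} (ha : a ≠ 0) : chi ω a ≠ 0 := by
  intro h
  have h1 := chi_sq hω ha
  rw [h, mul_zero] at h1
  have hω0 : ω ≠ 0 := by
    rintro rfl
    simp at hω
  exact pow_ne_zero _ hω0 h1.symm

theorem chi_zero : chi ω 0 = 0 := by simp [chi, leg_zero]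

/-- the coefficients of the form -/
def FF (ω : K) (i j k : Fin 8) : K := chi ω (br (pt i) (pt j)) * chi ω (br (pt j) (pt k)) * chi ω (br (pt k) (pt i))

theorem br_swap (p q : ZMod 7 × ZMod 7) : br q p = - br p q := by unfold br; ring

theorem FF_swap01 (i j k : Fin 8) : FF ω j i k = - FF ω i j k := by
  unfold FF
  rw [br_swap (pt i) (pt j), br_swap (pt k) (pt i), br_swap (pt j) (pt k), chi_neg, chi_neg, chi_neg]
  ring

theorem FF_swap12 (i j k : Fin 8) : FF ω i k j = - FF ω i j k := by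
  unfold FF
  rw [br_swap (pt k) (pt i), br_swap (pt j) (pt k), br_swap (pt i) (pt j), chi_neg, chi_neg, chi_neg]
  ring

theorem FF_swap02 (i j k : Fin 8) : FF ω k j i = - FF ω i j k := by
  unfold FF
  rw [br_swap (pt j) (pt k), br_swap (pt i) (pt j), br_swap (pt k) (pt i), chi_neg, chi_neg, chi_neg]
  ring

variable {V : Type*} [AddCommGroup V] [Module K V] (B : Basis (Fin 8) K V)

/-- the multilinear form with given coefficients -/
noncomputable def mf (F : Fin 8 → Fin 8 → Fin 8 → K) : MultilinearMap K (fun _ : Fin 3 => V) K :=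
  ∑ i, ∑ j, ∑ k, F i j k • (MultilinearMap.mkPiAlgebra K (Fin 3) K).compLinearMap ![B.coord i, B.coord j, B.coord k]

theorem mf_apply (F : Fin 8 → Fin 8 → Fin 8 → K) (v : Fin 3 → V) :
    mf B F v = ∑ i, ∑ j, ∑ k, F i j k * (B.coord i (v 0) * B.coord j (v 1) * B.coord k (v 2)) := by
  simp only [mf, _root_.sum_apply, _root_.smul_apply, MultilinearMap.compLinearMap_apply,
    MultilinearMap.mkPiAlgebra_apply, Fin.prod_univ_three, smul_eq_mul]
  rfl

theorem mf_basis (F : Fin 8 → Fin 8 → Fin 8 → K) (i j k : Fin 8) :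
    mf B F ![B i, B j, B k] = F i j k := by
  rw [mf_apply]
  simp [Finsupp.single_apply, Finset.sum_ite_eq]

theorem mf_eq_zero (h2 : (2 : K) ≠ 0) {F : Fin 8 → Fin 8 → Fin 8 → K} (h01 : ∀ i j k, F j i k = - F i j k)
    (h12 : ∀ i j k, F i k j = - F i j k) (h02 : ∀ i j k, F k j i = - F i j k) {v : Fin 3 → V} {i j : Fin 3}
    (hv : v i = v j) (hij : i ≠ j) : mf B F v = 0 := by
  have two : ∀ x : K, x = -x → x = 0 := by
    intro x hx
    have h3 : 2 * x = 0 := by linear_combination hx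
    exact (mul_eq_zero.1 h3).resolve_left h2
  have c01 : v 0 = v 1 → mf B F v = 0 := by
    intro h
    apply two
    rw [mf_apply, h]
    calc ∑ i, ∑ j, ∑ k, F i j k * (B.coord i (v 1) * B.coord j (v 1) * B.coord k (v 2))
        = ∑ i, ∑ j, ∑ k, F j i k * (B.coord j (v 1) * B.coord i (v 1) * B.coord k (v 2)) := Finset.sum_comm
      _ = ∑ i, ∑ j, ∑ k, -(F i j k * (B.coord i (v 1) * B.coord j (v 1) * B.coord k (v 2))) := by
          refine Finset.sum_congr rfl fun i _ => Finset.sum_congr rfl fun j _ => Finset.sum_congr rfl fun k _ => ?_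
          rw [h01]; ring
      _ = _ := by simp only [Finset.sum_neg_distrib]
  have c12 : v 1 = v 2 → mf B F v = 0 := by
    intro h
    apply two
    rw [mf_apply, h]
    calc ∑ i, ∑ j, ∑ k, F i j k * (B.coord i (v 0) * B.coord j (v 2) * B.coord k (v 2))
        = ∑ i, ∑ j, ∑ k, F i k j * (B.coord i (v 0) * B.coord k (v 2) * B.coord j (v 2)) :=
          Finset.sum_congr rfl fun i _ => Finset.sum_comm
      _ = ∑ i, ∑ j, ∑ k, -(F i j k * (B.coord i (v 0) * B.coord j (v 2) * B.coord k (v 2))) := by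
          refine Finset.sum_congr rfl fun i _ => Finset.sum_congr rfl fun j _ => Finset.sum_congr rfl fun k _ => ?_
          rw [h12]; ring
      _ = _ := by simp only [Finset.sum_neg_distrib]
  have c02 : v 0 = v 2 → mf B F v = 0 := by
    intro h
    apply two
    rw [mf_apply, h]
    calc ∑ i, ∑ j, ∑ k, F i j k * (B.coord i (v 2) * B.coord j (v 1) * B.coord k (v 2))
        = ∑ j, ∑ i, ∑ k, F i j k * (B.coord i (v 2) * B.coord j (v 1) * B.coord k (v 2)) := Finset.sum_comm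
      _ = ∑ j, ∑ i, ∑ k, F k j i * (B.coord k (v 2) * B.coord j (v 1) * B.coord i (v 2)) :=
          Finset.sum_congr rfl fun j _ => Finset.sum_comm
      _ = ∑ i, ∑ j, ∑ k, F k j i * (B.coord k (v 2) * B.coord j (v 1) * B.coord i (v 2)) := Finset.sum_comm
      _ = ∑ i, ∑ j, ∑ k, -(F i j k * (B.coord i (v 2) * B.coord j (v 1) * B.coord k (v 2))) := by
          refine Finset.sum_congr rfl fun i _ => Finset.sum_congr rfl fun j _ => Finset.sum_congr rfl fun k _ => ?_
          rw [h02]; ring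
      _ = _ := by simp only [Finset.sum_neg_distrib]
  fin_cases i <;> fin_cases j
  · exact absurd rfl hij
  · exact c01 hv
  · exact c02 hv
  · exact c01 hv.symm
  · exact absurd rfl hij
  · exact c12 hv
  · exact c02 hv.symm
  · exact c12 hv.symm
  · exact absurd rfl hij

/-- the alternating form -/
noncomputable def af (h2 : (2 : K) ≠ 0) (ω : K) : V [⋀^Fin 3]→ₗ[K] K :=
  { mf B (FF ω) with
    map_eq_zero_of_eq' := fun _ _ _ hv hij => mf_eq_zero B h2 FF_swap01 FF_swap12 FF_swap02 hv hij }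

theorem af_apply (h2 : (2 : K) ≠ 0) (ω : K) (i j k : Fin 8) : af B h2 ω ![B i, B j, B k] = FF ω i j k :=
  mf_basis B _ i j k

/-! ### Invariance -/

variable {τ : Γ →* Module.End K V} {v₀ : V}

section

variable (hB : ∀ i, B i = τ (NN i) v₀) (hU : ∀ x, τ (ux x) v₀ = v₀) (hD : ∀ t (ht : t ≠ 0), τ (dt t ht) v₀ = ω ^ ell t • v₀)

include hB hU hD

theorem act_of_col {g : Γ} {i : Fin 8} {t : ZMod 7} (ht : t ≠ 0)
    (h0 : (g : Matrix (Fin 2) (Fin 2) (ZMod 7)) 0 0 = t * (pt i).1) (h1 : (g : Matrix (Fin 2) (Fin 2) (ZMod 7)) 1 0 = t * (pt i).2) :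
    τ g v₀ = ω ^ ell t • B i := by
  obtain ⟨x, rfl⟩ := eq_of_col ht h0 h1
  rw [map_mul, map_mul, Module.End.mul_apply, Module.End.mul_apply, hU, hD, map_smul, hB]

/-- action on the basis -/
theorem act_basis (g : Γ) (i : Fin 8) : ∃ (j : Fin 8) (t : ZMod 7), t ≠ 0 ∧
    (g : Matrix (Fin 2) (Fin 2) (ZMod 7)) 0 0 * (pt i).1 + (g : Matrix (Fin 2) (Fin 2) (ZMod 7)) 0 1 * (pt i).2 = t * (pt j).1 ∧
    (g : Matrix (Fin 2) (Fin 2) (ZMod 7)) 1 0 * (pt i).1 + (g : Matrix (Fin 2) (Fin 2) (ZMod 7)) 1 1 * (pt i).2 = t * (pt j).2 ∧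
    τ g (B i) = ω ^ ell t • B j := by
  have hN0 : (NN i : Matrix (Fin 2) (Fin 2) (ZMod 7)) 0 0 = (pt i).1 := congrArg Prod.fst (col_NN i)
  have hN1 : (NN i : Matrix (Fin 2) (Fin 2) (ZMod 7)) 1 0 = (pt i).2 := congrArg Prod.snd (col_NN i)
  have e0 : ((g * NN i : Γ) : Matrix (Fin 2) (Fin 2) (ZMod 7)) 0 0 =
      (g : Matrix (Fin 2) (Fin 2) (ZMod 7)) 0 0 * (pt i).1 + (g : Matrix (Fin 2) (Fin 2) (ZMod 7)) 0 1 * (pt i).2 := by
    rw [Matrix.SpecialLinearGroup.coe_mul, Matrix.mul_apply, Fin.sum_univ_two, hN0, hN1]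
  have e1 : ((g * NN i : Γ) : Matrix (Fin 2) (Fin 2) (ZMod 7)) 1 0 =
      (g : Matrix (Fin 2) (Fin 2) (ZMod 7)) 1 0 * (pt i).1 + (g : Matrix (Fin 2) (Fin 2) (ZMod 7)) 1 1 * (pt i).2 := by
    rw [Matrix.SpecialLinearGroup.coe_mul, Matrix.mul_apply, Fin.sum_univ_two, hN0, hN1]
  have hne : (((g * NN i : Γ) : Matrix (Fin 2) (Fin 2) (ZMod 7)) 0 0, ((g * NN i : Γ) : Matrix (Fin 2) (Fin 2) (ZMod 7)) 1 0) ≠ (0, 0) := by
    intro h
    have hd := (g * NN i).2
    rw [Matrix.det_fin_two] at hd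
    have z0 := congrArg Prod.fst h
    have z1 := congrArg Prod.snd h
    simp only at z0 z1
    rw [z0, z1, zero_mul, mul_zero, sub_zero] at hd
    exact absurd hd (by decide)
  obtain ⟨j, t, ht, ha, hc⟩ := exists_pt _ _ hne
  refine ⟨j, t, ht, e0 ▸ ha, e1 ▸ hc, ?_⟩
  rw [hB i, ← Module.End.mul_apply, ← map_mul]
  exact act_of_col B hB hU hD ht ha hc

omit hB hU hD in
theorem lam_smul (f : V [⋀^Fin 3]→ₗ[K] K) (a b c : K) (x y z : V) :
    f ![a • x, b • y, c • z] = a * b * c * f ![x, y, z] := by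
  have h := f.toMultilinearMap.map_smul_univ ![a, b, c] ![x, y, z]
  rw [Fin.prod_univ_three] at h
  refine Eq.trans ?_ h
  change f _ = f _
  congr 1
  funext i
  fin_cases i <;> rfl

include hω in
/-- **The form is invariant.** -/
theorem af_inv (h2 : (2 : K) ≠ 0) (g : Γ) : (af B h2 ω).compLinearMap (τ g) = af B h2 ω := by
  refine Basis.ext_alternating B fun v _ => ?_
  obtain ⟨i', r, hr, a1, a2, a3⟩ := act_basis B hB hU hD g (v 0)
  obtain ⟨j', s, hs, b1, b2, b3⟩ := act_basis B hB hU hD g (v 1)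
  obtain ⟨k', t, ht, c1, c2, c3⟩ := act_basis B hB hU hD g (v 2)
  have e1 : (fun i => B (v i)) = ![B (v 0), B (v 1), B (v 2)] := by
    funext i
    fin_cases i <;> rfl
  have e2 : (af B h2 ω).compLinearMap (τ g) ![B (v 0), B (v 1), B (v 2)] =
      af B h2 ω ![ω ^ ell r • B i', ω ^ ell s • B j', ω ^ ell t • B k'] := by
    rw [AlternatingMap.compLinearMap_apply]
    congr 1
    funext i
    fin_cases i
    · exact a3
    · exact b3
    · exact c3
  rw [e1, e2, lam_smul, af_apply, af_apply]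
  have hd := g.2
  rw [Matrix.det_fin_two] at hd
  set m00 := (g : Matrix (Fin 2) (Fin 2) (ZMod 7)) 0 0
  set m01 := (g : Matrix (Fin 2) (Fin 2) (ZMod 7)) 0 1
  set m10 := (g : Matrix (Fin 2) (Fin 2) (ZMod 7)) 1 0
  set m11 := (g : Matrix (Fin 2) (Fin 2) (ZMod 7)) 1 1
  have k1 : br (pt (v 0)) (pt (v 1)) = r * s * br (pt i') (pt j') := by
    have : r * s * br (pt i') (pt j') = (r * (pt i').1) * (s * (pt j').2) - (r * (pt i').2) * (s * (pt j').1) := by
      unfold br; ring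
    rw [this, ← a1, ← a2, ← b1, ← b2]
    unfold br
    linear_combination -((pt (v 0)).1 * (pt (v 1)).2 - (pt (v 0)).2 * (pt (v 1)).1) * hd
  have k2 : br (pt (v 1)) (pt (v 2)) = s * t * br (pt j') (pt k') := by
    have : s * t * br (pt j') (pt k') = (s * (pt j').1) * (t * (pt k').2) - (s * (pt j').2) * (t * (pt k').1) := by
      unfold br; ring
    rw [this, ← b1, ← b2, ← c1, ← c2]
    unfold br
    linear_combination -((pt (v 1)).1 * (pt (v 2)).2 - (pt (v 1)).2 * (pt (v 2)).1) * hd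
  have k3 : br (pt (v 2)) (pt (v 0)) = t * r * br (pt k') (pt i') := by
    have : t * r * br (pt k') (pt i') = (t * (pt k').1) * (r * (pt i').2) - (t * (pt k').2) * (r * (pt i').1) := by
      unfold br; ring
    rw [this, ← c1, ← c2, ← a1, ← a2]
    unfold br
    linear_combination -((pt (v 2)).1 * (pt (v 0)).2 - (pt (v 2)).2 * (pt (v 0)).1) * hd
  unfold FF
  rw [k1, k2, k3, chi_mul hω, chi_mul hω, chi_mul hω, chi_mul hω, chi_mul hω, chi_mul hω, ← chi_sq hω hr, ← chi_sq hω hs,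
    ← chi_sq hω ht]
  ring

omit hB hU hD in
include hω in
theorem af_ne (h2 : (2 : K) ≠ 0) : af B h2 ω ≠ 0 := by
  intro h
  have h1 := af_apply B h2 ω 7 0 1
  rw [h, AlternatingMap.zero_apply] at h1
  have h3 : FF ω 7 0 1 ≠ 0 := by
    unfold FF
    exact mul_ne_zero (mul_ne_zero (chi_ne hω (by decide)) (chi_ne hω (by decide))) (chi_ne hω (by decide))
  exact h3 h1.symm

/-- **Uniqueness**: an invariant form vanishing at the base triple is zero. -/
theorem eq_zero_of_inv (hω0 : ω ≠ 0) (f : V [⋀^Fin 3]→ₗ[K] K) (hf : ∀ g, f.compLinearMap (τ g) = f)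
    (h0 : f ![B 7, B 0, B 1] = 0) : f = 0 := by
  refine Basis.ext_alternating B fun v hv => ?_
  rw [AlternatingMap.zero_apply]
  have e1 : (fun i => B (v i)) = ![B (v 0), B (v 1), B (v 2)] := by
    funext i
    fin_cases i <;> rfl
  rw [e1]
  -- key: from a matrix
  have key : ∀ (g : Γ) (i j k : Fin 8) (r s t : ZMod 7), r ≠ 0 → s ≠ 0 → t ≠ 0 →
      (g : Matrix (Fin 2) (Fin 2) (ZMod 7)) 0 0 = r * (pt i).1 → (g : Matrix (Fin 2) (Fin 2) (ZMod 7)) 1 0 = r * (pt i).2 →
      (g : Matrix (Fin 2) (Fin 2) (ZMod 7)) 0 1 = s * (pt j).1 → (g : Matrix (Fin 2) (Fin 2) (ZMod 7)) 1 1 = s * (pt j).2 →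
      (g : Matrix (Fin 2) (Fin 2) (ZMod 7)) 0 0 + (g : Matrix (Fin 2) (Fin 2) (ZMod 7)) 0 1 = t * (pt k).1 →
      (g : Matrix (Fin 2) (Fin 2) (ZMod 7)) 1 0 + (g : Matrix (Fin 2) (Fin 2) (ZMod 7)) 1 1 = t * (pt k).2 →
      f ![B i, B j, B k] = 0 := by
    intro g i j k r s t hr hs ht g00 g10 g01 g11 p0 p1
    have a1 : τ g (B 7) = ω ^ ell r • B i := by
      rw [hB 7, ← Module.End.mul_apply, ← map_mul]
      refine act_of_col B hB hU hD hr ?_ ?_
      · rw [Matrix.SpecialLinearGroup.coe_mul, Matrix.mul_apply, Fin.sum_univ_two, g00]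
        change _ * 1 + _ * 0 = _
        ring
      · rw [Matrix.SpecialLinearGroup.coe_mul, Matrix.mul_apply, Fin.sum_univ_two, g10]
        change _ * 1 + _ * 0 = _
        ring
    have a2 : τ g (B 0) = ω ^ ell s • B j := by
      rw [hB 0, ← Module.End.mul_apply, ← map_mul]
      refine act_of_col B hB hU hD hs ?_ ?_
      · rw [Matrix.SpecialLinearGroup.coe_mul, Matrix.mul_apply, Fin.sum_univ_two, g01]
        change _ * 0 + _ * 1 = _
        ring
      · rw [Matrix.SpecialLinearGroup.coe_mul, Matrix.mul_apply, Fin.sum_univ_two, g11]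
        change _ * 0 + _ * 1 = _
        ring
    have a3 : τ g (B 1) = ω ^ ell t • B k := by
      rw [hB 1, ← Module.End.mul_apply, ← map_mul]
      refine act_of_col B hB hU hD ht ?_ ?_
      · rw [Matrix.SpecialLinearGroup.coe_mul, Matrix.mul_apply, Fin.sum_univ_two, ← p0]
        change _ * 1 + _ * 1 = _
        ring
      · rw [Matrix.SpecialLinearGroup.coe_mul, Matrix.mul_apply, Fin.sum_univ_two, ← p1]
        change _ * 1 + _ * 1 = _
        ring
    have h3 : f.compLinearMap (τ g) ![B 7, B 0, B 1] = 0 := by rw [hf, h0]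
    have e2 : f.compLinearMap (τ g) ![B 7, B 0, B 1] = f ![ω ^ ell r • B i, ω ^ ell s • B j, ω ^ ell t • B k] := by
      rw [AlternatingMap.compLinearMap_apply]
      congr 1
      funext i
      fin_cases i
      · exact a1
      · exact a2
      · exact a3
    rw [e2, lam_smul] at h3
    exact (mul_eq_zero.1 h3).resolve_left (mul_ne_zero (mul_ne_zero (pow_ne_zero _ hω0) (pow_ne_zero _ hω0))
      (pow_ne_zero _ hω0))
  -- the matrix
  set p := pt (v 0)
  set q := pt (v 1)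
  set r := pt (v 2)
  have hpq : br p q ≠ 0 := br_ne _ _ (fun h => absurd (hv h) (by decide))
  have hrq : br r q ≠ 0 := br_ne _ _ (fun h => absurd (hv h) (by decide))
  have hpr : br p r ≠ 0 := br_ne _ _ (fun h => absurd (hv h) (by decide))
  set c := inv7 (br p q)
  have hc : br p q * c = 1 := mul_inv7 _ hpq
  have hc0 : c ≠ 0 := by
    intro h
    rw [h, mul_zero] at hc
    exact absurd hc (by decide)
  have id1 : br r q * p.1 + br p r * q.1 = br p q * r.1 := by unfold br; ring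
  have id2 : br r q * p.2 + br p r * q.2 = br p q * r.2 := by unfold br; ring
  have nz : ∀ a b : ZMod 7, a ≠ 0 → b ≠ 0 → a * b ≠ 0 := by decide
  have hα : br r q * c ≠ 0 := nz _ _ hrq hc0
  have hβ : br p r * c ≠ 0 := nz _ _ hpr hc0
  obtain ⟨d, hd0, hd⟩ := exists_sq (br r q * c * (br p r * c) * br p q) (nz _ _ (nz _ _ hα hβ) hpq)
  set e := inv7 d
  have he : d * e = 1 := mul_inv7 _ hd0
  have he0 : e ≠ 0 := by
    intro h
    rw [h, mul_zero] at he
    exact absurd he (by decide)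
  rcases hd with hd | hd
  · let g : Γ := ⟨!![br r q * c * e * p.1, br p r * c * e * q.1; br r q * c * e * p.2, br p r * c * e * q.2], by
      rw [Matrix.det_fin_two_of]
      have : br r q * c * e * p.1 * (br p r * c * e * q.2) - br p r * c * e * q.1 * (br r q * c * e * p.2) =
        (br r q * c * (br p r * c) * br p q) * (e * e) := by
        conv_rhs => rw [show br p q = p.1 * q.2 - p.2 * q.1 from rfl]
        ring
      rw [this, hd]
      linear_combination (d * e + 1) * he⟩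
    refine key g (v 0) (v 1) (v 2) (br r q * c * e) (br p r * c * e) e (nz _ _ hα he0) (nz _ _ hβ he0) he0 rfl rfl rfl rfl
      ?_ ?_
    · change br r q * c * e * p.1 + br p r * c * e * q.1 = e * r.1
      linear_combination c * e * id1 + e * r.1 * hc
    · change br r q * c * e * p.2 + br p r * c * e * q.2 = e * r.2
      linear_combination c * e * id2 + e * r.2 * hc
  · let g : Γ := ⟨!![br p r * c * e * q.1, br r q * c * e * p.1; br p r * c * e * q.2, br r q * c * e * p.2], by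
      rw [Matrix.det_fin_two_of]
      have : br p r * c * e * q.1 * (br r q * c * e * p.2) - br r q * c * e * p.1 * (br p r * c * e * q.2) =
        -(br r q * c * (br p r * c) * br p q) * (e * e) := by
        conv_rhs => rw [show br p q = p.1 * q.2 - p.2 * q.1 from rfl]
        ring
      rw [this, hd]
      linear_combination (d * e + 1) * he⟩
    have h3 : f ![B (v 1), B (v 0), B (v 2)] = 0 := by
      refine key g (v 1) (v 0) (v 2) (br p r * c * e) (br r q * c * e) e (nz _ _ hβ he0) (nz _ _ hα he0) he0 rfl rfl rfl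
        rfl ?_ ?_
      · change br p r * c * e * q.1 + br r q * c * e * p.1 = e * r.1
        linear_combination c * e * id1 + e * r.1 * hc
      · change br p r * c * e * q.2 + br r q * c * e * p.2 = e * r.2
        linear_combination c * e * id2 + e * r.2 * hc
    have h4 := f.map_swap ![B (v 1), B (v 0), B (v 2)] (i := 0) (j := 1) (by decide)
    rw [h3, neg_zero] at h4
    rw [← h4]
    congr 1
    funext i
    fin_cases i <;> rfl

include hω in
/-- **Invariant alternating 3-forms**: exactly one up to scalars. -/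
theorem exists_unique (h2 : (2 : K) ≠ 0) : ∃ f : V [⋀^Fin 3]→ₗ[K] K, f ≠ 0 ∧ (∀ g, f.compLinearMap (τ g) = f) ∧
    ∀ f' : V [⋀^Fin 3]→ₗ[K] K, (∀ g, f'.compLinearMap (τ g) = f') → ∃ c : K, f' = c • f := by
  have hω0 : ω ≠ 0 := by
    rintro rfl
    simp at hω
  have hne := af_ne hω B h2
  have hinv := af_inv hω B hB hU hD h2
  refine ⟨af B h2 ω, hne, hinv, fun f' hf' => ?_⟩
  have h3 : af B h2 ω ![B 7, B 0, B 1] ≠ 0 := by
    intro h
    exact hne (eq_zero_of_inv B hB hU hD hω0 _ hinv h)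
  refine ⟨f' ![B 7, B 0, B 1] / af B h2 ω ![B 7, B 0, B 1], ?_⟩
  rw [← sub_eq_zero]
  refine eq_zero_of_inv B hB hU hD hω0 _ (fun g => ?_) ?_
  · ext x
    have h4 := congrArg (fun f => f x) (hinv g)
    have h5 := congrArg (fun f => f x) (hf' g)
    simp only [AlternatingMap.compLinearMap_apply] at h4 h5
    rw [AlternatingMap.compLinearMap_apply, AlternatingMap.sub_apply, AlternatingMap.sub_apply, AlternatingMap.smul_apply,
      AlternatingMap.smul_apply]
    rw [h4, h5]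
  · rw [AlternatingMap.sub_apply, AlternatingMap.smul_apply, smul_eq_mul, div_mul_cancel₀ _ h3, sub_self]

end

end Cfsg.Agent.H917.SL7
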