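import Cfsg.Agent.H24.Om.L27
import Cfsg.Agent.H917.OmSL7

/-!
# `PSL₂(7)` in `Ω₈⁻(q)`, `p ≥ 5`: the invariant 3-form (helper917, row S5827)
-/

set_option autoImplicit false
set_option linter.unusedSectionVars false

namespace Cfsg.Agent.H917.L27

open Matrix Module
open Cfsg.Agent.H917.Om Cfsg.Agent.H637.JW
open Cfsg.Agent.H24.Om (tau uu weights_l27 no_borel_fixed four_ne_zero' uu_pow)
open Cfsg.Agent.H871.Par (ut dg ut_mul)
open Cfsg.Agent.H917.SL7 (ux dt NN ell pt exists_unique eq_of_col exists_pt)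

universe u v w

instance : Fact (Nat.Prime 7) := ⟨by norm_num⟩

abbrev T7 := Matrix.ProjectiveSpecialLinearGroup (Fin 2) (ZMod 7)

theorem ux_eq (x : ZMod 7) : ux x = ut x := rfl

theorem dt_eq (t : ZMod 7) (ht : t ≠ 0) : dt t ht = dg t ht := by
  apply Subtype.ext
  change !![t, 0; 0, SL7.inv7 t] = !![t, 0; 0, t⁻¹]
  rw [eq_inv_of_mul_eq_one_right (SL7.mul_inv7 t ht)]

theorem z1 : (1 : ZMod 7) ≠ 0 := by decide
theorem z2 : (2 : ZMod 7) ≠ 0 := by decide
theorem z3 : (3 : ZMod 7) ≠ 0 := by decide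
theorem z4 : (4 : ZMod 7) ≠ 0 := by decide
theorem z5 : (5 : ZMod 7) ≠ 0 := by decide
theorem z6 : (6 : ZMod 7) ≠ 0 := by decide

theorem e1 : ux 1 * dt 4 z4 = dt 4 z4 * ux 4 := by decide
theorem e2 : dt 4 z4 * (dt 4 z4 * dt 4 z4) = 1 := by decide
theorem e3 : dt 2 z2 = dt 4 z4 * dt 4 z4 := by decide
theorem e4 : dt 1 z1 = 1 := by decide
theorem e5 : dt 3 z3 = dt 6 z6 * dt 4 z4 := by decide
theorem e6 : dt 5 z5 = dt 6 z6 * dt 2 z2 := by decide

variable {F : Type u} [Field F] [Fintype F] (h : OC F T7)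

/-- eigenvector of the Borel subgroup -/
theorem exists_eig (h3 : (3 : F) ≠ 0) (h7 : (7 : F) ≠ 0) : ∃ (ω : AlgebraicClosure F) (v : Fin 8 → AlgebraicClosure F),
    ω ^ 3 = 1 ∧ ω ≠ 1 ∧ v ≠ 0 ∧ (∀ x, tau h (ux x) v = v) ∧ ∀ t (ht : t ≠ 0), tau h (dt t ht) v = ω ^ ell t • v := by
  have hK : Fintype.card (ZMod 7) = 7 := ZMod.card 7
  have h7' : ((7 : ℕ) : AlgebraicClosure F) ≠ 0 := H24.Om.cast_ne_zero (by exact_mod_cast h7)
  obtain ⟨ζ, hζ⟩ := exists_root (K := AlgebraicClosure F) (N := 7) h7'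
  have hW := (weights_l27 hK h h7 hζ).2
  set U := W 7 ζ (fun k => h.σ ((![uu] : Fin 1 → T7) k)) ![0] with hU
  have hmem : ∀ w, w ∈ U ↔ tau h (ux 1) w = w := by
    intro w
    rw [hU, mem_W]
    constructor
    · intro hw
      have := hw 0
      change h.σ uu w = ζ ^ (0 : ZMod 7).val • w at this
      rw [ZMod.val_zero, pow_zero, one_smul] at this
      exact this
    · intro hw k
      rw [Subsingleton.elim k 0]
      change h.σ uu w = ζ ^ (0 : ZMod 7).val • w
      rw [ZMod.val_zero, pow_zero, one_smul]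
      exact hw
  have hpow : ∀ (w : Fin 8 → AlgebraicClosure F), tau h (ux 1) w = w → ∀ x, tau h (ux x) w = w := by
    intro w hw x
    have h1 : ux x = ux 1 ^ x.val := by
      rw [ux_eq, ux_eq, H24.Om.ut_pow, mul_one, ZMod.natCast_val, ZMod.cast_id]
    have h2 : ∀ n : ℕ, tau h (ux 1 ^ n) w = w := by
      intro n
      induction n with
      | zero => rw [pow_zero, map_one, Module.End.one_apply]
      | succ n ih => rw [pow_succ, map_mul, Module.End.mul_apply, hw, ih]
    rw [h1, h2]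
  have hs : ∀ w ∈ U, tau h (dt 4 z4) w ∈ U := by
    intro w hw
    rw [hmem] at hw ⊢
    rw [← Module.End.mul_apply, ← map_mul, e1, map_mul, Module.End.mul_apply, hpow w hw]
  have : Nontrivial U := by
    apply Module.nontrivial_of_finrank_pos (R := AlgebraicClosure F)
    rw [hW]; norm_num
  obtain ⟨ω, hω⟩ := Module.End.exists_eigenvalue ((tau h (dt 4 z4)).restrict hs)
  obtain ⟨v, hv⟩ := hω.exists_hasEigenvector
  have hv0 : (v : Fin 8 → AlgebraicClosure F) ≠ 0 := fun h0 => hv.2 (Subtype.ext h0)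
  have hv1 : tau h (dt 4 z4) v.1 = ω • v.1 := congrArg Subtype.val hv.apply_eq_smul
  have hvU : ∀ x, tau h (ux x) v.1 = v.1 := hpow _ ((hmem _).1 v.2)
  have hcube : ω ^ 3 = 1 := by
    have h1 : tau h (dt 4 z4 * (dt 4 z4 * dt 4 z4)) v.1 = v.1 := by
      rw [e2, map_one, Module.End.one_apply]
    rw [map_mul, map_mul, Module.End.mul_apply, Module.End.mul_apply, hv1, map_smul, map_smul, hv1, map_smul, hv1,
      smul_smul, smul_smul] at h1
    have h2 : (ω * ω * ω - 1) • v.1 = 0 := by rw [sub_smul, h1, one_smul, sub_self]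
    have h3 := (smul_eq_zero.1 h2).resolve_right hv0
    linear_combination h3
  refine ⟨ω, v.1, hcube, ?_, hv0, hvU, ?_⟩
  · rintro rfl
    apply hv0
    refine no_borel_fixed hK h ?_ ?_
    · exact hvU 1
    · rw [one_smul, dt_eq] at hv1
      exact hv1
  · have hc : ∀ (g : SL7.Γ), g ∈ Subgroup.center SL7.Γ → ∀ w, tau h g w = w := by
      intro g hg w
      rw [H24.Om.tau_center h hg, Module.End.one_apply]
    have hm1 : ∀ w, tau h (dt 6 z6) w = w := by
      intro w
      refine hc _ ?_ w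
      rw [dt_eq]
      exact H24.Om.dg_neg_one_mem
    have d2 : tau h (dt 2 z2) v.1 = ω ^ 2 • v.1 := by
      rw [e3, map_mul, Module.End.mul_apply, hv1, map_smul, hv1,
        smul_smul, pow_two]
    intro t ht
    have key : ∀ t : ZMod 7, t ≠ 0 → t = 1 ∨ t = 2 ∨ t = 3 ∨ t = 4 ∨ t = 5 ∨ t = 6 := by decide
    rcases key t ht with rfl | rfl | rfl | rfl | rfl | rfl
    · rw [e4, map_one, Module.End.one_apply, show ell 1 = 0 from rfl, pow_zero, one_smul]
    · exact d2
    · rw [e5, map_mul, Module.End.mul_apply, hm1, hv1,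
        show ell 3 = 1 from rfl, pow_one]
    · rw [hv1, show ell 4 = 1 from rfl, pow_one]
    · rw [e6, map_mul, Module.End.mul_apply, hm1, d2,
        show ell 5 = 2 from rfl]
    · rw [hm1, show ell 6 = 0 from rfl, pow_zero, one_smul]

/-- **The invariant alternating 3-form**, unique up to scalars. -/
theorem exists_form (h2 : (2 : F) ≠ 0) (h3 : (3 : F) ≠ 0) (h7 : (7 : F) ≠ 0) :
    ∃ f : (Fin 8 → AlgebraicClosure F) [⋀^Fin 3]→ₗ[AlgebraicClosure F] AlgebraicClosure F, f ≠ 0 ∧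
      (∀ t, f.compLinearMap (h.σ t) = f) ∧
      ∀ f' : (Fin 8 → AlgebraicClosure F) [⋀^Fin 3]→ₗ[AlgebraicClosure F] AlgebraicClosure F,
        (∀ t, f'.compLinearMap (h.σ t) = f') → ∃ c : AlgebraicClosure F, f' = c • f := by
  obtain ⟨ω, v, hω, -, hv0, hU, hD⟩ := exists_eig h h3 h7
  have h2' : (2 : AlgebraicClosure F) ≠ 0 := by
    have := H24.Om.cast_ne_zero (F := F) (n := 2) (by exact_mod_cast h2)
    exact_mod_cast this
  let b : Fin 8 → (Fin 8 → AlgebraicClosure F) := fun i => tau h (NN i) v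
  have hspan : Submodule.span (AlgebraicClosure F) (Set.range b) = ⊤ := by
    rw [eq_top_iff, ← h.span_orbit hv0, Submodule.span_le]
    rintro _ ⟨t, rfl⟩
    obtain ⟨g, rfl⟩ := QuotientGroup.mk_surjective t
    have hne : ((g : Matrix (Fin 2) (Fin 2) (ZMod 7)) 0 0, (g : Matrix (Fin 2) (Fin 2) (ZMod 7)) 1 0) ≠ (0, 0) := by
      intro h0
      have hd := g.2
      rw [Matrix.det_fin_two] at hd
      have z0 := congrArg Prod.fst h0
      have z1 := congrArg Prod.snd h0
      simp only at z0 z1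
      rw [z0, z1, zero_mul, mul_zero, sub_zero] at hd
      exact absurd hd (by decide)
    obtain ⟨i, r, hr, a0, a1⟩ := exists_pt _ _ hne
    obtain ⟨x, rfl⟩ := eq_of_col hr a0 a1
    change tau h (NN i * dt r hr * ux x) v ∈ _
    rw [map_mul, map_mul, Module.End.mul_apply, Module.End.mul_apply, hU, hD, map_smul]
    exact Submodule.smul_mem _ _ (Submodule.subset_span ⟨i, rfl⟩)
  have hli : LinearIndependent (AlgebraicClosure F) b :=
    linearIndependent_of_top_le_span_of_card_eq_finrank hspan.ge (by rw [Module.finrank_fin_fun, Fintype.card_fin])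
  let B : Basis (Fin 8) (AlgebraicClosure F) (Fin 8 → AlgebraicClosure F) := Basis.mk hli hspan.ge
  have hB : ∀ i, B i = tau h (NN i) v := fun i => Basis.mk_apply _ _ _
  obtain ⟨f, hf0, hf, hfu⟩ := exists_unique hω B hB hU hD h2'
  refine ⟨f, hf0, fun t => ?_, fun f' hf' => hfu f' fun g => hf' (QuotientGroup.mk g)⟩
  obtain ⟨g, rfl⟩ := QuotientGroup.mk_surjective t
  exact hf g

end Cfsg.Agent.H917.L27
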