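import Cfsg.Agent.H917.OmBase
import Cfsg.Agent.H917.OmForm3
import Cfsg.Agent.H883.Bridge

/-!
# Unique invariant alternating 3-forms and maximal subgroups of `Ω(Q)` (helper917, row S5827)

`mem_of_form` : if `T ≤ H`, `H` maximal in `Ω(Q)` normalizes `T`, `f` is the unique `T`-invariant alternating 3-form, then
every element of `Ω(Q)` fixing `f` lies in `H`.
-/

set_option autoImplicit false
set_option linter.unusedSectionVars false

namespace Cfsg.Agent.H917.Form3

open Cfsg Cfsg.Geo Module Matrix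
open Cfsg.Agent.H917.Om Cfsg.Agent.H637.JW
open Cfsg.Agent.LieClassical.OrthCore Cfsg.Agent.LieClassical.OrthTrans Cfsg.Agent.LieClassical.OrthFinite
open scoped commutatorElement

universe u v

variable {F : Type u} [Field F]

/-- matrices over the closure -/
noncomputable def ac : GL (Fin 8) F →* Module.End (AlgebraicClosure F) (Fin 8 → AlgebraicClosure F) :=
  ext (MonoidHom.id _) (AlgebraicClosure F)

theorem ac_apply (g : GL (Fin 8) F) (v : Fin 8 → AlgebraicClosure F) :
    ac g v = ((g : Matrix (Fin 8) (Fin 8) F).map (algebraMap F (AlgebraicClosure F))) *ᵥ v := rfl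

theorem ac_rho {T : Type v} [Group T] (h : OC F T) (t : T) : ac (h.ρ t) = h.σ t := rfl

/-- coordinatewise inclusion -/
noncomputable def inc : (Fin 8 → F) →ₗ[F] (Fin 8 → AlgebraicClosure F) where
  toFun v i := algebraMap F _ (v i)
  map_add' v w := by ext i; simp
  map_smul' c v := by ext i; simp [Algebra.smul_def]

theorem ac_inc (g : GL (Fin 8) F) (v : Fin 8 → F) : ac g (inc v) = inc ((g : Matrix (Fin 8) (Fin 8) F) *ᵥ v) := by
  rw [ac_apply]
  funext i
  change _ = algebraMap F (AlgebraicClosure F) _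
  simp only [mulVec, dotProduct, Matrix.map_apply, map_sum, map_mul]
  rfl

abbrev A3 (F : Type u) [Field F] := (Fin 8 → AlgebraicClosure F) [⋀^Fin 3]→ₗ[AlgebraicClosure F] AlgebraicClosure F

theorem comp_comp (f : A3 F) (a b : GL (Fin 8) F) :
    (f.compLinearMap (ac a)).compLinearMap (ac b) = f.compLinearMap (ac (a * b)) := by
  ext x
  rw [map_mul]
  rfl

theorem comp_one (f : A3 F) : f.compLinearMap (ac 1) = f := by
  ext x
  rw [map_one]
  rfl

theorem smul_comp (f : A3 F) (c : AlgebraicClosure F) (a : GL (Fin 8) F) :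
    (c • f).compLinearMap (ac a) = c • f.compLinearMap (ac a) := by
  ext x
  rfl

/-- stabilizer of the line of `f` -/
def LineStab (f : A3 F) (_hf : f ≠ 0) : Subgroup (GL (Fin 8) F) where
  carrier := {g | ∃ c : AlgebraicClosure F, c ≠ 0 ∧ f.compLinearMap (ac g) = c • f}
  mul_mem' := by
    rintro a b ⟨c, hc, h1⟩ ⟨d, hd, h2⟩
    exact ⟨c * d, mul_ne_zero hc hd, by rw [← comp_comp, h1, smul_comp, h2, smul_smul]⟩
  one_mem' := ⟨1, one_ne_zero, by rw [comp_one, one_smul]⟩
  inv_mem' := by
    rintro a ⟨c, hc, h1⟩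
    refine ⟨c⁻¹, inv_ne_zero hc, ?_⟩
    have h2 := congrArg (fun f => f.compLinearMap (ac a⁻¹)) h1
    simp only [comp_comp, mul_inv_cancel, comp_one, smul_comp] at h2
    conv_rhs => rw [h2]
    rw [smul_smul, inv_mul_cancel₀ hc, one_smul]

/-- stabilizer of `f` -/
def FormStab (f : A3 F) : Subgroup (GL (Fin 8) F) where
  carrier := {g | f.compLinearMap (ac g) = f}
  mul_mem' := by
    intro a b h1 h2
    change f.compLinearMap (ac (a * b)) = f
    rw [← comp_comp, show f.compLinearMap (ac a) = f from h1, h2]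
  one_mem' := comp_one f
  inv_mem' := by
    intro a h1
    change f.compLinearMap (ac a⁻¹) = f
    have h2 := congrArg (fun f => f.compLinearMap (ac a⁻¹)) (show f.compLinearMap (ac a) = f from h1)
    simp only [comp_comp, mul_inv_cancel, comp_one] at h2
    exact h2.symm

theorem comm_le (f : A3 F) (hf : f ≠ 0) : ⁅LineStab f hf, LineStab f hf⁆ ≤ FormStab f := by
  rw [Subgroup.commutator_le]
  intro a ha b hb
  obtain ⟨c, hc, h1⟩ := ha
  obtain ⟨d, hd, h2⟩ := hb
  have inv : ∀ (a : GL (Fin 8) F) (c : AlgebraicClosure F), c ≠ 0 → f.compLinearMap (ac a) = c • f →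
      f.compLinearMap (ac a⁻¹) = c⁻¹ • f := by
    intro a c hc h1
    have h2 := congrArg (fun f => f.compLinearMap (ac a⁻¹)) h1
    simp only [comp_comp, mul_inv_cancel, comp_one, smul_comp] at h2
    conv_rhs => rw [h2]
    rw [smul_smul, inv_mul_cancel₀ hc, one_smul]
  change f.compLinearMap (ac ⁅a, b⁆) = f
  rw [commutatorElement_def, ← comp_comp, ← comp_comp, ← comp_comp, h1, smul_comp, h2]
  simp only [smul_comp, inv a c hc h1, inv b d hd h2, smul_smul]
  rw [show c * d * c⁻¹ * d⁻¹ = (c * c⁻¹) * (d * d⁻¹) by ring, mul_inv_cancel₀ hc, mul_inv_cancel₀ hd, one_mul, one_smul]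

/-- restriction to `F⁸` -/
noncomputable def res (f : A3 F) : (Fin 8 → F) [⋀^Fin 3]→ₗ[F] AlgebraicClosure F where
  toFun x := f fun i => inc (x i)
  map_update_add' m i x y := by
    have e : ∀ z, (fun j => inc (Function.update m i z j)) = Function.update (fun j => inc (m j)) i (inc z) := by
      intro z
      funext j
      by_cases hj : j = i
      · subst hj; simp
      · simp [hj]
    rw [e, e, e, map_add, AlternatingMap.map_update_add]
  map_update_smul' m i c x := by
    have e : ∀ z, (fun j => inc (Function.update m i z j)) = Function.update (fun j => inc (m j)) i (inc z) := by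
      intro z
      funext j
      by_cases hj : j = i
      · subst hj; simp
      · simp [hj]
    have h1 : (inc (c • x) : Fin 8 → AlgebraicClosure F) = algebraMap F (AlgebraicClosure F) c • inc x := by
      rw [map_smul, algebraMap_smul]
    rw [e, e, h1, AlternatingMap.map_update_smul, smul_eq_mul, Algebra.smul_def]
  map_eq_zero_of_eq' x i j hx hij := by
    exact f.map_eq_zero_of_eq _ (by rw [hx]) hij

theorem res_eq_zero {f : A3 F} (h : res f = 0) : f = 0 := by
  refine Basis.ext_alternating (Pi.basisFun (AlgebraicClosure F) (Fin 8)) fun v _ => ?_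
  rw [AlternatingMap.zero_apply]
  have h1 := congrArg (fun g => g fun i => (Pi.single (v i) 1 : Fin 8 → F)) h
  change (f fun i => inc (Pi.single (v i) 1 : Fin 8 → F)) = 0 at h1
  rw [← h1]
  congr 1
  funext i j
  rw [Pi.basisFun_apply]
  change _ = algebraMap F (AlgebraicClosure F) _
  by_cases hj : j = v i
  · subst hj; simp
  · simp [hj]

/-- **`Ω(Q)` does not preserve the line of a 3-form.** -/
theorem not_le [Fintype F] {Q : (Fin 8 → F) → F} (nd : IsNondegenerateQuadraticForm Q) (h2 : (2 : F) ≠ 0) (f : A3 F)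
    (hf : f ≠ 0) : ¬ omegaGL Q ≤ LineStab f hf := by
  intro hle
  set Q' := H925.qf nd with hQ'
  have hnd : Nondeg Q' := H925.nondeg_qf nd
  have hG : Good Q' := Cfsg.Agent.H883.Bridge.good_of_card hnd (by rw [Fintype.card_fin]; norm_num)
  have hmap : (omegaGL Q).map (glEquiv (Fin 8) F).toMonoidHom = E Q' := Cfsg.Agent.H883.Bridge.map_omegaGL_eq_E hG
  have hperf : ⁅omegaGL Q, omegaGL Q⁆ = omegaGL Q := by
    apply Subgroup.map_injective (f := (glEquiv (Fin 8) F).toMonoidHom) (glEquiv (Fin 8) F).injective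
    rw [Subgroup.map_commutator, hmap, hG.E_perfect]
  have hle2 : omegaGL Q ≤ FormStab f := by
    rw [← hperf]
    exact (Subgroup.commutator_mono hle hle).trans (comm_le f hf)
  apply hf
  apply res_eq_zero
  refine alt_eq_zero h2 hnd (by rw [Module.finrank_fin_fun]; norm_num) _ fun σ hσ x => ?_
  rw [← hmap] at hσ
  obtain ⟨g, hg, rfl⟩ := hσ
  have h1 := congrArg (fun f => f fun i => inc (x i)) (show f.compLinearMap (ac g) = f from hle2 hg)
  refine Eq.trans ?_ h1
  change (f fun i => inc _) = f fun i => ac g (inc (x i))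
  congr 1
  funext i
  rw [ac_inc]
  rfl

/-- **The overgroup argument.** -/
theorem mem_of_form [Fintype F] {T : Type v} [Group T] (h : OC F T) (h2 : (2 : F) ≠ 0) {H : Subgroup (GL (Fin 8) F)}
    (hmax : IsMaximalIn (omegaGL h.Q) H) (hnorm : ∀ x ∈ H, ∀ t, ∃ t', x * h.ρ t * x⁻¹ = h.ρ t') {f : A3 F} (hf0 : f ≠ 0)
    (hf : ∀ t, f.compLinearMap (h.σ t) = f)
    (hu : ∀ f' : A3 F, (∀ t, f'.compLinearMap (h.σ t) = f') → ∃ c : AlgebraicClosure F, f' = c • f)
    {g : GL (Fin 8) F} (hg : g ∈ omegaGL h.Q) (hgf : f.compLinearMap (ac g) = f) : g ∈ H := by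
  have hHM : H ≤ LineStab f hf0 ⊓ omegaGL h.Q := by
    intro x hx
    refine ⟨?_, hmax.1.1 hx⟩
    obtain ⟨c, hc⟩ := hu (f.compLinearMap (ac x)) (by
      intro t
      obtain ⟨t', ht'⟩ := hnorm x hx t
      rw [← ac_rho, comp_comp, show x * h.ρ t = h.ρ t' * x by rw [← ht']; group, ← comp_comp, ac_rho, hf])
    refine ⟨c, ?_, hc⟩
    rintro rfl
    rw [zero_smul] at hc
    have h3 := congrArg (fun f => f.compLinearMap (ac x⁻¹)) hc
    simp only [comp_comp, mul_inv_cancel, comp_one] at h3
    apply hf0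
    rw [h3]
    ext y
    rfl
  rcases hmax.2 _ hHM inf_le_right with h3 | h3
  · rw [← h3]
    exact ⟨⟨1, one_ne_zero, by rw [hgf, one_smul]⟩, hg⟩
  · exact absurd (inf_eq_right.1 h3) (not_le h.nd h2 f hf0)

end Cfsg.Agent.H917.Form3
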