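import Mathlib

/-!
# An element of the torus (helper917, row S5827, `L₂(7)`)

For a primitive 7th root of unity `ζ` there is `a ∈ {2, 3}` such that for no `k` the squares of
`(a - x⁴)(a - x⁶) / ((a - x³)(a - x))`, `x = ζ^j`, are `x^k` for all `j`.
-/

set_option autoImplicit false

namespace Cfsg.Agent.H917.Tor7

open Polynomial

variable {K : Type*} [Field K]

theorem coeff_zero {ζ : K} (hζ : IsPrimitiveRoot ζ 7) (m : Fin 7 → K)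
    (h : ∀ j : ℕ, m 0 + m 1 * (ζ ^ j) + m 2 * (ζ ^ j) ^ 2 + m 3 * (ζ ^ j) ^ 3 + m 4 * (ζ ^ j) ^ 4 + m 5 * (ζ ^ j) ^ 5 +
      m 6 * (ζ ^ j) ^ 6 = 0) (i : Fin 7) : m i = 0 := by
  let P : K[X] := ∑ i : Fin 7, C (m i) * X ^ (i : ℕ)
  have hP : P = 0 := by
    refine Polynomial.eq_zero_of_natDegree_lt_card_of_eval_eq_zero P (f := fun j : Fin 7 => ζ ^ (j : ℕ)) ?_ ?_ ?_
    · intro i j hij
      exact Fin.ext (hζ.pow_inj i.2 j.2 hij)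
    · intro j
      simp only [P, Polynomial.eval_finsetSum, Polynomial.eval_mul, Polynomial.eval_C, Polynomial.eval_pow,
        Polynomial.eval_X]
      rw [← h j, Fin.sum_univ_seven]
      simp
    · rw [Fintype.card_fin]
      refine Nat.lt_of_le_of_lt (Polynomial.natDegree_sum_le_of_forall_le _ _ (n := 6) fun i _ => ?_) (by norm_num)
      exact (Polynomial.natDegree_C_mul_X_pow_le _ _).trans (by omega)
  have h1 := congrArg (fun p => p.coeff (i : ℕ)) hP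
  simp only [P, Polynomial.finsetSum_coeff, Polynomial.coeff_C_mul, Polynomial.coeff_X_pow, Polynomial.coeff_zero] at h1
  rw [Finset.sum_eq_single i] at h1
  · simpa using h1
  · intro j _ hj
    rw [if_neg (fun h => hj (Fin.ext h).symm), mul_zero]
  · intro h; exact absurd (Finset.mem_univ i) h

theorem step_2_0 {ζ : K} (hζ : IsPrimitiveRoot ζ 7)
    (h : ∀ j : ℕ, (2 - (ζ ^ j) ^ 4) ^ 2 * (2 - (ζ ^ j) ^ 6) ^ 2 =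
      (ζ ^ j) ^ 0 * ((2 - (ζ ^ j) ^ 3) ^ 2 * (2 - ζ ^ j) ^ 2)) :
    ∀ i, (![0, 19, -8, 32, -32, 8, -19] : Fin 7 → K) i = 0 := by
  refine coeff_zero hζ _ fun j => ?_
  have hx : (ζ ^ j) ^ 7 = 1 := by rw [← pow_mul, mul_comm, pow_mul, hζ.pow_eq_one, one_pow]
  have h1 := h j
  set x := ζ ^ j
  change (0) + (19) * x + (-8) * x ^ 2 + (32) * x ^ 3 + (-32) * x ^ 4 + (8) * x ^ 5 + (-19) * x ^ 6 = 0
  linear_combination h1 - ((3) * x ^ 1 + (-4) * x ^ 2 + (16) * x ^ 3 + (4) * x ^ 5 + (1) * x ^ 6 + (-4) * x ^ 7 + (-4) * x ^ 9 + (1) * x ^ 13) * hx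

theorem step_2_1 {ζ : K} (hζ : IsPrimitiveRoot ζ 7)
    (h : ∀ j : ℕ, (2 - (ζ ^ j) ^ 4) ^ 2 * (2 - (ζ ^ j) ^ 6) ^ 2 =
      (ζ ^ j) ^ 1 * ((2 - (ζ ^ j) ^ 3) ^ 2 * (2 - ζ ^ j) ^ 2)) :
    ∀ i, (![8, -8, 11, 12, 0, -12, -11] : Fin 7 → K) i = 0 := by
  refine coeff_zero hζ _ fun j => ?_
  have hx : (ζ ^ j) ^ 7 = 1 := by rw [← pow_mul, mul_comm, pow_mul, hζ.pow_eq_one, one_pow]
  have h1 := h j
  set x := ζ ^ j
  change (8) + (-8) * x + (11) * x ^ 2 + (12) * x ^ 3 + (0) * x ^ 4 + (-12) * x ^ 5 + (-11) * x ^ 6 = 0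
  linear_combination h1 - ((-8) * x ^ 0 + (8) * x ^ 1 + (-5) * x ^ 2 + (16) * x ^ 3 + (4) * x ^ 5 + (1) * x ^ 6 + (-4) * x ^ 7 + (-4) * x ^ 9 + (1) * x ^ 13) * hx

theorem step_2_2 {ζ : K} (hζ : IsPrimitiveRoot ζ 7)
    (h : ∀ j : ℕ, (2 - (ζ ^ j) ^ 4) ^ 2 * (2 - (ζ ^ j) ^ 6) ^ 2 =
      (ζ ^ j) ^ 2 * ((2 - (ζ ^ j) ^ 3) ^ 2 * (2 - ζ ^ j) ^ 2)) :
    ∀ i, (![16, 0, -16, 31, -20, 20, -31] : Fin 7 → K) i = 0 := by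
  refine coeff_zero hζ _ fun j => ?_
  have hx : (ζ ^ j) ^ 7 = 1 := by rw [← pow_mul, mul_comm, pow_mul, hζ.pow_eq_one, one_pow]
  have h1 := h j
  set x := ζ ^ j
  change (16) + (0) * x + (-16) * x ^ 2 + (31) * x ^ 3 + (-20) * x ^ 4 + (20) * x ^ 5 + (-31) * x ^ 6 = 0
  linear_combination h1 - ((15) * x ^ 3 + (4) * x ^ 5 + (1) * x ^ 6 + (-4) * x ^ 7 + (-4) * x ^ 9 + (1) * x ^ 13) * hx

theorem step_2_3 {ζ : K} (hζ : IsPrimitiveRoot ζ 7)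
    (h : ∀ j : ℕ, (2 - (ζ ^ j) ^ 4) ^ 2 * (2 - (ζ ^ j) ^ 6) ^ 2 =
      (ζ ^ j) ^ 3 * ((2 - (ζ ^ j) ^ 3) ^ 2 * (2 - ζ ^ j) ^ 2)) :
    ∀ i, (![-4, 8, -8, 4, -1, 0, 1] : Fin 7 → K) i = 0 := by
  refine coeff_zero hζ _ fun j => ?_
  have hx : (ζ ^ j) ^ 7 = 1 := by rw [← pow_mul, mul_comm, pow_mul, hζ.pow_eq_one, one_pow]
  have h1 := h j
  set x := ζ ^ j
  change (-4) + (8) * x + (-8) * x ^ 2 + (4) * x ^ 3 + (-1) * x ^ 4 + (0) * x ^ 5 + (1) * x ^ 6 = 0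
  linear_combination h1 - ((-20) * x ^ 0 + (8) * x ^ 1 + (-8) * x ^ 2 + (20) * x ^ 3 + (-1) * x ^ 4 + (4) * x ^ 5 + (1) * x ^ 6 + (-4) * x ^ 7 + (-4) * x ^ 9 + (1) * x ^ 13) * hx

theorem step_2_4 {ζ : K} (hζ : IsPrimitiveRoot ζ 7)
    (h : ∀ j : ℕ, (2 - (ζ ^ j) ^ 4) ^ 2 * (2 - (ζ ^ j) ^ 6) ^ 2 =
      (ζ ^ j) ^ 4 * ((2 - (ζ ^ j) ^ 3) ^ 2 * (2 - ζ ^ j) ^ 2)) :
    ∀ i, (![28, -12, 0, 12, -28, 19, -19] : Fin 7 → K) i = 0 := by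
  refine coeff_zero hζ _ fun j => ?_
  have hx : (ζ ^ j) ^ 7 = 1 := by rw [← pow_mul, mul_comm, pow_mul, hζ.pow_eq_one, one_pow]
  have h1 := h j
  set x := ζ ^ j
  change (28) + (-12) * x + (0) * x ^ 2 + (12) * x ^ 3 + (-28) * x ^ 4 + (19) * x ^ 5 + (-19) * x ^ 6 = 0
  linear_combination h1 - ((12) * x ^ 0 + (-12) * x ^ 1 + (12) * x ^ 3 + (4) * x ^ 4 + (3) * x ^ 5 + (1) * x ^ 6 + (-4) * x ^ 7 + (-4) * x ^ 9 + (1) * x ^ 13) * hx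

theorem step_2_5 {ζ : K} (hζ : IsPrimitiveRoot ζ 7)
    (h : ∀ j : ℕ, (2 - (ζ ^ j) ^ 4) ^ 2 * (2 - (ζ ^ j) ^ 6) ^ 2 =
      (ζ ^ j) ^ 5 * ((2 - (ζ ^ j) ^ 3) ^ 2 * (2 - ζ ^ j) ^ 2)) :
    ∀ i, (![8, 20, -20, 20, -20, -8, 0] : Fin 7 → K) i = 0 := by
  refine coeff_zero hζ _ fun j => ?_
  have hx : (ζ ^ j) ^ 7 = 1 := by rw [← pow_mul, mul_comm, pow_mul, hζ.pow_eq_one, one_pow]
  have h1 := h j
  set x := ζ ^ j
  change (8) + (20) * x + (-20) * x ^ 2 + (20) * x ^ 3 + (-20) * x ^ 4 + (-8) * x ^ 5 + (0) * x ^ 6 = 0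
  linear_combination h1 - ((-8) * x ^ 0 + (20) * x ^ 1 + (-20) * x ^ 2 + (20) * x ^ 3 + (-4) * x ^ 4 + (8) * x ^ 5 + (-4) * x ^ 7 + (-4) * x ^ 9 + (1) * x ^ 13) * hx

theorem step_2_6 {ζ : K} (hζ : IsPrimitiveRoot ζ 7)
    (h : ∀ j : ℕ, (2 - (ζ ^ j) ^ 4) ^ 2 * (2 - (ζ ^ j) ^ 6) ^ 2 =
      (ζ ^ j) ^ 6 * ((2 - (ζ ^ j) ^ 3) ^ 2 * (2 - ζ ^ j) ^ 2)) :
    ∀ i, (![27, 0, 12, 0, -12, 0, -27] : Fin 7 → K) i = 0 := by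
  refine coeff_zero hζ _ fun j => ?_
  have hx : (ζ ^ j) ^ 7 = 1 := by rw [← pow_mul, mul_comm, pow_mul, hζ.pow_eq_one, one_pow]
  have h1 := h j
  set x := ζ ^ j
  change (27) + (0) * x + (12) * x ^ 2 + (0) * x ^ 3 + (-12) * x ^ 4 + (0) * x ^ 5 + (-27) * x ^ 6 = 0
  linear_combination h1 - ((11) * x ^ 0 + (12) * x ^ 2 + (4) * x ^ 4 + (5) * x ^ 6 + (-5) * x ^ 7 + (-4) * x ^ 9 + (1) * x ^ 13) * hx

theorem step_3_0 {ζ : K} (hζ : IsPrimitiveRoot ζ 7)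
    (h : ∀ j : ℕ, (3 - (ζ ^ j) ^ 4) ^ 2 * (3 - (ζ ^ j) ^ 6) ^ 2 =
      (ζ ^ j) ^ 0 * ((3 - (ζ ^ j) ^ 3) ^ 2 * (3 - ζ ^ j) ^ 2)) :
    ∀ i, (![0, 62, -15, 90, -90, 15, -62] : Fin 7 → K) i = 0 := by
  refine coeff_zero hζ _ fun j => ?_
  have hx : (ζ ^ j) ^ 7 = 1 := by rw [← pow_mul, mul_comm, pow_mul, hζ.pow_eq_one, one_pow]
  have h1 := h j
  set x := ζ ^ j
  change (0) + (62) * x + (-15) * x ^ 2 + (90) * x ^ 3 + (-90) * x ^ 4 + (15) * x ^ 5 + (-62) * x ^ 6 = 0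
  linear_combination h1 - ((8) * x ^ 1 + (-6) * x ^ 2 + (36) * x ^ 3 + (9) * x ^ 5 + (1) * x ^ 6 + (-6) * x ^ 7 + (-6) * x ^ 9 + (1) * x ^ 13) * hx

theorem step_3_1 {ζ : K} (hζ : IsPrimitiveRoot ζ 7)
    (h : ∀ j : ℕ, (3 - (ζ ^ j) ^ 4) ^ 2 * (3 - (ζ ^ j) ^ 6) ^ 2 =
      (ζ ^ j) ^ 1 * ((3 - (ζ ^ j) ^ 3) ^ 2 * (3 - ζ ^ j) ^ 2)) :
    ∀ i, (![66, -66, 47, 27, 0, -27, -47] : Fin 7 → K) i = 0 := by
  refine coeff_zero hζ _ fun j => ?_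
  have hx : (ζ ^ j) ^ 7 = 1 := by rw [← pow_mul, mul_comm, pow_mul, hζ.pow_eq_one, one_pow]
  have h1 := h j
  set x := ζ ^ j
  change (66) + (-66) * x + (47) * x ^ 2 + (27) * x ^ 3 + (0) * x ^ 4 + (-27) * x ^ 5 + (-47) * x ^ 6 = 0
  linear_combination h1 - ((-15) * x ^ 0 + (15) * x ^ 1 + (-7) * x ^ 2 + (36) * x ^ 3 + (9) * x ^ 5 + (1) * x ^ 6 + (-6) * x ^ 7 + (-6) * x ^ 9 + (1) * x ^ 13) * hx

theorem step_3_2 {ζ : K} (hζ : IsPrimitiveRoot ζ 7)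
    (h : ∀ j : ℕ, (3 - (ζ ^ j) ^ 4) ^ 2 * (3 - (ζ ^ j) ^ 6) ^ 2 =
      (ζ ^ j) ^ 2 * ((3 - (ζ ^ j) ^ 3) ^ 2 * (3 - ζ ^ j) ^ 2)) :
    ∀ i, (![81, 0, -81, 89, -63, 63, -89] : Fin 7 → K) i = 0 := by
  refine coeff_zero hζ _ fun j => ?_
  have hx : (ζ ^ j) ^ 7 = 1 := by rw [← pow_mul, mul_comm, pow_mul, hζ.pow_eq_one, one_pow]
  have h1 := h j
  set x := ζ ^ j
  change (81) + (0) * x + (-81) * x ^ 2 + (89) * x ^ 3 + (-63) * x ^ 4 + (63) * x ^ 5 + (-89) * x ^ 6 = 0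
  linear_combination h1 - ((35) * x ^ 3 + (9) * x ^ 5 + (1) * x ^ 6 + (-6) * x ^ 7 + (-6) * x ^ 9 + (1) * x ^ 13) * hx

theorem step_3_3 {ζ : K} (hζ : IsPrimitiveRoot ζ 7)
    (h : ∀ j : ℕ, (3 - (ζ ^ j) ^ 4) ^ 2 * (3 - (ζ ^ j) ^ 6) ^ 2 =
      (ζ ^ j) ^ 3 * ((3 - (ζ ^ j) ^ 3) ^ 2 * (3 - ζ ^ j) ^ 2)) :
    ∀ i, (![39, 15, -15, -39, -1, 0, 1] : Fin 7 → K) i = 0 := by
  refine coeff_zero hζ _ fun j => ?_
  have hx : (ζ ^ j) ^ 7 = 1 := by rw [← pow_mul, mul_comm, pow_mul, hζ.pow_eq_one, one_pow]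
  have h1 := h j
  set x := ζ ^ j
  change (39) + (15) * x + (-15) * x ^ 2 + (-39) * x ^ 3 + (-1) * x ^ 4 + (0) * x ^ 5 + (1) * x ^ 6 = 0
  linear_combination h1 - ((-42) * x ^ 0 + (15) * x ^ 1 + (-15) * x ^ 2 + (42) * x ^ 3 + (-1) * x ^ 4 + (9) * x ^ 5 + (1) * x ^ 6 + (-6) * x ^ 7 + (-6) * x ^ 9 + (1) * x ^ 13) * hx

theorem step_3_4 {ζ : K} (hζ : IsPrimitiveRoot ζ 7)
    (h : ∀ j : ℕ, (3 - (ζ ^ j) ^ 4) ^ 2 * (3 - (ζ ^ j) ^ 6) ^ 2 =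
      (ζ ^ j) ^ 4 * ((3 - (ζ ^ j) ^ 3) ^ 2 * (3 - ζ ^ j) ^ 2)) :
    ∀ i, (![129, -27, 0, 27, -129, 62, -62] : Fin 7 → K) i = 0 := by
  refine coeff_zero hζ _ fun j => ?_
  have hx : (ζ ^ j) ^ 7 = 1 := by rw [← pow_mul, mul_comm, pow_mul, hζ.pow_eq_one, one_pow]
  have h1 := h j
  set x := ζ ^ j
  change (129) + (-27) * x + (0) * x ^ 2 + (27) * x ^ 3 + (-129) * x ^ 4 + (62) * x ^ 5 + (-62) * x ^ 6 = 0
  linear_combination h1 - ((48) * x ^ 0 + (-27) * x ^ 1 + (27) * x ^ 3 + (6) * x ^ 4 + (8) * x ^ 5 + (1) * x ^ 6 + (-6) * x ^ 7 + (-6) * x ^ 9 + (1) * x ^ 13) * hx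

theorem step_3_5 {ζ : K} (hζ : IsPrimitiveRoot ζ 7)
    (h : ∀ j : ℕ, (3 - (ζ ^ j) ^ 4) ^ 2 * (3 - (ζ ^ j) ^ 6) ^ 2 =
      (ζ ^ j) ^ 5 * ((3 - (ζ ^ j) ^ 3) ^ 2 * (3 - ζ ^ j) ^ 2)) :
    ∀ i, (![66, 63, -42, 42, -63, -66, 0] : Fin 7 → K) i = 0 := by
  refine coeff_zero hζ _ fun j => ?_
  have hx : (ζ ^ j) ^ 7 = 1 := by rw [← pow_mul, mul_comm, pow_mul, hζ.pow_eq_one, one_pow]
  have h1 := h j
  set x := ζ ^ j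
  change (66) + (63) * x + (-42) * x ^ 2 + (42) * x ^ 3 + (-63) * x ^ 4 + (-66) * x ^ 5 + (0) * x ^ 6 = 0
  linear_combination h1 - ((-15) * x ^ 0 + (63) * x ^ 1 + (-42) * x ^ 2 + (42) * x ^ 3 + (-9) * x ^ 4 + (15) * x ^ 5 + (-6) * x ^ 7 + (-6) * x ^ 9 + (1) * x ^ 13) * hx

theorem step_3_6 {ζ : K} (hζ : IsPrimitiveRoot ζ 7)
    (h : ∀ j : ℕ, (3 - (ζ ^ j) ^ 4) ^ 2 * (3 - (ζ ^ j) ^ 6) ^ 2 =
      (ζ ^ j) ^ 6 * ((3 - (ζ ^ j) ^ 3) ^ 2 * (3 - ζ ^ j) ^ 2)) :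
    ∀ i, (![128, 0, 48, 0, -48, 0, -128] : Fin 7 → K) i = 0 := by
  refine coeff_zero hζ _ fun j => ?_
  have hx : (ζ ^ j) ^ 7 = 1 := by rw [← pow_mul, mul_comm, pow_mul, hζ.pow_eq_one, one_pow]
  have h1 := h j
  set x := ζ ^ j
  change (128) + (0) * x + (48) * x ^ 2 + (0) * x ^ 3 + (-48) * x ^ 4 + (0) * x ^ 5 + (-128) * x ^ 6 = 0
  linear_combination h1 - ((47) * x ^ 0 + (48) * x ^ 2 + (6) * x ^ 4 + (7) * x ^ 6 + (-7) * x ^ 7 + (-6) * x ^ 9 + (1) * x ^ 13) * hx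

/-- `a = 2` -/
theorem two {ζ : K} (hζ : IsPrimitiveRoot ζ 7) (h2 : (2 : K) ≠ 0) (h3 : (3 : K) ≠ 0) {k : ℕ} (hk : k < 7) :
    ∃ j : ℕ, (2 - (ζ ^ j) ^ 4) ^ 2 * (2 - (ζ ^ j) ^ 6) ^ 2 ≠
      (ζ ^ j) ^ k * ((2 - (ζ ^ j) ^ 3) ^ 2 * (2 - ζ ^ j) ^ 2) := by
  by_contra hno
  push Not at hno
  apply one_ne_zero (α := K)
  interval_cases k
  · have c := step_2_0 hζ hno
    have c1 : (19 : K) = 0 := c 1
    have c2 : (-8 : K) = 0 := c 2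
    linear_combination 3 * c1 + 7 * c2
  · have c := step_2_1 hζ hno
    have c1 : (8 : K) = 0 := c 0
    have c2 : (11 : K) = 0 := c 2
    linear_combination 3 * c2 - 4 * c1
  · have c := step_2_2 hζ hno
    have c1 : (16 : K) = 0 := c 0
    have c2 : (31 : K) = 0 := c 3
    linear_combination 2 * c1 - c2
  · have c := step_2_3 hζ hno
    have c1 : (1 : K) = 0 := c 6
    exact c1
  · have c := step_2_4 hζ hno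
    have c1 : (12 : K) = 0 := c 3
    have c2 : (19 : K) = 0 := c 5
    linear_combination 8 * c1 - 5 * c2
  · exfalso
    have c := step_2_5 hζ hno
    have c1 : (8 : K) = 0 := c 0
    have c2 : (2 : K) * (2 * 2) = 0 := by linear_combination c1
    exact mul_ne_zero h2 (mul_ne_zero h2 h2) c2
  · exfalso
    have c := step_2_6 hζ hno
    have c1 : (27 : K) = 0 := c 0
    have c2 : (3 : K) * (3 * 3) = 0 := by linear_combination c1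
    exact mul_ne_zero h3 (mul_ne_zero h3 h3) c2

/-- `a = 3` -/
theorem three {ζ : K} (hζ : IsPrimitiveRoot ζ 7) (h : (127 : K) = 0) {k : ℕ} (hk : k < 7) :
    ∃ j : ℕ, (3 - (ζ ^ j) ^ 4) ^ 2 * (3 - (ζ ^ j) ^ 6) ^ 2 ≠
      (ζ ^ j) ^ k * ((3 - (ζ ^ j) ^ 3) ^ 2 * (3 - ζ ^ j) ^ 2) := by
  by_contra hno
  push Not at hno
  apply one_ne_zero (α := K)
  interval_cases k
  · have c := step_3_0 hζ hno
    have c1 : (-15 : K) = 0 := c 2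
    linear_combination -17 * c1 - 2 * h
  · have c := step_3_1 hζ hno
    have c1 : (27 : K) = 0 := c 3
    linear_combination 80 * c1 - 17 * h
  · have c := step_3_2 hζ hno
    have c1 : (63 : K) = 0 := c 5
    linear_combination h - 2 * c1
  · have c := step_3_3 hζ hno
    have c1 : (1 : K) = 0 := c 6
    exact c1
  · have c := step_3_4 hζ hno
    have c1 : (27 : K) = 0 := c 3
    linear_combination 80 * c1 - 17 * h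
  · have c := step_3_5 hζ hno
    have c1 : (63 : K) = 0 := c 1
    linear_combination h - 2 * c1
  · have c := step_3_6 hζ hno
    have c1 : (48 : K) = 0 := c 2
    linear_combination 45 * c1 - 17 * h

/-- the choice of `a` -/
theorem exists_a {F : Type*} [Field F] (f : F →+* K) {ζ : K} (hζ : IsPrimitiveRoot ζ 7) (h2 : (2 : F) ≠ 0)
    (h3 : (3 : F) ≠ 0) : ∃ a : F, a ^ 7 ≠ 1 ∧ ∀ k < 7, ∃ j : ℕ, (f a - (ζ ^ j) ^ 4) ^ 2 * (f a - (ζ ^ j) ^ 6) ^ 2 ≠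
      (ζ ^ j) ^ k * ((f a - (ζ ^ j) ^ 3) ^ 2 * (f a - ζ ^ j) ^ 2) := by
  by_cases h : (127 : F) = 0
  · refine ⟨3, ?_, fun k hk => ?_⟩
    · intro h4
      apply one_ne_zero (α := F)
      linear_combination 80 * h4 - 17 * (80 + 1) * h
    · have h' : (127 : K) = 0 := by
        have := congrArg f h
        rwa [map_ofNat, map_zero] at this
      have := three hζ h' hk
      rwa [← map_ofNat f 3] at this
  · refine ⟨2, ?_, fun k hk => ?_⟩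
    · intro h4
      apply h
      linear_combination h4
    · have h2' : (2 : K) ≠ 0 := by
        rw [← map_ofNat f 2]
        exact (map_ne_zero f).2 h2
      have h3' : (3 : K) ≠ 0 := by
        rw [← map_ofNat f 3]
        exact (map_ne_zero f).2 h3
      have := two hζ h2' h3' hk
      rwa [← map_ofNat f 2] at this

end Cfsg.Agent.H917.Tor7
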