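import Cfsg.Agent.H917.OmL27a
import Cfsg.Agent.H917.OmL27b
import Cfsg.Agent.H917.OmTor7
import Cfsg.Agent.ClassicalGeometry.SiegelGen

/-!
# `PSL₂(7)` in `Ω₈⁻(q)`, `p ≥ 5`: the torus element (helper917, row S5827)
-/

set_option autoImplicit false
set_option linter.unusedSectionVars false

namespace Cfsg.Agent.H917.L27

open Cfsg Cfsg.Geo Matrix Module
open Cfsg.Agent.H917.Om Cfsg.Agent.H637.JW Cfsg.Agent.H917.Form3
open Cfsg.Agent.H24.Om (tau uu weights_l27 no_borel_fixed four_ne_zero' uu_pow)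
open Cfsg.Agent.H917.SL7 (ux dt NN ell pt)

universe u v w

section units

variable {F : Type u} [Field F] {a : F} (ha : a ^ 7 ≠ 1)

include ha in
/-- `a - X` is invertible if `X ^ 7 = 1` -/
theorem isUnit_sub {X : Matrix (Fin 8) (Fin 8) F} (hX : X ^ 7 = 1) : IsUnit (a • (1 : Matrix (Fin 8) (Fin 8) F) - X) := by
  have hc : Commute (a • (1 : Matrix (Fin 8) (Fin 8) F)) X := (Commute.one_left X).smul_left a
  have h1 := hc.mul_geom_sum₂ 7
  rw [hX, smul_pow, one_pow] at h1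
  have h2 : IsUnit (a ^ 7 • (1 : Matrix (Fin 8) (Fin 8) F) - 1) := by
    have : a ^ 7 • (1 : Matrix (Fin 8) (Fin 8) F) - 1 = algebraMap F (Matrix (Fin 8) (Fin 8) F) (a ^ 7 - 1) := by
      rw [map_sub, map_one, Algebra.algebraMap_eq_smul_one]
    rw [this]
    exact (isUnit_iff_ne_zero.2 (sub_ne_zero.2 ha)).map _
  rw [← h1] at h2
  exact isUnit_of_mul_isUnit_left h2

end units

variable {F : Type u} [Field F] [Fintype F] (h : OC F T7)

/-- the matrix of the element of order seven -/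
noncomputable def AA : Matrix (Fin 8) (Fin 8) F := (h.ρ uu : Matrix (Fin 8) (Fin 8) F)

theorem AA_pow : AA h ^ 7 = 1 := by
  have h1 : (h.ρ uu) ^ 7 = 1 := by rw [← map_pow, uu_pow (ZMod.card 7), map_one]
  have h2 := congrArg (fun g : GL (Fin 8) F => (g : Matrix (Fin 8) (Fin 8) F)) h1
  simpa [AA] using h2

variable {a : F} (ha : a ^ 7 ≠ 1)

/-- `a - A ^ j` -/
noncomputable def R (j : ℕ) : GL (Fin 8) F :=
  (isUnit_sub ha (X := AA h ^ j) (by rw [← pow_mul, mul_comm, pow_mul, AA_pow, one_pow])).unit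

theorem R_coe (j : ℕ) : (R h ha j : Matrix (Fin 8) (Fin 8) F) = a • 1 - AA h ^ j := IsUnit.unit_spec _

theorem R_comm (i j : ℕ) : R h ha i * R h ha j = R h ha j * R h ha i := by
  apply Units.ext
  rw [Units.val_mul, Units.val_mul, R_coe, R_coe]
  have h1 : Commute (AA h ^ i) (AA h ^ j) := (Commute.refl _).pow_pow i j
  have h2 : Commute (a • (1 : Matrix (Fin 8) (Fin 8) F)) (AA h ^ j) := (Commute.one_left _).smul_left a
  have h3 : Commute (AA h ^ i) (a • (1 : Matrix (Fin 8) (Fin 8) F)) := (Commute.one_right _).smul_right a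
  have h4 : Commute (a • (1 : Matrix (Fin 8) (Fin 8) F)) (a • (1 : Matrix (Fin 8) (Fin 8) F)) := Commute.refl _
  exact ((h4.sub_right h2).sub_left (h3.sub_right h1)).eq

theorem R_uu (j : ℕ) : R h ha j * h.ρ uu = h.ρ uu * R h ha j := by
  apply Units.ext
  rw [Units.val_mul, Units.val_mul, R_coe]
  have h1 : Commute (AA h ^ j) (AA h) := (Commute.refl (AA h)).pow_left j
  have h2 : Commute (a • (1 : Matrix (Fin 8) (Fin 8) F)) (AA h) := (Commute.one_left _).smul_left a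
  exact (h2.sub_left h1).eq

/-- the torus element -/
noncomputable def tt : GL (Fin 8) F := R h ha 4 * R h ha 6 * (R h ha 3 * R h ha 1)⁻¹

theorem tt_mul : tt h ha * (R h ha 3 * R h ha 1) = R h ha 4 * R h ha 6 := by
  rw [tt, inv_mul_cancel_right]

theorem tt_uu : tt h ha * h.ρ uu = h.ρ uu * tt h ha := by
  have c : ∀ j, Commute (R h ha j) (h.ρ uu) := fun j => R_uu h ha j
  exact (((c 4).mul_left (c 6)).mul_left (((c 3).mul_left (c 1)).inv_left)).eq

/-! ### Isometry -/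

theorem polar_A (x y : Fin 8 → F) : QuadraticMap.polar h.Q (AA h *ᵥ x) (AA h *ᵥ y) = QuadraticMap.polar h.Q x y := by
  unfold QuadraticMap.polar AA
  rw [← Matrix.mulVec_add, h.fixQ, h.fixQ, h.fixQ]

theorem polar_Apow (j : ℕ) (x y : Fin 8 → F) :
    QuadraticMap.polar h.Q (AA h ^ j *ᵥ x) (AA h ^ j *ᵥ y) = QuadraticMap.polar h.Q x y := by
  induction j with
  | zero => simp
  | succ j ih => rw [pow_succ', ← Matrix.mulVec_mulVec, ← Matrix.mulVec_mulVec, polar_A, ih]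

theorem polar_adj {i j : ℕ} (hij : i + j = 7) (x y : Fin 8 → F) :
    QuadraticMap.polar h.Q (AA h ^ i *ᵥ x) y = QuadraticMap.polar h.Q x (AA h ^ j *ᵥ y) := by
  rw [← polar_Apow h j (AA h ^ i *ᵥ x) y, Matrix.mulVec_mulVec, ← pow_add, add_comm j i, hij, AA_pow, Matrix.one_mulVec]

theorem polar_R {i j : ℕ} (hij : i + j = 7) (x y : Fin 8 → F) :
    QuadraticMap.polar h.Q ((R h ha i : Matrix (Fin 8) (Fin 8) F) *ᵥ x) y =
      QuadraticMap.polar h.Q x ((R h ha j : Matrix (Fin 8) (Fin 8) F) *ᵥ y) := by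
  have hb := h.nd.polar_bilinear
  have e1 : (R h ha i : Matrix (Fin 8) (Fin 8) F) *ᵥ x = a • x + (-1 : F) • (AA h ^ i *ᵥ x) := by
    rw [R_coe, Matrix.sub_mulVec, Matrix.smul_mulVec, Matrix.one_mulVec, neg_one_smul, sub_eq_add_neg]
  have e2 : (R h ha j : Matrix (Fin 8) (Fin 8) F) *ᵥ y = a • y + (-1 : F) • (AA h ^ j *ᵥ y) := by
    rw [R_coe, Matrix.sub_mulVec, Matrix.smul_mulVec, Matrix.one_mulVec, neg_one_smul, sub_eq_add_neg]
  rw [e1, e2, hb.add_left, hb.smul_left, hb.smul_left, hb.add_right, hb.smul_right, hb.smul_right, polar_adj h hij]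

theorem polar_tt (x y : Fin 8 → F) :
    QuadraticMap.polar h.Q ((tt h ha : Matrix (Fin 8) (Fin 8) F) *ᵥ x) ((tt h ha : Matrix (Fin 8) (Fin 8) F) *ᵥ y) =
      QuadraticMap.polar h.Q x y := by
  set P : GL (Fin 8) F := R h ha 3 * R h ha 1 with hP
  obtain ⟨x', rfl⟩ : ∃ x', x = (P : Matrix (Fin 8) (Fin 8) F) *ᵥ x' := ⟨((P⁻¹ : GL (Fin 8) F) : Matrix (Fin 8) (Fin 8) F) *ᵥ x, by
    rw [Matrix.mulVec_mulVec, ← Units.val_mul, mul_inv_cancel, Units.val_one, Matrix.one_mulVec]⟩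
  obtain ⟨y', rfl⟩ : ∃ y', y = (P : Matrix (Fin 8) (Fin 8) F) *ᵥ y' := ⟨((P⁻¹ : GL (Fin 8) F) : Matrix (Fin 8) (Fin 8) F) *ᵥ y, by
    rw [Matrix.mulVec_mulVec, ← Units.val_mul, mul_inv_cancel, Units.val_one, Matrix.one_mulVec]⟩
  rw [Matrix.mulVec_mulVec, Matrix.mulVec_mulVec, ← Units.val_mul, hP, tt_mul]
  simp only [Units.val_mul, ← Matrix.mulVec_mulVec]
  rw [polar_R h ha (i := 4) (j := 3) rfl, polar_R h ha (i := 6) (j := 1) rfl, polar_R h ha (i := 3) (j := 4) rfl,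
    polar_R h ha (i := 1) (j := 6) rfl]
  simp only [Matrix.mulVec_mulVec, ← Units.val_mul]
  congr 3
  rw [show R h ha 1 * (R h ha 3 * (R h ha 4 * R h ha 6)) = (R h ha 1 * R h ha 3) * (R h ha 4 * R h ha 6) by group]
  have c : ∀ i j, Commute (R h ha i) (R h ha j) := fun i j => R_comm h ha i j
  rw [show R h ha 6 * (R h ha 4 * (R h ha 3 * R h ha 1)) = (R h ha 6 * R h ha 4) * (R h ha 3 * R h ha 1) by group,
    (c 1 3).eq, (c 6 4).eq]
  exact (((c 3 4).mul_right (c 3 6)).mul_left ((c 1 4).mul_right (c 1 6))).eq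

/-- `t²` lies in `Ω(Q)`. -/
theorem tt_sq_mem (h2 : (2 : F) ≠ 0) : tt h ha * tt h ha ∈ omegaGL h.Q := by
  have hiso : ∀ x, h.Q ((tt h ha : Matrix (Fin 8) (Fin 8) F) *ᵥ x) = h.Q x := by
    intro x
    have h1 := polar_tt h ha x x
    have h3 : ∀ z, QuadraticMap.polar h.Q z z = 2 * h.Q z := by
      intro z
      have h4 := QuadraticMap.polar_self (H925.qf h.nd) z
      rw [two_nsmul, ← two_mul] at h4
      exact h4
    rw [h3, h3] at h1
    exact mul_left_cancel₀ h2 h1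
  have hmem : tt h ha ∈ isometryGroup F h.Q := (ClassicalGeometry.Reflection.mem_isometryGroup_iff _ _).2 hiso
  have hnd : (QuadraticMap.polarBilin (H925.qf h.nd)).Nondegenerate := by
    refine H932.nondegenerate_polarBilin ?_
    intro x hx
    by_contra h0
    obtain ⟨-, y, hxy⟩ := h.nd.nondegenerate x h0
    exact hxy (hx y)
  exact ⟨_, ClassicalGeometry.SiegelGen.mul_self_mem_commutator h2 (H925.qf h.nd) hnd ⟨tt h ha, hmem⟩, rfl⟩

end Cfsg.Agent.H917.L27
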