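import Cfsg.Agent.H917.OmL27c

/-!
# `PSL₂(7)` in `Ω₈⁻(q)`, `p ≥ 5`: the torus element fixes the 3-form (helper917, row S5827)
-/

set_option autoImplicit false
set_option linter.unusedSectionVars false

namespace Cfsg.Agent.H917.L27

open Cfsg Cfsg.Geo Matrix Module
open Cfsg.Agent.H917.Om Cfsg.Agent.H637.JW Cfsg.Agent.H917.Form3
open Cfsg.Agent.H24.Om (tau uu weights_l27 no_borel_fixed four_ne_zero' uu_pow)
open Cfsg.Agent.H917.SL7 (ux dt NN ell pt)

universe u v w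

variable {F : Type u} [Field F] [Fintype F] (h : OC F T7) {a : F} (ha : a ^ 7 ≠ 1)

/-- the image of `a` -/
local notation "al" => algebraMap F (AlgebraicClosure F)

theorem ac_R {z : AlgebraicClosure F} {v : Fin 8 → AlgebraicClosure F} (hv : h.σ uu v = z • v) (j : ℕ) :
    ac (R h ha j) v = (al a - z ^ j) • v := by
  have h1 : ∀ j : ℕ, ((AA h ^ j).map al) *ᵥ v = z ^ j • v := by
    intro j
    induction j with
    | zero => rw [pow_zero, pow_zero, Matrix.map_one _ (map_zero _) (map_one _), Matrix.one_mulVec, one_smul]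
    | succ j ih =>
      have e : (AA h ^ (j + 1)).map al = (AA h ^ j).map al * (AA h).map al := by
        rw [pow_succ, Matrix.map_mul]
      rw [e, ← Matrix.mulVec_mulVec, show (AA h).map al *ᵥ v = h.σ uu v from rfl, hv, Matrix.mulVec_smul, ih, smul_smul,
        pow_succ, mul_comm]
  rw [ac_apply, R_coe]
  have e : (a • (1 : Matrix (Fin 8) (Fin 8) F) - AA h ^ j).map al = al a • 1 - (AA h ^ j).map al := by
    ext i k
    rw [Matrix.map_apply, Matrix.sub_apply, Matrix.sub_apply, Matrix.map_apply, map_sub, Matrix.smul_apply,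
      Matrix.smul_apply, smul_eq_mul, smul_eq_mul, map_mul, Matrix.one_apply, Matrix.one_apply]
    congr 2
    split_ifs
    · exact map_one _
    · exact map_zero _
  rw [e, Matrix.sub_mulVec, Matrix.smul_mulVec, Matrix.one_mulVec, h1, sub_smul]

/-- the eigenvalue function -/
noncomputable def cc (a : F) (z : AlgebraicClosure F) : AlgebraicClosure F :=
  (al a - z ^ 4) * (al a - z ^ 6) / ((al a - z ^ 3) * (al a - z))

include ha in
theorem sub_ne {z : AlgebraicClosure F} (hz : z ^ 7 = 1) : al a - z ≠ 0 := by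
  intro h0
  apply ha
  have h1 : al a = z := sub_eq_zero.1 h0
  have h2 : al (a ^ 7) = al 1 := by rw [map_pow, h1, hz, map_one]
  exact (algebraMap F (AlgebraicClosure F)).injective h2

theorem ac_tt {z : AlgebraicClosure F} (hz : z ^ 7 = 1) {v : Fin 8 → AlgebraicClosure F} (hv : h.σ uu v = z • v) :
    ac (tt h ha) v = cc a z • v := by
  have hpow : ∀ j : ℕ, (z ^ j) ^ 7 = 1 := fun j => by rw [← pow_mul, mul_comm, pow_mul, hz, one_pow]
  have n3 := sub_ne ha (hpow 3)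
  have n1 := sub_ne ha hz
  have h1 : ac (R h ha 3 * R h ha 1) v = ((al a - z ^ 3) * (al a - z)) • v := by
    rw [map_mul, Module.End.mul_apply, ac_R h ha hv, map_smul, ac_R h ha hv, smul_smul, pow_one, mul_comm]
  have h2 : ac (R h ha 4 * R h ha 6) v = ((al a - z ^ 4) * (al a - z ^ 6)) • v := by
    rw [map_mul, Module.End.mul_apply, ac_R h ha hv, map_smul, ac_R h ha hv, smul_smul, mul_comm]
  rw [← tt_mul h ha, map_mul, Module.End.mul_apply, h1, map_smul] at h2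
  have h3 : ((al a - z ^ 3) * (al a - z)) ≠ 0 := mul_ne_zero n3 n1
  calc ac (tt h ha) v = (((al a - z ^ 3) * (al a - z))⁻¹ * ((al a - z ^ 3) * (al a - z))) • ac (tt h ha) v := by
        rw [inv_mul_cancel₀ h3, one_smul]
    _ = cc a z • v := by
        rw [mul_smul, h2, smul_smul, cc, div_eq_mul_inv, mul_comm]

include ha in
theorem cc_one : cc a (1 : AlgebraicClosure F) = 1 := by
  have n1 := sub_ne ha (one_pow (M := AlgebraicClosure F) 7)
  unfold cc
  rw [one_pow, one_pow, one_pow]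
  exact div_self (mul_ne_zero n1 n1)

include ha in
theorem cc_inv {z : AlgebraicClosure F} (hz : z ^ 7 = 1) : cc a z * cc a (z ^ 6) = 1 := by
  have hpow : ∀ j : ℕ, (z ^ j) ^ 7 = 1 := fun j => by rw [← pow_mul, mul_comm, pow_mul, hz, one_pow]
  have n1 := sub_ne ha hz
  have n3 := sub_ne ha (hpow 3)
  have n4 := sub_ne ha (hpow 4)
  have n6 := sub_ne ha (hpow 6)
  unfold cc
  have e1 : (z ^ 6) ^ 4 = z ^ 3 := by
    rw [← pow_mul, show 6 * 4 = 7 * 3 + 3 from rfl, pow_add, pow_mul, hz, one_pow, one_mul]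
  have e2 : (z ^ 6) ^ 6 = z := by
    rw [← pow_mul, show 6 * 6 = 7 * 5 + 1 from rfl, pow_add, pow_mul, hz, one_pow, one_mul, pow_one]
  have e3 : (z ^ 6) ^ 3 = z ^ 4 := by
    rw [← pow_mul, show 6 * 3 = 7 * 2 + 4 from rfl, pow_add, pow_mul, hz, one_pow, one_mul]
  rw [e1, e2, e3]
  field_simp

include ha in
theorem cc_tri {z : AlgebraicClosure F} (hz : z ^ 7 = 1) : cc a z * cc a (z ^ 2) * cc a (z ^ 4) = 1 := by
  have hpow : ∀ j : ℕ, (z ^ j) ^ 7 = 1 := fun j => by rw [← pow_mul, mul_comm, pow_mul, hz, one_pow]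
  have n1 := sub_ne ha hz
  have n2 := sub_ne ha (hpow 2)
  have n3 := sub_ne ha (hpow 3)
  have n4 := sub_ne ha (hpow 4)
  have n5 := sub_ne ha (hpow 5)
  have n6 := sub_ne ha (hpow 6)
  unfold cc
  have e1 : (z ^ 2) ^ 4 = z := by
    rw [← pow_mul, show 2 * 4 = 7 * 1 + 1 from rfl, pow_add, pow_mul, hz, one_pow, one_mul, pow_one]
  have e2 : (z ^ 2) ^ 6 = z ^ 5 := by
    rw [← pow_mul, show 2 * 6 = 7 * 1 + 5 from rfl, pow_add, pow_mul, hz, one_pow, one_mul]
  have e3 : (z ^ 2) ^ 3 = z ^ 6 := by rw [← pow_mul]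
  have e4 : (z ^ 4) ^ 4 = z ^ 2 := by
    rw [← pow_mul, show 4 * 4 = 7 * 2 + 2 from rfl, pow_add, pow_mul, hz, one_pow, one_mul]
  have e5 : (z ^ 4) ^ 6 = z ^ 3 := by
    rw [← pow_mul, show 4 * 6 = 7 * 3 + 3 from rfl, pow_add, pow_mul, hz, one_pow, one_mul]
  have e6 : (z ^ 4) ^ 3 = z ^ 5 := by
    rw [← pow_mul, show 4 * 3 = 7 * 1 + 5 from rfl, pow_add, pow_mul, hz, one_pow, one_mul]
  rw [e1, e2, e3, e4, e5, e6]
  field_simp

theorem cases7 : ∀ n1 n2 n3 : ZMod 7, n1 + n2 + n3 = 0 → (n1 = n2 → n1 = 0) → (n1 = n3 → n1 = 0) → (n2 = n3 → n2 = 0) →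
    (n1 = 0 ∧ n3 = 6 * n2) ∨ (n2 = 0 ∧ n3 = 6 * n1) ∨ (n3 = 0 ∧ n2 = 6 * n1) ∨ (n2 = 2 * n1 ∧ n3 = 4 * n1) ∨
      (n3 = 2 * n1 ∧ n2 = 4 * n1) := by decide

/-- **The torus element fixes the 3-form.** -/
theorem form_tt (h7 : (7 : F) ≠ 0) {f : A3 F} (hf : ∀ t, f.compLinearMap (h.σ t) = f) :
    f.compLinearMap (ac (tt h ha)) = f := by
  classical
  have h7' : ((7 : ℕ) : AlgebraicClosure F) ≠ 0 := H24.Om.cast_ne_zero (by exact_mod_cast h7)
  obtain ⟨ζ, hζ⟩ := exists_root (K := AlgebraicClosure F) (N := 7) h7'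
  have hζ7 := hζ.pow_eq_one
  obtain ⟨hW1, -⟩ := weights_l27 (ZMod.card 7) h h7 hζ
  let x : Fin 1 → T7 := ![uu]
  have hc : ∀ j k, h.σ (x j) * h.σ (x k) = h.σ (x k) * h.σ (x j) := by
    intro j k
    rw [Subsingleton.elim j k]
  have hp : ∀ k, h.σ (x k) ^ 7 = 1 := by
    intro k
    rw [← map_pow, Subsingleton.elim k 0, show x 0 = uu from rfl, uu_pow (ZMod.card 7), map_one]
  have hint : DirectSum.IsInternal (W 7 ζ (fun k => h.σ (x k))) :=
    (DirectSum.isInternal_submodule_iff_iSupIndep_and_iSup_eq_top _).2 ⟨indep_W h7' hζ hc hp, iSup_W h7' hζ hc hp⟩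
  let b := hint.collectedBasis fun c => Module.finBasis (AlgebraicClosure F) (W 7 ζ (fun k => h.σ (x k)) c)
  have hb : ∀ i, h.σ uu (b i) = ζ ^ (i.1 0).val • b i := by
    intro i
    have h1 := hint.collectedBasis_mem (fun c => Module.finBasis (AlgebraicClosure F) (W 7 ζ (fun k => h.σ (x k)) c)) i
    exact mem_W.1 h1 0
  have hz7 : ∀ n : ZMod 7, (ζ ^ n.val) ^ 7 = 1 := fun n => by rw [← pow_mul, mul_comm, pow_mul, hζ7, one_pow]
  have hzk : ∀ (k : ℕ) (n : ZMod 7), ζ ^ ((k : ZMod 7) * n).val = (ζ ^ n.val) ^ k := by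
    intro k n
    rw [ZMod.val_mul, ← pow_mul, pow_mod_of_pow_eq_one hζ7, ZMod.val_natCast, mul_comm n.val k]
    conv_lhs => rw [pow_mul, pow_mod_of_pow_eq_one hζ7, ← pow_mul]
  refine Basis.ext_alternating b fun v hv => ?_
  have e1 : (fun i => b (v i)) = ![b (v 0), b (v 1), b (v 2)] := by
    funext i
    fin_cases i <;> rfl
  rw [e1]
  have comp3 : ∀ (g : Module.End (AlgebraicClosure F) (Fin 8 → AlgebraicClosure F)) (c0 c1 c2 : AlgebraicClosure F),
      g (b (v 0)) = c0 • b (v 0) → g (b (v 1)) = c1 • b (v 1) → g (b (v 2)) = c2 • b (v 2) →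
      f.compLinearMap g ![b (v 0), b (v 1), b (v 2)] = c0 * c1 * c2 * f ![b (v 0), b (v 1), b (v 2)] := by
    intro g c0 c1 c2 g0 g1 g2
    rw [← SL7.lam_smul f, AlternatingMap.compLinearMap_apply]
    congr 1
    funext i
    fin_cases i
    · exact g0
    · exact g1
    · exact g2
  set n0 := (v 0).1 0
  set n1 := (v 1).1 0
  set n2 := (v 2).1 0
  rw [comp3 _ _ _ _ (ac_tt h ha (hz7 n0) (hb _)) (ac_tt h ha (hz7 n1) (hb _)) (ac_tt h ha (hz7 n2) (hb _))]
  have h1 := comp3 _ _ _ _ (hb (v 0)) (hb (v 1)) (hb (v 2))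
  rw [hf] at h1
  by_cases hf0 : f ![b (v 0), b (v 1), b (v 2)] = 0
  · rw [hf0, mul_zero]
  have h2 : ζ ^ n0.val * ζ ^ n1.val * ζ ^ n2.val = 1 := by
    have h3 : (ζ ^ n0.val * ζ ^ n1.val * ζ ^ n2.val - 1) * f ![b (v 0), b (v 1), b (v 2)] = 0 := by
      linear_combination -h1
    exact sub_eq_zero.1 ((mul_eq_zero.1 h3).resolve_right hf0)
  have hsum : n0 + n1 + n2 = 0 := by
    rw [← pow_val_add hζ7, ← pow_val_add hζ7] at h2
    have h3 := hζ.pow_inj (ZMod.val_lt (n0 + n1 + n2)) (NeZero.pos 7) (by rw [h2, pow_zero])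
    exact (ZMod.val_eq_zero _).1 h3
  -- equal weights
  have heq : ∀ i j, v i ≠ v j → (v i).1 0 = (v j).1 0 → (v i).1 0 = 0 := by
    intro i j hij hw
    by_contra hne
    apply hij
    have hfst : (v i).1 = (v j).1 := by
      funext k
      rw [Subsingleton.elim k 0, hw]
    have hone : finrank (AlgebraicClosure F) (W 7 ζ (fun k => h.σ (x k)) (v j).1) = 1 := by
      have h4 := hW1 ((v j).1 0) (hw ▸ hne)
      rwa [show ![(v j).1 0] = (v j).1 from by funext k; rw [Subsingleton.elim k 0]; rfl] at h4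
    have hss : Subsingleton (Fin (finrank (AlgebraicClosure F) (W 7 ζ (fun k => h.σ (x k)) (v j).1))) := by
      rw [hone]; infer_instance
    generalize v i = p at *
    generalize v j = q at *
    obtain ⟨p1, p2⟩ := p
    obtain ⟨q1, q2⟩ := q
    simp only at hfst
    subst hfst
    congr 1
    exact Subsingleton.elim _ _
  have d01 : v 0 ≠ v 1 := fun h => absurd (hv h) (by decide)
  have d02 : v 0 ≠ v 2 := fun h => absurd (hv h) (by decide)
  have d12 : v 1 ≠ v 2 := fun h => absurd (hv h) (by decide)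
  have key : cc a (ζ ^ n0.val) * cc a (ζ ^ n1.val) * cc a (ζ ^ n2.val) = 1 := by
    rcases cases7 n0 n1 n2 hsum (heq 0 1 d01) (heq 0 2 d02) (heq 1 2 d12) with ⟨a1, a2⟩ | ⟨a1, a2⟩ | ⟨a1, a2⟩ |
      ⟨a1, a2⟩ | ⟨a1, a2⟩
    · rw [a1, a2, ZMod.val_zero, pow_zero, cc_one ha, one_mul, show (6 : ZMod 7) = ((6 : ℕ) : ZMod 7) from rfl, hzk]
      exact cc_inv ha (hz7 _)
    · rw [a1, a2, ZMod.val_zero, pow_zero, cc_one ha, mul_one, show (6 : ZMod 7) = ((6 : ℕ) : ZMod 7) from rfl, hzk]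
      exact cc_inv ha (hz7 _)
    · rw [a1, a2, ZMod.val_zero, pow_zero, cc_one ha, mul_one, show (6 : ZMod 7) = ((6 : ℕ) : ZMod 7) from rfl, hzk]
      exact cc_inv ha (hz7 _)
    · rw [a1, a2, show (2 : ZMod 7) = ((2 : ℕ) : ZMod 7) from rfl, show (4 : ZMod 7) = ((4 : ℕ) : ZMod 7) from rfl, hzk, hzk]
      exact cc_tri ha (hz7 _)
    · rw [a1, a2, show (2 : ZMod 7) = ((2 : ℕ) : ZMod 7) from rfl, show (4 : ZMod 7) = ((4 : ℕ) : ZMod 7) from rfl, hzk, hzk,
        mul_assoc, mul_comm (cc a _) (cc a _), ← mul_assoc]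
      exact cc_tri ha (hz7 _)
  rw [key, one_mul]

end Cfsg.Agent.H917.L27
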