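import Cfsg.Agent.H917.OmBase

/-!
# Tools for representations in `Ω₈⁻(q)` (helper917, row S5827)

* `Bf` : the invariant symmetric bilinear form over the algebraic closure; `finrank_le_four` : totally isotropic subspaces;
* `gram_card` : vectors with Gram matrix `(α - β) I + β J`, `α ≠ β`;
* `scott` : `x`, `y` without common fixed vectors: `16 ≤ codim x + codim y + codim (x y)`;
* `exists_W_inf` : weights in invariant subspaces;
* `rank_one` : `dim V^U ≥ 2` and an eigenvector for a subgroup `B` with two double cosets give `|G : B| ≤ 8`.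
-/

set_option autoImplicit false
set_option linter.unusedSectionVars false

namespace Cfsg.Agent.H917.Om

open Cfsg Cfsg.Geo Module
open Matrix hiding mul_apply'
open Cfsg.Agent.H637.JW

universe u v

variable {F : Type u} [Field F] {T : Type v} [Group T]

namespace OC

variable (h : OC F T)

/-- The invariant form as a bilinear form. -/
noncomputable def Bf : LinearMap.BilinForm (AlgebraicClosure F) (Fin 8 → AlgebraicClosure F) :=
  LinearMap.mk₂ (AlgebraicClosure F) h.B h.B_add_left h.B_smul_left h.B_add_right h.B_smul_right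

theorem Bf_apply (u v : Fin 8 → AlgebraicClosure F) : h.Bf u v = h.B u v := rfl

theorem Bf_symm : h.Bf.IsSymm := ⟨fun u v => h.B_comm u v⟩

theorem Bf_nondeg : h.Bf.Nondegenerate := by
  refine ⟨fun v hv => ?_, fun v hv => ?_⟩
  · exact h.B_nondeg fun u => by rw [h.B_comm]; exact hv u
  · exact h.B_nondeg hv

theorem finrank_orth (U : Submodule (AlgebraicClosure F) (Fin 8 → AlgebraicClosure F)) :
    finrank (AlgebraicClosure F) (h.Bf.orthogonal U) + finrank (AlgebraicClosure F) U = 8 := by
  have h1 := LinearMap.BilinForm.finrank_orthogonal h.Bf_nondeg U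
  have h2 := Submodule.finrank_le U
  rw [Module.finrank_fin_fun] at h1 h2
  omega

/-- totally isotropic subspaces have dimension at most four -/
theorem finrank_le_four {U : Submodule (AlgebraicClosure F) (Fin 8 → AlgebraicClosure F)}
    (hU : ∀ u ∈ U, ∀ v ∈ U, h.B u v = 0) : finrank (AlgebraicClosure F) U ≤ 4 := by
  have h1 := h.finrank_orth U
  have h2 : U ≤ h.Bf.orthogonal U := by
    intro u hu
    rw [LinearMap.BilinForm.mem_orthogonal_iff]
    intro v hv
    exact hU v hv u hu
  have h3 := Submodule.finrank_mono h2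
  omega

/-- **Gram matrices `(α - β) I + β J`.** -/
theorem gram_card {ι : Type*} [Fintype ι] [DecidableEq ι] (w : ι → Fin 8 → AlgebraicClosure F)
    {α β : AlgebraicClosure F} (hαβ : α ≠ β) (hB : ∀ i j, h.B (w i) (w j) = if i = j then α else β) :
    Fintype.card ι ≤ 9 ∧ (Fintype.card ι = 9 → α + 8 * β = 0) := by
  have hsum : ∀ (c : ι → AlgebraicClosure F) (j : ι), h.B (∑ i, c i • w i) (w j) = c j * (α - β) + (∑ i, c i) * β := by
    intro c j
    have h1 : h.B (∑ i, c i • w i) (w j) = ∑ i, c i * h.B (w i) (w j) := by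
      have : h.Bf (∑ i, c i • w i) (w j) = ∑ i, c i * h.B (w i) (w j) := by
        rw [map_sum, LinearMap.sum_apply]
        refine Finset.sum_congr rfl fun i _ => ?_
        rw [map_smul, LinearMap.smul_apply, smul_eq_mul]
        rfl
      exact this
    rw [h1]
    have h2 : ∀ i, c i * h.B (w i) (w j) = c i * β + (if i = j then c j * (α - β) else 0) := by
      intro i
      rw [hB]
      by_cases hij : i = j
      · subst hij
        rw [if_pos rfl, if_pos rfl]; ring
      · rw [if_neg hij, if_neg hij, add_zero]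
    rw [Finset.sum_congr rfl fun i _ => h2 i, Finset.sum_add_distrib, ← Finset.sum_mul, Finset.sum_ite_eq' Finset.univ,
      if_pos (Finset.mem_univ _), add_comm]
  have hrel : ∀ c : ι → AlgebraicClosure F, ∑ i, c i • w i = 0 → ∀ j, c j * (α - β) + (∑ i, c i) * β = 0 := by
    intro c hc j
    rw [← hsum, hc]
    have := h.B_smul_left 0 0 (w j)
    rw [zero_smul, zero_mul] at this
    exact this
  have hconst : ∀ c : ι → AlgebraicClosure F, ∑ i, c i • w i = 0 → ∀ i j, c i = c j := by
    intro c hc i j
    have h1 := hrel c hc i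
    have h2 := hrel c hc j
    have h3 : (c i - c j) * (α - β) = 0 := by linear_combination h1 - h2
    exact sub_eq_zero.1 ((mul_eq_zero.1 h3).resolve_right (sub_ne_zero.2 hαβ))
  constructor
  · by_contra hcon
    push Not at hcon
    obtain ⟨i0⟩ : Nonempty ι := Fintype.card_pos_iff.1 (by omega)
    have hli : LinearIndependent (AlgebraicClosure F) (fun j : {j : ι // j ≠ i0} => w j) := by
      rw [Fintype.linearIndependent_iff]
      intro y hy j
      let y' : ι → AlgebraicClosure F := fun k => if hk : k ≠ i0 then y ⟨k, hk⟩ else 0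
      have h1 : ∑ k, y' k • w k = 0 := by
        rw [← Finset.sum_subset (Finset.subset_univ (Finset.univ.filter (· ≠ i0)))]
        · rw [Finset.sum_subtype (Finset.univ.filter (· ≠ i0)) (p := fun k => k ≠ i0) (by simp), ← hy]
          refine Finset.sum_congr rfl fun k _ => ?_
          simp only [y']
          rw [dif_pos k.2]
        · intro k _ hk
          simp only [Finset.mem_filter, Finset.mem_univ, true_and, not_not] at hk
          simp only [y']
          rw [dif_neg (not_not.2 hk), zero_smul]
      have h2 := hconst y' h1 j i0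
      simp only [y'] at h2
      rw [dif_pos j.2, dif_neg (not_not.2 rfl)] at h2
      exact h2
    have h3 := hli.fintype_card_le_finrank
    rw [Fintype.card_subtype_compl, Fintype.card_subtype_eq, Module.finrank_fin_fun] at h3
    omega
  · intro h9
    obtain ⟨i0⟩ : Nonempty ι := Fintype.card_pos_iff.1 (by omega)
    have hdep : ¬ LinearIndependent (AlgebraicClosure F) w := by
      intro hli
      have h3 := hli.fintype_card_le_finrank
      rw [Module.finrank_fin_fun] at h3
      omega
    rw [Fintype.not_linearIndependent_iff] at hdep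
    obtain ⟨c, hc, i, hi⟩ := hdep
    have h1 := hrel c hc i
    have h2 : ∑ j, c j = 9 * c i := by
      rw [Finset.sum_congr rfl fun j _ => hconst c hc j i, Finset.sum_const, Finset.card_univ, h9, nsmul_eq_mul]
      norm_num
    rw [h2] at h1
    have h3 : c i * (α + 8 * β) = 0 := by linear_combination h1
    exact (mul_eq_zero.1 h3).resolve_left hi

/-- the range of `g - 1` -/
noncomputable def R (g : T) : Submodule (AlgebraicClosure F) (Fin 8 → AlgebraicClosure F) :=
  LinearMap.range (h.σ g - 1)

theorem finrank_R (g : T) : finrank (AlgebraicClosure F) (h.R g) + finrank (AlgebraicClosure F) (Fix h.σ g) = 8 := by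
  have h1 := LinearMap.finrank_range_add_finrank_ker (h.σ g - 1)
  rw [Module.finrank_fin_fun] at h1
  have h2 : Fix h.σ g = LinearMap.ker (h.σ g - 1) := by
    ext v
    rw [mem_Fix, LinearMap.mem_ker, LinearMap.sub_apply, Module.End.one_apply, sub_eq_zero]
  rw [h2]
  exact h1

/-- a vector orthogonal to `(g - 1) V` is fixed by `g` -/
theorem fixed_of_orth {g : T} {v : Fin 8 → AlgebraicClosure F} (hv : ∀ u, h.B (h.σ g u - u) v = 0) : h.σ g v = v := by
  have h1 : h.σ g⁻¹ v = v := by
    rw [← sub_eq_zero]
    apply h.B_nondeg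
    intro u
    have h2 := hv u
    rw [sub_eq_add_neg, h.B_add_left, ← neg_one_smul (AlgebraicClosure F) u, h.B_smul_left] at h2
    have h3 := h.B_inv g⁻¹ (h.σ g u) v
    rw [← mul_apply', inv_mul_cancel, map_one, Module.End.one_apply] at h3
    rw [sub_eq_add_neg, h.B_add_right, ← neg_one_smul (AlgebraicClosure F) v, h.B_smul_right, h3]
    linear_combination h2
  have h2 := congrArg (h.σ g) h1
  rw [← mul_apply', mul_inv_cancel, map_one, Module.End.one_apply] at h2
  exact h2.symm

/-- **Scott's lemma.** -/
theorem scott {x y : T} (hxy : ∀ v, h.σ x v = v → h.σ y v = v → v = 0) :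
    finrank (AlgebraicClosure F) (Fix h.σ x) + finrank (AlgebraicClosure F) (Fix h.σ y) +
      finrank (AlgebraicClosure F) (Fix h.σ (x * y)) ≤ 8 := by
  have hx := h.finrank_R x
  have hy := h.finrank_R y
  have hz := h.finrank_R (x * y)
  -- `R x ⊔ R y = ⊤`
  have htop : h.R x ⊔ h.R y = ⊤ := by
    have h1 := h.finrank_orth (h.R x ⊔ h.R y)
    have h2 : h.Bf.orthogonal (h.R x ⊔ h.R y) = ⊥ := by
      rw [eq_bot_iff]
      intro v hv
      rw [LinearMap.BilinForm.mem_orthogonal_iff] at hv
      rw [Submodule.mem_bot]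
      refine hxy v (h.fixed_of_orth fun u => ?_) (h.fixed_of_orth fun u => ?_)
      · exact hv _ (Submodule.mem_sup_left ⟨u, rfl⟩)
      · exact hv _ (Submodule.mem_sup_right ⟨u, rfl⟩)
    rw [h2, finrank_bot, zero_add] at h1
    exact Submodule.eq_top_of_finrank_eq (by rw [h1, Module.finrank_fin_fun])
  let δ : (h.R x × h.R y) × h.R (x * y) →ₗ[AlgebraicClosure F] (Fin 8 → AlgebraicClosure F) :=
    ((h.R x).subtype.coprod (h.R y).subtype).coprod (h.R (x * y)).subtype
  have hδ : LinearMap.range δ = ⊤ := by
    rw [eq_top_iff, ← htop]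
    intro v hv
    obtain ⟨a, ha, b, hb, rfl⟩ := Submodule.mem_sup.1 hv
    exact ⟨((⟨a, ha⟩, ⟨b, hb⟩), 0), by simp [δ]⟩
  let β : (Fin 8 → AlgebraicClosure F) →ₗ[AlgebraicClosure F] LinearMap.ker δ :=
    { toFun := fun v => ⟨((⟨h.σ x (h.σ y v) - h.σ y v, ⟨h.σ y v, rfl⟩⟩, ⟨h.σ y v - v, ⟨v, rfl⟩⟩),
        ⟨-(h.σ (x * y) v - v), neg_mem ⟨v, rfl⟩⟩), by
          rw [LinearMap.mem_ker]
          simp only [δ, LinearMap.coprod_apply, Submodule.subtype_apply, mul_apply']
          abel⟩
      map_add' := fun u v => by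
        apply Subtype.ext
        refine Prod.ext (Prod.ext (Subtype.ext ?_) (Subtype.ext ?_)) (Subtype.ext ?_) <;>
          simp only [map_add, Prod.fst_add, Prod.snd_add, Submodule.coe_add] <;> abel
      map_smul' := fun c v => by
        apply Subtype.ext
        refine Prod.ext (Prod.ext (Subtype.ext ?_) (Subtype.ext ?_)) (Subtype.ext ?_) <;>
          simp only [map_smul, Prod.smul_fst, Prod.smul_snd, Submodule.coe_smul, RingHom.id_apply, smul_sub, smul_neg] }
  have hβ : Function.Injective β := by
    refine (injective_iff_map_eq_zero β).2 fun v hv => ?_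
    have h1 := congrArg Subtype.val hv
    have h2 : h.σ y v - v = 0 := congrArg (fun z => ((z.1.2 : h.R y) : Fin 8 → AlgebraicClosure F)) h1
    have h3 : h.σ x (h.σ y v) - h.σ y v = 0 := congrArg (fun z => ((z.1.1 : h.R x) : Fin 8 → AlgebraicClosure F)) h1
    rw [sub_eq_zero] at h2
    rw [h2, sub_eq_zero] at h3
    exact hxy v h3 h2
  have h1 := LinearMap.finrank_le_finrank_of_injective hβ
  have h2 := LinearMap.finrank_range_add_finrank_ker δ
  rw [hδ, finrank_top, Module.finrank_fin_fun, Module.finrank_prod, Module.finrank_prod] at h2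
  rw [Module.finrank_fin_fun] at h1
  omega

end OC

/-- weights in invariant subspaces -/
theorem exists_W_inf {K V G : Type*} [Field K] [IsAlgClosed K] [AddCommGroup V] [Module K V] [FiniteDimensional K V]
    [Group G] {σ : G →* Module.End K V} {κ : Type*} {N : ℕ} [NeZero N] (hN : (N : K) ≠ 0) {ζ : K}
    (hζ : IsPrimitiveRoot ζ N) {x : κ → G} (hc : ∀ j k, x j * x k = x k * x j) (hx : ∀ k, x k ^ N = 1)
    (U : Submodule K V) (hU : ∀ k, ∀ u ∈ U, σ (x k) u ∈ U) (hU0 : U ≠ ⊥) :
    ∃ c : κ → ZMod N, ∃ u ∈ U, u ≠ 0 ∧ u ∈ W N ζ (fun k => σ (x k)) c := by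
  let f : κ → Module.End K U := fun k => (σ (x k)).restrict (hU k)
  have hfc : ∀ j k, f j * f k = f k * f j := by
    intro j k
    ext u
    have h1 : σ (x j * x k) (u : V) = σ (x k * x j) (u : V) := by rw [hc]
    rw [mul_apply', mul_apply'] at h1
    exact h1
  have hfp : ∀ k, f k ^ N = 1 := by
    intro k
    ext u
    have h1 : ∀ n : ℕ, (((f k ^ n) u : U) : V) = σ (x k ^ n) (u : V) := by
      intro n
      induction n with
      | zero => simp
      | succ n ih =>
        rw [pow_succ', pow_succ', Module.End.mul_apply, mul_apply', ← ih]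
        rfl
    rw [h1, hx, map_one]
    rfl
  have htop := iSup_W hN hζ hfc hfp
  by_contra hno
  push Not at hno
  apply hU0
  have h1 : (⊤ : Submodule K U) = ⊥ := by
    rw [← htop, eq_bot_iff]
    refine iSup_le fun c => ?_
    intro u hu
    rw [mem_W] at hu
    rw [Submodule.mem_bot]
    by_contra hu0
    refine hno c u.1 u.2 (fun h0 => hu0 (Subtype.ext h0)) ?_
    rw [mem_W]
    intro k
    exact congrArg Subtype.val (hu k)
  rw [eq_bot_iff]
  intro u hu
  have h2 : (⟨u, hu⟩ : U) ∈ (⊤ : Submodule K U) := trivial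
  rw [h1, Submodule.mem_bot] at h2
  exact congrArg Subtype.val h2

end Cfsg.Agent.H917.Om
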