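import Cfsg.Agent.H917.NatRep
import Cfsg.Agent.H917.Four
import Cfsg.Agent.H917.CoreLe

/-!
# Quasisimple subgroups of `GL_8(F)` containing the core of `N(4∘2^{1+6})` (helper917)

`fam8` : a perfect `P ≤ GL_8(F)`, simple modulo scalars, `char F` odd, containing a scalar of order 4, of order divisible
by `2^15` modulo scalars, none of whose projective representations in odd characteristic has degree `< 8` or between
`8` and `12` : `P` modulo scalars is `PSL_m`, `PSU_m` (`m ≥ 8`) or `PΩ^±_{2l}` (`l ≥ 7`) in the same characteristic.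
-/

set_option autoImplicit false

namespace Cfsg.Agent.H917

open Cfsg Subgroup Matrix
open scoped MatrixGroups

universe u v

/-- the four families -/
def Fam (p : ℕ) (T : Type v) [Group T] : Prop :=
  (∃ (K : Type) (_ : Field K) (_ : Fintype K) (m : ℕ), CharP K p ∧ 8 ≤ m ∧
      Nonempty (T ≃* Matrix.ProjectiveSpecialLinearGroup (Fin m) K)) ∨
  (∃ (K : Type) (_ : Field K) (_ : Fintype K) (m q' : ℕ), CharP K p ∧ Fintype.card K = q' ^ 2 ∧ 8 ≤ m ∧
      Nonempty (T ≃* PSU m K q')) ∨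
  (∃ (K : Type) (_ : Field K) (_ : Fintype K) (l : ℕ), CharP K p ∧ 7 ≤ l ∧
      Nonempty (T ≃* POmega K (quadFormPlus l K))) ∨
  (∃ (K : Type) (_ : Field K) (_ : Fintype K) (l : ℕ) (a b : K), CharP K p ∧ 7 ≤ l ∧
      (∀ z₁ z₂ : K, z₁ ^ 2 + a * z₁ * z₂ + b * z₂ ^ 2 = 0 → z₁ = 0 ∧ z₂ = 0) ∧
      Nonempty (T ≃* POmega K (quadFormMinus (l - 1) K a b)))

/-- the condition on projective representations in odd characteristic -/
def Big8 (T : Type v) [Group T] : Prop :=
  ∀ (K : Type) [Field K] (κ : Type) [Fintype κ] [DecidableEq κ], (2 : K) ≠ 0 → 2 ≤ Fintype.card κ → NatRep K κ T →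
    8 ∣ Fintype.card κ ∨ 12 ≤ Fintype.card κ

variable {F : Type u} [Field F]

section

variable {P : Subgroup (GL (Fin 8) F)}

/-- the scalars of a perfect group form a 2-group -/
theorem scalars_isPGroup (hP : ⁅P, P⁆ = P) : IsPGroup 2 ((Cfsg.Geo.scalars (Fin 8) F).subgroupOf P) := by
  intro z
  refine ⟨3, ?_⟩
  have h1 : ((z : P) : GL (Fin 8) F) ∈ Cfsg.Geo.scalars (Fin 8) F := z.2
  have h2 := H912.Bd.le_specialLinear_of_perfect P hP z.1.2
  obtain ⟨c, hc⟩ := (Cfsg.Geo.mem_scalars_iff _).1 h1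
  rw [Cfsg.Geo.specialLinear, MonoidHom.mem_ker] at h2
  have h3 : Matrix.det (((z : P) : GL (Fin 8) F) : Matrix (Fin 8) (Fin 8) F) = 1 := by
    rw [← Matrix.GeneralLinearGroup.val_det_apply, h2, Units.val_one]
  rw [hc, Matrix.det_smul, Matrix.det_one, mul_one, Fintype.card_fin] at h3
  have key : ∀ x : GL (Fin 8) F, (x : Matrix (Fin 8) (Fin 8) F) ^ 8 = 1 → x ^ 8 = 1 := by
    intro x hx
    apply Units.ext
    rw [Units.val_pow_eq_pow_val, hx, Units.val_one]
  have h4 : ((z : P) : GL (Fin 8) F) ^ 8 = 1 := by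
    apply key
    rw [hc, smul_pow, one_pow, h3, one_smul]
  apply Subtype.ext
  apply Subtype.ext
  exact h4

theorem ker_le_center : (Cfsg.Geo.scalars (Fin 8) F).subgroupOf P ≤ center P := by
  intro z hz
  rw [mem_center_iff]
  intro x
  apply Subtype.ext
  exact (scalars_comm (F := F) hz (x : GL (Fin 8) F)).symm

theorem commutator_top {G : Type*} [Group G] {P : Subgroup G} (hP : ⁅P, P⁆ = P) : commutator P = ⊤ := by
  apply Subgroup.map_injective (Subgroup.subtype_injective P)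
  rw [commutator_def, Subgroup.map_commutator, ← MonoidHom.range_eq_map, Subgroup.range_subtype, hP]

theorem not_noFour [Finite F] (hP : ⁅P, P⁆ = P) {c : F} (hc : c ^ 2 = -1) (h2 : (2 : F) ≠ 0) {z : GL (Fin 8) F}
    (hz : z ∈ P) (hzc : (z : Matrix (Fin 8) (Fin 8) F) = c • 1)
    (h : NoFour.{u} (P ⧸ (Cfsg.Geo.scalars (Fin 8) F).subgroupOf P)) : False := by
  have hker : (QuotientGroup.mk' ((Cfsg.Geo.scalars (Fin 8) F).subgroupOf P)).ker =
    (Cfsg.Geo.scalars (Fin 8) F).subgroupOf P := QuotientGroup.ker_mk' _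
  have hc0 : c ≠ 0 := by
    rintro rfl
    rw [zero_pow two_ne_zero] at hc
    exact one_ne_zero (neg_eq_zero.1 hc.symm)
  have hzs : z ∈ Cfsg.Geo.scalars (Fin 8) F := (Cfsg.Geo.mem_scalars_iff _).2 ⟨Units.mk0 c hc0, hzc⟩
  have h1 := h P (QuotientGroup.mk' ((Cfsg.Geo.scalars (Fin 8) F).subgroupOf P)) (QuotientGroup.mk'_surjective _)
    (by rw [hker]; exact ker_le_center) (commutator_top hP) (by rw [hker]; exact scalars_isPGroup hP) ⟨z, hz⟩
    (by rw [hker, mem_subgroupOf]; exact hzs)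
  have h3 : (z : Matrix (Fin 8) (Fin 8) F) ^ 2 = 1 :=
    congrArg (fun x : P => ((x : GL (Fin 8) F) : Matrix (Fin 8) (Fin 8) F)) h1
  rw [hzc, smul_pow, one_pow, hc] at h3
  have h4 := congrFun (congrFun h3 0) 0
  simp only [Matrix.smul_apply, Matrix.one_apply_eq, smul_eq_mul, mul_one] at h4
  exact h2 (by linear_combination -h4)

end

section

open Cfsg.Agent.LieClassical Cfsg.Agent.LieClassical.OrthCore Cfsg.Agent.LieClassical.OrthTrans
  Cfsg.Agent.LieClassical.OrthFinite Cfsg.Agent.LieClassical.OrthForms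

theorem char_dich {K : Type v} [Field K] [Finite K] {F : Type u} [Field F] {p : ℕ} [CharP F p] (hp : p.Prime)
    (hodd : Odd (Nat.card K)) : CharP K p ∨ ∃ r : ℕ, r.Prime ∧ CharP K r ∧ (r : F) ≠ 0 ∧ ¬ r ∣ 8 := by
  obtain ⟨r, hr⟩ := CharP.exists K
  have hr' : r.Prime := (CharP.char_is_prime_or_zero K r).resolve_right (CharP.char_ne_zero_of_finite K r)
  by_cases h : (r : F) = 0
  · left
    have h1 : p ∣ r := (CharP.cast_eq_zero_iff F p r).1 h
    have h2 : p = r := (Nat.prime_dvd_prime_iff_eq hp hr').1 h1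
    rw [h2]; exact hr
  · right
    refine ⟨r, hr', hr, h, ?_⟩
    intro h8
    have h2 : r ∣ 2 := hr'.dvd_of_dvd_pow (show r ∣ 2 ^ 3 from h8)
    have h3 : r = 2 := (Nat.prime_dvd_prime_iff_eq hr' Nat.prime_two).1 h2
    subst h3
    have : Fintype K := Fintype.ofFinite K
    obtain ⟨n, -, hn⟩ := FiniteField.card K 2
    rw [Nat.card_eq_fintype_card, hn] at hodd
    have h4 : Even (2 ^ (n : ℕ)) := (Nat.even_pow' n.2.ne').2 even_two
    exact (Nat.not_even_iff_odd.2 hodd) h4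

theorem two_ne_zero_of_odd {K : Type v} [Field K] [Finite K] (hodd : Odd (Nat.card K)) : (2 : K) ≠ 0 := by
  intro h
  have : Fintype K := Fintype.ofFinite K
  rw [Nat.card_eq_fintype_card] at hodd
  have h1 : CharP K 2 := CharTwo.of_one_ne_zero_of_two_eq_zero one_ne_zero h
  obtain ⟨n, -, hn⟩ := FiniteField.card K 2
  rw [hn] at hodd
  exact (Nat.not_even_iff_odd.2 hodd) ((Nat.even_pow' n.2.ne').2 even_two)

variable [Finite F] {P : Subgroup (GL (Fin 8) F)}

theorem fam8 {p : ℕ} [CharP F p] (hp : p.Prime) (hP : ⁅P, P⁆ = P) {T : Type v} [Group T] [Finite T]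
    (e : (P ⧸ (Cfsg.Geo.scalars (Fin 8) F).subgroupOf P) ≃* T) (hB : Big8 T)
    (h : (∃ (K : Type) (_ : Field K) (_ : Fintype K) (n : ℕ), 2 ≤ n ∧ Odd (Fintype.card K) ∧
      Nonempty (T ≃* Matrix.ProjectiveSpecialLinearGroup (Fin n) K)) ∨
    (∃ (K : Type) (_ : Field K) (_ : Fintype K) (n q : ℕ), Fintype.card K = q ^ 2 ∧ 3 ≤ n ∧ Odd q ∧
      Nonempty (T ≃* PSU n K q)) ∨
    (∃ (K : Type) (_ : Field K) (_ : Fintype K) (l : ℕ), 5 ≤ l ∧ Odd l ∧ Odd (Fintype.card K) ∧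
      Nonempty (T ≃* POmega K (quadFormPlus l K))) ∨
    (∃ (K : Type) (_ : Field K) (_ : Fintype K) (l : ℕ) (a b : K), 5 ≤ l ∧ Odd l ∧ Odd (Fintype.card K) ∧
      (∀ z₁ z₂ : K, z₁ ^ 2 + a * z₁ * z₂ + b * z₂ ^ 2 = 0 → z₁ = 0 ∧ z₂ = 0) ∧
      Nonempty (T ≃* POmega K (quadFormMinus (l - 1) K a b)))) : Fam p T := by
  have hPR : ∀ r : ℕ, r.Prime → ¬ r ∣ 8 → H912.Bd.PR F 8 r T := fun r hr hr8 => H912.Bd.PR.of_perfect P hP hr hr8 e
  have fin : ∀ r : ℕ, r.Prime → (r : F) ≠ 0 → ¬ r ∣ 8 → BigE r 9 T → False := fun r hr hrF hr8 hE =>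
    hE.false (by norm_num) (hPR r hr hr8) hr hrF
  rcases h with ⟨K, _, _, n, hn, hodd, ⟨f⟩⟩ | ⟨K, _, _, n, q, hK, hn, hodd, ⟨f⟩⟩ | ⟨K, _, _, l, hl, hlo, hodd, ⟨f⟩⟩ |
    ⟨K, _, _, l, a, b, hl, hlo, hodd, hab, ⟨f⟩⟩
  · have hodd' : Odd (Nat.card K) := by rw [Nat.card_eq_fintype_card]; exact hodd
    have h1 := hB K (Fin n) (two_ne_zero_of_odd hodd') (by simpa using hn) ((natRep_psl K n).congr f)
    rw [Fintype.card_fin] at h1
    have h8 : 8 ≤ n := by omega
    rcases char_dich (F := F) hp hodd' with h | ⟨r, hr, hrK, hrF, hr8⟩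
    · exact Or.inl ⟨K, inferInstance, inferInstance, n, h, h8, ⟨f⟩⟩
    · exact (fin r hr hrF hr8 ((bigE_psl (by omega)).congr f)).elim
  · have hodd' : Odd (Nat.card K) := by
      rw [Nat.card_eq_fintype_card, hK]; exact hodd.pow
    have h1 := hB K (Fin n) (two_ne_zero_of_odd hodd') (by rw [Fintype.card_fin]; omega)
      ((natRep_psu hK hn).congr f)
    rw [Fintype.card_fin] at h1
    have h8 : 8 ≤ n := by omega
    rcases char_dich (F := F) hp hodd' with h | ⟨r, hr, hrK, hrF, hr8⟩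
    · exact Or.inr (Or.inl ⟨K, inferInstance, inferInstance, n, q, h, hK, h8, ⟨f⟩⟩)
    · exact (fin r hr hrF hr8 ((bigE_psu hK (by omega)).congr f)).elim
  · have hodd' : Odd (Nat.card K) := by rw [Nat.card_eq_fintype_card]; exact hodd
    have hG : Good (plusForm l K) := good_of_finite (nondeg_plusForm l K) (by
      rw [Module.finrank_fintype_fun_eq_card, Fintype.card_sum, Fintype.card_fin]; omega)
    have hcar : Fintype.card (Fin l ⊕ Fin l) = l + l := by rw [Fintype.card_sum, Fintype.card_fin]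
    rw [← coe_plusForm] at f
    have h1 := hB K (Fin l ⊕ Fin l) (two_ne_zero_of_odd hodd') (by rw [hcar]; omega) ((natRep_pomega hG).congr f)
    rw [hcar] at h1
    obtain ⟨l', rfl⟩ := hlo
    have h8 : 7 ≤ 2 * l' + 1 := by omega
    rcases char_dich (F := F) hp hodd' with h | ⟨r, hr, hrK, hrF, hr8⟩
    · rw [coe_plusForm] at f
      exact Or.inr (Or.inr (Or.inl ⟨K, inferInstance, inferInstance, 2 * l' + 1, h, h8, ⟨f⟩⟩))
    · exact (fin r hr hrF hr8 ((bigE_pomega hG (by rw [hcar]; omega)).congr f)).elim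
  · have hodd' : Odd (Nat.card K) := by rw [Nat.card_eq_fintype_card]; exact hodd
    have hcar : Fintype.card ((Fin (l - 1) ⊕ Fin (l - 1)) ⊕ Fin 2) = (l - 1) + (l - 1) + 2 := by
      rw [Fintype.card_sum, Fintype.card_sum, Fintype.card_fin, Fintype.card_fin]
    have hG : Good (minusForm (l - 1) K a b) := good_of_finite (nondeg_minusForm (l - 1) K a b hab) (by
      rw [Module.finrank_fintype_fun_eq_card, hcar]; omega)
    rw [← coe_minusForm] at f
    have h1 := hB K ((Fin (l - 1) ⊕ Fin (l - 1)) ⊕ Fin 2) (two_ne_zero_of_odd hodd') (by rw [hcar]; omega)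
      ((natRep_pomega hG).congr f)
    rw [hcar] at h1
    obtain ⟨l', rfl⟩ := hlo
    have h8 : 7 ≤ 2 * l' + 1 := by omega
    rcases char_dich (F := F) hp hodd' with h | ⟨r, hr, hrK, hrF, hr8⟩
    · rw [coe_minusForm] at f
      exact Or.inr (Or.inr (Or.inr ⟨K, inferInstance, inferInstance, 2 * l' + 1, a, b, h, h8, hab, ⟨f⟩⟩))
    · exact (fin r hr hrF hr8 ((bigE_pomega hG (by rw [hcar]; omega)).congr f)).elim

end

end Cfsg.Agent.H917
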