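import Cfsg.Agent.H917.Res8
import Cfsg.Agent.H918.Order8
import Cfsg.Agent.H920.CsFinal
import Cfsg.Agent.H920.CsFace
import Cfsg.Agent.H920.CsMin
import Cfsg.Agent.S0245

/-!
# The almost simple overgroups of `N(4∘2^{1+6})` in `SL_8(p)`, `p ≡ 1 mod 4`, and `SU_8(p)`, `p ≡ 3 mod 4` (helper917)
-/

set_option autoImplicit false

namespace Cfsg.Agent.H917

open Cfsg Cfsg.Geo Subgroup Matrix Cfsg.Agent.H920
open scoped MatrixGroups

universe u v

theorem big8_of_aff {Γ : Type*} [Group Γ] (D : Aff 2 3 Γ) {T : Type v} [Group T] (ψ : Γ →* T)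
    (hψ : Function.Injective ψ) : Big8 T := by
  rintro K _ κ _ _ h2 hκ ⟨θ, hθ⟩
  have hne : Nonempty κ := Fintype.card_pos_iff.1 (by omega)
  have : Fact (Nat.Prime 2) := ⟨Nat.prime_two⟩
  let τ : Γ → GL κ K := fun g => Quotient.out (θ (ψ g))
  have hτ : ∀ g, (QuotientGroup.mk (τ g) : GL κ K ⧸ center (GL κ K)) = θ (ψ g) := fun g => Quotient.out_eq' _
  have hscal : ∀ z ∈ center (GL κ K), ∃ c : K, c ≠ 0 ∧ (z : Matrix κ κ K) = c • 1 := by
    intro z hz
    obtain ⟨c, hc⟩ := Matrix.GeneralLinearGroup.mem_center_iff_val_mem_range_scalar.1 hz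
    have hc' : (z : Matrix κ κ K) = c • 1 := by
      rw [← hc, Matrix.scalar_apply, Matrix.smul_one_eq_diagonal]
    refine ⟨c, ?_, hc'⟩
    rintro rfl
    rw [zero_smul] at hc'
    exact Units.ne_zero z hc'
  have hproj : IsProj τ := by
    intro a b
    have h1 : (QuotientGroup.mk (τ (a * b)) : GL κ K ⧸ center (GL κ K)) = QuotientGroup.mk (τ a * τ b) := by
      rw [hτ, map_mul, map_mul, QuotientGroup.mk_mul, hτ, hτ]
    rw [QuotientGroup.eq] at h1
    obtain ⟨c, hc, hz⟩ := hscal _ h1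
    refine ⟨c⁻¹, inv_ne_zero hc, ?_⟩
    have h3 : τ a * τ b = τ (a * b) * ((τ (a * b))⁻¹ * (τ a * τ b)) := by group
    have h4 := congrArg (fun x : GL κ K => (x : Matrix κ κ K)) h3
    simp only [Units.val_mul] at h4
    rw [h4, ← Units.val_mul, ← Units.val_mul, hz, mul_smul_comm, mul_one, smul_smul, inv_mul_cancel₀ hc, one_smul]
  obtain ⟨v₀, hv₀⟩ : ∃ v₀ : Vec 2 3, v₀ ≠ 0 := ⟨Pi.single (Sum.inl 0) 1, fun h => by
    have := congrFun h (Sum.inl 0)
    simp at this⟩
  have hnsc : ∀ c : K, (τ (D.x v₀) : Matrix κ κ K) ≠ c • (1 : Matrix κ κ K) := by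
    intro c hc
    have h1 : θ (ψ (D.x v₀)) = 1 := by
      rw [← hτ, QuotientGroup.eq_one_iff]
      exact mem_center_GL_of_smul hc
    have h3 : ψ (D.x v₀) = 1 := hθ (by rw [h1, map_one])
    have h4 : D.x v₀ = 1 := hψ (by rw [h3, map_one])
    exact hv₀ (D.inj (h4.trans D.x_zero.symm))
  have h2' : ((2 : ℕ) : K) ≠ 0 := by exact_mod_cast h2
  rcases D.min h2' hproj hnsc with h | ⟨h, -⟩ | ⟨-, h⟩
  · left; exact h
  · exact absurd h (by decide)
  · right
    by_contra hcon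
    push Not at hcon
    have h5 : Fintype.card κ * (Fintype.card κ - 1) ≤ 11 * 10 := Nat.mul_le_mul (by omega) (by omega)
    norm_num at h
    omega

section

variable {F : Type u} [Field F] [Fintype F] {R : Subgroup (GL (Fin 8) F)} {k : ℕ} {C : Coord R 2 k}
  {Y X P : Subgroup (GL (Fin 8) F)}

theorem over_k (h : IsOver C Y X P) : k = 3 := by
  have h1 := h.card_eq
  rw [Fintype.card_fin] at h1
  have h2 : (2 : ℕ) ^ 3 = 2 ^ k := by rw [← h1]; norm_num
  exact (Nat.pow_right_injective (le_refl 2) h2).symm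

theorem over_scalar (h : IsOver C Y X P) : ∃ (z : GL (Fin 8) F) (c : F), z ∈ P ∧ c ^ 2 = -1 ∧
    (z : Matrix (Fin 8) (Fin 8) F) = c • 1 ∧ (2 : F) ≠ 0 := by
  have hfin : Finite (GL (Fin 8) F) := inferInstance
  have hZ : Nat.card (Subgroup.center R) = 4 := by
    rcases h.type with ⟨h1, -⟩ | ⟨-, h1, -⟩
    · exact absurd h1 (by decide)
    · exact h1
  obtain ⟨z, i, hi, hz, hord, -⟩ := exists_i_of_type h.hR h.habs hZ
  refine ⟨z, i, h.R_le z.2, hi, hz, ?_⟩
  intro h2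
  have h3 : z ^ 2 = 1 := by
    apply Subtype.ext
    apply Units.ext
    rw [Subgroup.coe_pow, Units.val_pow_eq_pow_val, hz, smul_pow, one_pow, hi]
    have h4 : (-1 : F) = 1 := by linear_combination -h2
    rw [h4, one_smul]; rfl
  rw [h3, orderOf_one] at hord
  exact absurd hord (by norm_num)

/-- `Y` modulo scalars embeds in `P` modulo scalars -/
def overHom {Y P : Subgroup (GL (Fin 8) F)} (h : Y ≤ P) : (Y ⧸ (scalars (Fin 8) F).subgroupOf Y) →*
    (P ⧸ (scalars (Fin 8) F).subgroupOf P) :=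
  QuotientGroup.map _ _ (Subgroup.inclusion h) (by
    intro x hx
    exact hx)

theorem overHom_injective {Y P : Subgroup (GL (Fin 8) F)} (h : Y ≤ P) : Function.Injective (overHom h) := by
  rw [injective_iff_map_eq_one]
  intro x hx
  obtain ⟨y, rfl⟩ := QuotientGroup.mk_surjective x
  have h1 : (QuotientGroup.mk (Subgroup.inclusion h y) : P ⧸ (scalars (Fin 8) F).subgroupOf P) = 1 := hx
  rw [QuotientGroup.eq_one_iff] at h1
  rw [QuotientGroup.eq_one_iff]
  exact h1

theorem two_pow_dvd_affine : 2 ^ 15 ∣ 2 ^ (2 * 3) * Nat.card (Matrix.symplecticGroup (Fin 3) (ZMod 2)) := by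
  rw [S0245.result (F := ZMod 2) (q := 2) (by simp) 3]
  have h1 : ∏ i ∈ Finset.range 3, ((2 : ℕ) ^ (2 * (i + 1)) - 1) = 2835 := by decide
  rw [h1]
  norm_num

theorem over_fam {p : ℕ} [CharP F p] (hp : p.Prime)
    (hK : ∀ (T : Type u) [Group T] [Finite T] [IsSimpleGroup T], IsKnownSimple' T) (h : IsOver C Y X P) :
    Fam p (P ⧸ (scalars (Fin 8) F).subgroupOf P) := by
  have hfin : Finite (GL (Fin 8) F) := inferInstance
  have : Fact (Nat.Prime 2) := ⟨Nat.prime_two⟩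
  obtain rfl := over_k h
  have D : Aff 2 3 (Y ⧸ (scalars (Fin 8) F).subgroupOf Y) := h.core.aff h.habs
  have hinj := overHom_injective h.le
  have hB := big8_of_aff D (overHom h.le) hinj
  have h15 : 2 ^ 15 ∣ Nat.card (P ⧸ (scalars (Fin 8) F).subgroupOf P) := by
    refine two_pow_dvd_affine.trans ?_
    rw [← h.core.card_quotient h.habs]
    exact Subgroup.card_dvd_of_injective _ hinj
  have hsimple : IsSimpleGroup (P ⧸ (scalars (Fin 8) F).subgroupOf P) := h.isCore.simple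
  obtain ⟨z, c, hz, hc, hzc, h2⟩ := over_scalar h
  have hna : ¬ ∀ a b : (P ⧸ (scalars (Fin 8) F).subgroupOf P), a * b = b * a := fun hab =>
    h.isCore.nonabelian ⟨⟨hab⟩⟩
  refine fam8 hp h.isCore.perfect (MulEquiv.refl _) hB ?_
  rcases no_four.{u} (hK _) hna h15 with h1 | h1
  · exact (not_noFour h.isCore.perfect hc h2 hz hzc h1).elim
  · exact h1

theorem over_four_dvd (h : IsOver C Y X P) : 4 ∣ Nat.card ((scalars (Fin 8) F).subgroupOf P) := by
  have hfin : Finite (GL (Fin 8) F) := inferInstance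
  obtain ⟨z, c, hz, hc, hzc, h2⟩ := over_scalar h
  have hc0 : c ≠ 0 := by
    rintro rfl
    rw [zero_pow two_ne_zero] at hc
    exact one_ne_zero (neg_eq_zero.1 hc.symm)
  have hzs : z ∈ scalars (Fin 8) F := (mem_scalars_iff _).2 ⟨Units.mk0 c hc0, hzc⟩
  have h4 : z ^ 4 = 1 := by
    apply Units.ext
    rw [Units.val_pow_eq_pow_val, hzc, smul_pow, one_pow, Units.val_one, show c ^ 4 = (c ^ 2) ^ 2 by ring, hc]
    simp
  have h5 : z ^ 2 ≠ 1 := by
    intro h6
    have h7 : (z : Matrix (Fin 8) (Fin 8) F) ^ 2 = 1 := by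
      rw [← Units.val_pow_eq_pow_val, h6, Units.val_one]
    rw [hzc, smul_pow, one_pow, hc] at h7
    have h8 := congrFun (congrFun h7 0) 0
    simp only [Matrix.smul_apply, Matrix.one_apply_eq, smul_eq_mul, mul_one] at h8
    exact h2 (by linear_combination -h8)
  have h6 : orderOf z = 2 ^ 2 := orderOf_eq_prime_pow (p := 2) (n := 1) (by rw [pow_one]; exact h5) (by norm_num; exact h4)
  have h7 : orderOf (⟨⟨z, hz⟩, hzs⟩ : (scalars (Fin 8) F).subgroupOf P) = 4 := by
    rw [← Subgroup.orderOf_coe, ← Subgroup.orderOf_coe]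
    exact h6
  rw [← h7]
  exact orderOf_dvd_natCard _

theorem over_sl {p : ℕ} (hp : p.Prime) (hF : Fintype.card F = p) (h4 : p % 4 = 1)
    (hK : ∀ (T : Type u) [Group T] [Finite T] [IsSimpleGroup T], IsKnownSimple' T)
    (hX : X ≤ specialLinear (Fin 8) F) (h : IsOver C Y X P) : specialLinear (Fin 8) F ≤ P := by
  have hch : CharP F p := by
    have : Fact p.Prime := ⟨hp⟩
    exact charP_of_card_eq_prime hF
  have hle : P ≤ specialLinear (Fin 8) F := h.isCore.le.trans hX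
  have hZ := over_four_dvd h
  rcases over_fam hp hK h with ⟨K, _, _, m, _, hm, e⟩ | ⟨K, _, _, m, q', _, hq', hm, e⟩ | ⟨K, _, _, l, _, hl, e⟩ |
    ⟨K, _, _, l, a, b, _, hl, hab, e⟩
  · exact (H918.Order8.lin_psl hp hF hle hZ hm e).ge
  · exact (H918.Order8.lin_psu hp hF h4 hle hZ hm hq' e).elim
  · exact (H918.Order8.lin_plus hp hF h4 hle hZ hl e).elim
  · exact (H918.Order8.lin_minus hp hF h4 hle hZ hl hab e).elim

theorem over_su {p : ℕ} (hp : p.Prime) (hF : Fintype.card F = p ^ 2) (h4 : p % 4 = 3)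
    (hK : ∀ (T : Type u) [Group T] [Finite T] [IsSimpleGroup T], IsKnownSimple' T)
    (hX : X ≤ GU 8 F p ⊓ specialLinear (Fin 8) F) (h : IsOver C Y X P) : GU 8 F p ⊓ specialLinear (Fin 8) F ≤ P := by
  have hch : CharP F p := by
    have : Fact p.Prime := ⟨hp⟩
    exact charP_of_card_eq_prime_pow hF
  have hle : P ≤ GU 8 F p ⊓ specialLinear (Fin 8) F := h.isCore.le.trans hX
  have hZ := over_four_dvd h
  rcases over_fam hp hK h with ⟨K, _, _, m, _, hm, e⟩ | ⟨K, _, _, m, q', _, hq', hm, e⟩ | ⟨K, _, _, l, _, hl, e⟩ |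
    ⟨K, _, _, l, a, b, _, hl, hab, e⟩
  · exact (H918.Order8.uni_psl hp hF h4 hle hZ hm e).elim
  · exact (H918.Order8.uni_psu hp hF hle hZ hm hq' e).ge
  · exact (H918.Order8.uni_plus hp hF h4 hle hZ hl e).elim
  · exact (H918.Order8.uni_minus hp hF h4 hle hZ hl hab e).elim

end

end Cfsg.Agent.H917
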