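import Cfsg.Prelude.Def_GeometricClasses

/-!
# Transporting forms along `glReindex` and conjugation (helper917)

For a form `f₀` on `F^κ`, a bijection `e : ι ≃ κ` and `P : GL ι F`, `pullForm e P f₀` is the form
`(u, v) ↦ f₀ ((P⁻¹ u) ∘ e.symm) ((P⁻¹ v) ∘ e.symm)` on `F^ι`. The conjugate by `P` of the transported similarity
group of `f₀` is inside the similarity group of `pullForm e P f₀`.
-/

set_option autoImplicit false
set_option linter.unusedSectionVars false
set_option linter.unusedVariables false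

namespace Cfsg.Agent.H917

open Cfsg Cfsg.Geo
open scoped MatrixGroups Matrix Kronecker

variable {ι κ : Type} [Fintype ι] [DecidableEq ι] [Fintype κ] [DecidableEq κ] {F : Type*} [Field F]

lemma inv_mul_coe (h : GL ι F) : ((h⁻¹ : GL ι F) : Matrix ι ι F) * (h : Matrix ι ι F) = 1 := by
  rw [← Units.val_mul, inv_mul_cancel, Units.val_one]

lemma mul_inv_coe (h : GL ι F) : (h : Matrix ι ι F) * ((h⁻¹ : GL ι F) : Matrix ι ι F) = 1 := by
  rw [← Units.val_mul, mul_inv_cancel, Units.val_one]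

/-- Pull a vector of `F^ι` back to `F^κ`: `(P⁻¹ v) ∘ e.symm`. -/
def pullVec (e : ι ≃ κ) (P : GL ι F) (v : ι → F) : κ → F :=
  (((P⁻¹ : GL ι F) : Matrix ι ι F) *ᵥ v) ∘ e.symm

/-- The pulled back two-argument form. -/
def pullForm (e : ι ≃ κ) (P : GL ι F) (f₀ : (κ → F) → (κ → F) → F) (u v : ι → F) : F :=
  f₀ (pullVec e P u) (pullVec e P v)

/-- The pulled back one-argument form. -/
def pullQuad (e : ι ≃ κ) (P : GL ι F) (Q₀ : (κ → F) → F) (v : ι → F) : F :=
  Q₀ (pullVec e P v)

lemma pullVec_add (e : ι ≃ κ) (P : GL ι F) (u v : ι → F) :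
    pullVec e P (u + v) = pullVec e P u + pullVec e P v := by
  unfold pullVec
  rw [Matrix.mulVec_add]
  rfl

lemma pullVec_smul (e : ι ≃ κ) (P : GL ι F) (c : F) (v : ι → F) :
    pullVec e P (c • v) = c • pullVec e P v := by
  unfold pullVec
  rw [Matrix.mulVec_smul]
  rfl

lemma pullVec_surj (e : ι ≃ κ) (P : GL ι F) (w : κ → F) : ∃ v, pullVec e P v = w := by
  refine ⟨(P : Matrix ι ι F) *ᵥ (w ∘ e), ?_⟩
  unfold pullVec
  rw [Matrix.mulVec_mulVec, inv_mul_coe, Matrix.one_mulVec]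
  funext k
  simp

lemma pullVec_eq_zero (e : ι ≃ κ) (P : GL ι F) {v : ι → F} (h : pullVec e P v = 0) : v = 0 := by
  have h1 : ((P⁻¹ : GL ι F) : Matrix ι ι F) *ᵥ v = 0 := by
    funext i
    have := congrFun h (e i)
    simpa [pullVec] using this
  have h2 := congrArg (fun w => (P : Matrix ι ι F) *ᵥ w) h1
  simpa only [Matrix.mulVec_mulVec, mul_inv_coe, Matrix.one_mulVec, Matrix.mulVec_zero] using h2

/-- The key computation: the action of a transported element on a pulled back vector. -/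
lemma pullVec_mulVec (e : ι ≃ κ) (P : GL ι F) (g : GL κ F) (v : ι → F) :
    pullVec e P (((P * glReindex e.symm g * P⁻¹ : GL ι F) : Matrix ι ι F) *ᵥ v) =
      (g : Matrix κ κ F) *ᵥ pullVec e P v := by
  have h1 : ((P⁻¹ : GL ι F) : Matrix ι ι F) *ᵥ (((P * glReindex e.symm g * P⁻¹ : GL ι F) : Matrix ι ι F) *ᵥ v) =
      ((glReindex e.symm g : GL ι F) : Matrix ι ι F) *ᵥ (((P⁻¹ : GL ι F) : Matrix ι ι F) *ᵥ v) := by
    rw [Matrix.mulVec_mulVec, Matrix.mulVec_mulVec]
    congr 1
    rw [Units.val_mul, Units.val_mul, ← mul_assoc, ← mul_assoc, inv_mul_coe, one_mul]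
  unfold pullVec
  rw [h1]
  set w := ((P⁻¹ : GL ι F) : Matrix ι ι F) *ᵥ v
  have h2 : ((glReindex e.symm g : GL ι F) : Matrix ι ι F) = (g : Matrix κ κ F).submatrix e e := rfl
  rw [h2]
  funext k
  simp only [Function.comp_apply, Matrix.mulVec, dotProduct, Matrix.submatrix_apply, Equiv.apply_symm_apply]
  exact (Equiv.sum_comp e.symm (fun i => (g : Matrix κ κ F) k (e i) * w i)).symm.trans (by simp)

lemma mem_transport (S : Subgroup (GL κ F)) (e : ι ≃ κ) (P : GL ι F) (h : GL ι F) :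
    h ∈ (S.map (glReindex e.symm).toMonoidHom).map (MulAut.conj P).toMonoidHom ↔
      ∃ g ∈ S, P * glReindex e.symm g * P⁻¹ = h := by
  constructor
  · rintro ⟨_, ⟨g, hg, rfl⟩, rfl⟩
    exact ⟨g, hg, rfl⟩
  · rintro ⟨g, hg, rfl⟩
    exact ⟨_, ⟨g, hg, rfl⟩, rfl⟩

/-- Transported similarity groups. -/
lemma transport_le_similarityGroup {S : Subgroup (GL κ F)} {f₀ : (κ → F) → (κ → F) → F}
    (hS : S ≤ similarityGroup f₀) (e : ι ≃ κ) (P : GL ι F) :
    (S.map (glReindex e.symm).toMonoidHom).map (MulAut.conj P).toMonoidHom ≤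
      similarityGroup (pullForm e P f₀) := by
  intro h hh
  obtain ⟨g, hg, rfl⟩ := (mem_transport S e P h).1 hh
  obtain ⟨c, hc⟩ := hS hg
  refine ⟨c, fun u v => ?_⟩
  unfold pullForm
  rw [pullVec_mulVec, pullVec_mulVec, hc]

lemma transport_le_quadSimilarityGroup {S : Subgroup (GL κ F)} {Q₀ : (κ → F) → F}
    (hS : S ≤ quadSimilarityGroup Q₀) (e : ι ≃ κ) (P : GL ι F) :
    (S.map (glReindex e.symm).toMonoidHom).map (MulAut.conj P).toMonoidHom ≤
      quadSimilarityGroup (pullQuad e P Q₀) := by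
  intro h hh
  obtain ⟨g, hg, rfl⟩ := (mem_transport S e P h).1 hh
  obtain ⟨c, hc⟩ := hS hg
  refine ⟨c, fun u => ?_⟩
  unfold pullQuad
  rw [pullVec_mulVec, hc]

lemma pullForm_nondeg (e : ι ≃ κ) (P : GL ι F) {f₀ : (κ → F) → (κ → F) → F} (h : IsNondegenerateForm f₀) :
    IsNondegenerateForm (pullForm e P f₀) := by
  intro v hv
  have hv' : pullVec e P v ≠ 0 := fun h0 => hv (pullVec_eq_zero e P h0)
  obtain ⟨⟨x, hx⟩, ⟨y, hy⟩⟩ := h _ hv'
  obtain ⟨x', rfl⟩ := pullVec_surj e P x
  obtain ⟨y', rfl⟩ := pullVec_surj e P y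
  exact ⟨⟨x', hx⟩, ⟨y', hy⟩⟩

lemma pullForm_bilinear (e : ι ≃ κ) (P : GL ι F) {f₀ : (κ → F) → (κ → F) → F} (h : IsBilinearForm f₀) :
    IsBilinearForm (pullForm e P f₀) where
  add_left x y v := by simp only [pullForm, pullVec_add, h.add_left]
  smul_left c x v := by simp only [pullForm, pullVec_smul, h.smul_left]
  add_right v x y := by simp only [pullForm, pullVec_add, h.add_right]
  smul_right v c x := by simp only [pullForm, pullVec_smul, h.smul_right]

lemma pullForm_symplectic (e : ι ≃ κ) (P : GL ι F) {f₀ : (κ → F) → (κ → F) → F} (h : IsSymplecticForm f₀) :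
    IsSymplecticForm (pullForm e P f₀) where
  bilinear := pullForm_bilinear e P h.bilinear
  skew v w := h.skew _ _
  alternating v := h.alternating _
  nondegenerate := pullForm_nondeg e P h.nondegenerate

lemma pullForm_unitary (e : ι ≃ κ) (P : GL ι F) {σ : F ≃+* F} {f₀ : (κ → F) → (κ → F) → F}
    (h : IsUnitaryForm σ f₀) : IsUnitaryForm σ (pullForm e P f₀) where
  ne_refl := h.ne_refl
  involutive := h.involutive
  add_left x y v := by simp only [pullForm, pullVec_add, h.add_left]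
  smul_left c x v := by simp only [pullForm, pullVec_smul, h.smul_left]
  herm v w := h.herm _ _
  nondegenerate := pullForm_nondeg e P h.nondegenerate

lemma pullQuad_nondeg (e : ι ≃ κ) (P : GL ι F) {Q₀ : (κ → F) → F} (h : IsNondegenerateQuadraticForm Q₀) :
    IsNondegenerateQuadraticForm (pullQuad e P Q₀) := by
  have hp : QuadraticMap.polar (pullQuad e P Q₀) = pullForm e P (QuadraticMap.polar Q₀) := by
    funext u v
    simp only [QuadraticMap.polar, pullQuad, pullForm, pullVec_add]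
  refine ⟨fun c v => ?_, ?_, ?_⟩
  · simp only [pullQuad, pullVec_smul, h.smul]
  · rw [hp]; exact pullForm_bilinear e P h.polar_bilinear
  · rw [hp]; exact pullForm_nondeg e P h.nondegenerate

end Cfsg.Agent.H917
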